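import Groth.Agent.Nakai.Main
import Groth.Agent.Lib.AmpleEmbed
import Groth.Agent.Lib.GenLocusGG
import Groth.Agent.Lib.CurveRR

/-!
Strictly nef modules: semiampleness or effectivity on every subvariety gives ampleness.
-/

set_option autoImplicit false
set_option linter.style.haveILetI false
set_option linter.unusedSectionVars false
set_option backward.isDefEq.respectTransparency false
set_option backward.isDefEq.respectTransparency.types false
set_option maxHeartbeats 800000

universe u

open CategoryTheory CategoryTheory.Limits AlgebraicGeometry TopologicalSpace Opposite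
open Groth.Agent.H23 Groth.Agent.H23.TrivBasic Groth.Agent.H23.PicMul

noncomputable section

namespace Groth.Agent.Nakai

attribute [local instance] PicMul.clMonoid

variable {k : Type u} [Field k] {X : Scheme.{u}} [X.Over (Spec (CommRingCat.of k))]
  [IsProper (X ↘ Spec (CommRingCat.of k))]

variable (k) in
/-- Positive degree on every integral curve. -/
def StrictNef (L : X.Modules) : Prop :=
  ∀ C : X.IdealSheafData, IsIntegral C.subscheme → topologicalKrullDim (C.support : Set X) = 1 →
    0 < Curv2.euler k X (CohB1.tensorMod (ClSub.quotMod C) L) - Curv2.euler k X (ClSub.quotMod C)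

variable (k) in
/-- The curve pairing as a degree. -/
theorem euler_sub_eq_deg {L : X.Modules} (hL : PicF.IsInvertible L) (Z : X.IdealSheafData) :
    letI : Z.subscheme.Over (Spec (CommRingCat.of k)) := ⟨Z.subschemeι ≫ (X ↘ (Spec (CommRingCat.of k)))⟩
    Curv2.euler k X (CohB1.tensorMod (ClSub.quotMod Z) L) - Curv2.euler k X (ClSub.quotMod Z) =
      Curv2.deg k Z.subscheme ((Scheme.Modules.pullback Z.subschemeι).obj L) 1 := by
  letI : Z.subscheme.Over (Spec (CommRingCat.of k)) := ⟨Z.subschemeι ≫ (X ↘ (Spec (CommRingCat.of k)))⟩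
  have h0 := chi_eq k hL Z 0
  have h1 := chi_eq k hL Z 1
  unfold chi at h0 h1
  rw [Int.cast_inj] at h0 h1
  obtain ⟨a₁⟩ := cl_eq_iff.1 (show PicF.cl (CohB1.tensorMod (ClSub.quotMod Z) (CohB1.tensorPow L 1)) =
    PicF.cl (CohB1.tensorMod (ClSub.quotMod Z) L) by rw [cl_tensor, cl_tensor, cl_tensorPow, pow_one])
  obtain ⟨a₀⟩ := cl_eq_iff.1 (show PicF.cl (CohB1.tensorMod (ClSub.quotMod Z) (CohB1.tensorPow L 0)) =
    PicF.cl (ClSub.quotMod Z) by rw [cl_tensor, cl_tensorPow, pow_zero, mul_one])
  obtain ⟨b₁⟩ := cl_eq_iff.1 (show PicF.cl (CohB1.tensorPow ((Scheme.Modules.pullback Z.subschemeι).obj L) 1) =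
    PicF.cl ((Scheme.Modules.pullback Z.subschemeι).obj L) by rw [cl_tensorPow, pow_one])
  obtain ⟨b₀⟩ := cl_eq_iff.1 (show PicF.cl (CohB1.tensorPow ((Scheme.Modules.pullback Z.subschemeι).obj L) 0) =
    PicF.cl (Coh.structureModule Z.subscheme) by rw [cl_tensorPow, pow_zero, one_def])
  rw [CurveCohLib.euler_congr (k := k) a₁, CurveCohLib.euler_congr (k := k) b₁] at h1
  rw [CurveCohLib.euler_congr (k := k) a₀, CurveCohLib.euler_congr (k := k) b₀] at h0
  unfold Curv2.deg
  rw [h1, h0]
  push_cast
  ring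

/-- Triviality of a power on a curve contradicts positivity. -/
theorem finite_of_triv_pow {L : X.Modules} (hL : PicF.IsInvertible L) (hnef : StrictNef k L) {C : Scheme.{u}}
    (j : C ⟶ X) [IsClosedImmersion j] [IsIntegral C] {N : ℕ} (hN : 0 < N)
    (htr : Triv ((Scheme.Modules.pullback j).obj (CohB1.tensorPow L N))) : Finite C := by
  haveI := CurveCohLib.isNoetherian_of_proper (k := k) (X := X)
  haveI : JacobsonSpace X := LocallyOfFiniteType.jacobsonSpace (X ↘ Spec (CommRingCat.of k))
  by_contra hinf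
  rw [not_finite_iff_infinite] at hinf
  have hirr : IsIrreducible (Set.range j) := Set.image_univ ▸
    (IrreducibleSpace.isIrreducible_univ C).image _ j.continuous.continuousOn
  obtain ⟨W, hWC, hWi, hdim⟩ := exists_curve_in j.isClosedEmbedding.isClosed_range hirr
    (Set.infinite_range_of_injective j.isClosedEmbedding.injective)
  let J := Scheme.IdealSheafData.vanishingIdeal W
  let ι := J.subschemeι
  haveI := H23.RedSub.isReduced_vanishingIdeal W
  have hrange : Set.range ι = (W : Set X) := AmpleVan.FiniteSurj.range_vanishingIdeal W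
  haveI : IrreducibleSpace J.subscheme := by
    haveI := Subtype.irreducibleSpace (hrange ▸ hWi : IsIrreducible (Set.range ι))
    exact ι.isEmbedding.toHomeomorph.irreducibleSpace_iff.2 inferInstance
  haveI : IsIntegral J.subscheme := isIntegral_of_irreducibleSpace_of_isReduced _
  letI : J.subscheme.Over (Spec (CommRingCat.of k)) := ⟨ι ≫ (X ↘ Spec (CommRingCat.of k))⟩
  haveI : IsProper (J.subscheme ↘ Spec (CommRingCat.of k)) :=
    inferInstanceAs (IsProper (ι ≫ (X ↘ Spec (CommRingCat.of k))))
  obtain ⟨a, ha⟩ := H23.RedSub.exists_lift_closed ι j (by rw [hrange]; exact hWC)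
  obtain ⟨τ⟩ := triv_pullback_of_factor j a ι ha htr
  have hd1 : topologicalKrullDim J.subscheme = 1 := by
    rw [IsHomeomorph.topologicalKrullDim_eq _
      ((ι.isEmbedding.toHomeomorph).trans (Homeomorph.setCongr hrange)).isHomeomorph]
    exact_mod_cast hdim
  have hpos := hnef J inferInstance (by rw [Scheme.IdealSheafData.coe_support_vanishingIdeal]; exact_mod_cast hdim)
  rw [euler_sub_eq_deg k hL J] at hpos
  obtain ⟨p⟩ := AmpleVan.RelVanish.pullback_tensorPow ι L N
  have h1 := CurveAmple.deg_tensorPow (k := k) hd1 (PicClLib.isInvertible_pullback ι hL) N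
  rw [CurveRR.deg_congr k (p.symm ≪≫ τ)] at h1
  have h2 : Curv2.deg k J.subscheme (Coh.structureModule J.subscheme) 1 = 0 := by
    unfold Curv2.deg
    push_cast
    ring
  rw [h2] at h1
  have hN' : (0 : ℤ) < N := by exact_mod_cast hN
  nlinarith

variable (k) in
include k in
/-- A strictly nef module with a generated power is ample. -/
theorem isAmple_of_semiample {L : X.Modules} (hL : PicF.IsInvertible L) (hnef : StrictNef k L) {m : ℕ}
    (hgg : Curv2.IsGloballyGenerated (CohB1.tensorPow L (m + 1))) : CohB1.IsAmple L := by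
  refine AmpleX.isAmple_of_tensorPow hL (Nat.succ_pos m) (AVAmple.isAmple_of_nontriv (X ↘ Spec (CommRingCat.of k))
    (InvX.isInvertible_tensorPow hL _) (GenLocusGG.exists_mem_locus (InvX.isInvertible_tensorPow hL _) hgg)
    fun {C} j hj hC htr => ?_)
  haveI := hj; haveI := hC
  exact finite_of_triv_pow hL hnef j (Nat.succ_pos m) htr

variable (k) in
include k in
/-- The inductive step. -/
theorem isAmple_restrict_of_effective {L : X.Modules} (hL : PicF.IsInvertible L) (hnef : StrictNef k L)
    (heff : ∀ Z : X.IdealSheafData, IsIntegral Z.subscheme →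
      ∃ (m : ℕ) (s : Coh.structureModule Z.subscheme ⟶
          CohB1.tensorPow ((Scheme.Modules.pullback Z.subschemeι).obj L) (m + 1)), s ≠ 0) (C : Closeds X) :
    CohB1.IsAmple ((Scheme.Modules.pullback (Scheme.IdealSheafData.vanishingIdeal C).subschemeι).obj L) := by
  haveI := CurveCohLib.isNoetherian_of_proper (k := k) (X := X)
  induction C using WellFoundedLT.induction with
  | ind C IH =>
  let π := X ↘ Spec (CommRingCat.of k)
  let J := Scheme.IdealSheafData.vanishingIdeal C
  let ι := J.subschemeι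
  let Y := J.subscheme
  haveI : IsReduced Y := H23.RedSub.isReduced_vanishingIdeal C
  have hr : Set.range ι = (C : Set X) := AmpleVan.FiniteSurj.range_vanishingIdeal C
  letI : Y.Over (Spec (CommRingCat.of k)) := ⟨ι ≫ π⟩
  haveI : IsProper (Y ↘ Spec (CommRingCat.of k)) := inferInstanceAs (IsProper (ι ≫ π))
  haveI := CurveCohLib.isNoetherian_of_proper (k := k) (X := Y)
  let LY := (Scheme.Modules.pullback ι).obj L
  have hLY : PicF.IsInvertible LY := PicClLib.isInvertible_pullback ι hL
  have hbelow : AmpleBelow LY := fun D hD => by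
    let w := (Scheme.IdealSheafData.vanishingIdeal D).subschemeι
    let C' : Closeds X := ⟨ι '' (D : Set Y), ι.isClosedEmbedding.isClosedMap _ D.isClosed⟩
    have hlt : C' < C := lt_of_le_of_ne
      (show (C' : Set X) ⊆ C from hr ▸ Set.image_subset_range _ _) fun h => hD (by
        have h1 : ι '' (D : Set Y) = ι '' Set.univ := by rw [Set.image_univ, hr]; exact congrArg SetLike.coe h
        exact ι.isClosedEmbedding.injective.image_injective h1)
    haveI := H23.RedSub.isReduced_vanishingIdeal D
    obtain ⟨a, ha⟩ := H23.RedSub.exists_lift_closed (w ≫ ι) (Scheme.IdealSheafData.vanishingIdeal C').subschemeι (by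
      rw [AmpleVan.FiniteSurj.range_vanishingIdeal]
      rintro _ ⟨z, rfl⟩
      exact ⟨w z, (AmpleVan.FiniteSurj.range_vanishingIdeal D).le ⟨z, rfl⟩, rfl⟩)
    haveI : IsClosedImmersion (a ≫ (Scheme.IdealSheafData.vanishingIdeal C').subschemeι) := by rw [ha]; infer_instance
    haveI : IsClosedImmersion a := IsClosedImmersion.of_comp a (Scheme.IdealSheafData.vanishingIdeal C').subschemeι
    haveI : CompactSpace (Scheme.IdealSheafData.vanishingIdeal D).subscheme := w.isClosedEmbedding.compactSpace
    exact AmpleX.isAmple_of_iso ((Scheme.Modules.pullbackComp a _).app L ≪≫ (Scheme.Modules.pullbackCongr ha).app L ≪≫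
        ((Scheme.Modules.pullbackComp w ι).app L).symm)
      (AmpleVan.FiniteSurj.isAmple_pullback_of_isAffineHom a (IH C' hlt))
  rcases isEmpty_or_nonempty Y with hY | hY
  · exact AmpleX.isAmple_iff.2 ⟨hLY, inferInstance, fun y => isEmptyElim y⟩
  by_cases hirr : IrreducibleSpace Y
  swap
  · have hs : ¬ IsPreirreducible (Set.univ : Set Y) := fun h => hirr { isPreirreducible_univ := h, toNonempty := hY }
    rw [isPreirreducible_iff_isClosed_union_isClosed] at hs
    push Not at hs
    obtain ⟨A, B, hA, hB, hAB, hnA, hnB⟩ := hs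
    classical
    refine AmpleVan.FiniteSurj.isAmple_of_finite_cover (A := k) hLY ({⟨A, hA⟩, ⟨B, hB⟩} : Finset (Closeds Y)) ?_ fun D hD => ?_
    · refine top_le_iff.1 fun y _ => ?_
      rw [Finset.sup_insert, Finset.sup_singleton]
      exact hAB (Set.mem_univ y)
    · rw [Finset.mem_insert, Finset.mem_singleton] at hD
      rcases hD with rfl | rfl
      · exact hbelow _ fun h => hnA (fun y _ => h.ge (Set.mem_univ y))
      · exact hbelow _ fun h => hnB (fun y _ => h.ge (Set.mem_univ y))
  haveI : IsIntegral Y := isIntegral_of_irreducibleSpace_of_isReduced _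
  let p := Y ↘ Spec (CommRingCat.of k)
  have hdimY := VarDim.topologicalKrullDim_eq_deg_genericPoint p
  rcases Nat.eq_zero_or_pos (VarDim.deg p (genericPoint Y)) with h0 | h0
  · haveI : Subsingleton Y := ⟨fun a b => by
      rw [← VarDim.eq_of_specializes_of_deg_le p (genericPoint_specializes a) (by omega),
        ← VarDim.eq_of_specializes_of_deg_le p (genericPoint_specializes b) (by omega)]⟩
    haveI := Euler.isAffine_of_subsingleton Y
    exact AmpleX.isAmple_of_isQuasiAffine hLY
  have hdimC : topologicalKrullDim (J.support : Set X) = (VarDim.deg p (genericPoint Y) : ℕ) := by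
    rw [Scheme.IdealSheafData.coe_support_vanishingIdeal]
    rw [← IsHomeomorph.topologicalKrullDim_eq _ ((ι.isEmbedding.toHomeomorph).trans (Homeomorph.setCongr hr)).isHomeomorph]
    exact hdimY
  obtain ⟨m, s, hs⟩ := heff J inferInstance
  have hs' : InvX.one s ≠ 0 := fun h => hs (AmpleX.eq_zero_of_one_eq_zero _ h)
  let n := m + 1
  have hn : 0 < n := Nat.succ_pos m
  obtain ⟨j, hj⟩ := exists_generated_pow k (InvX.isInvertible_tensorPow hLY n) (hbelow.pow hn) hs'
  refine AmpleX.isAmple_of_tensorPow hLY hn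
    (AmpleX.isAmple_of_tensorPow (InvX.isInvertible_tensorPow hLY n) (Nat.succ_pos j) ?_)
  refine AVAmple.isAmple_of_nontriv p (InvX.isInvertible_tensorPow (InvX.isInvertible_tensorPow hLY n) _) hj
    fun {W} i hi hW htr => ?_
  haveI := hi; haveI := hW
  refine finite_of_triv_pow hL hnef (i ≫ ι) (Nat.mul_pos hn (Nat.succ_pos j)) ?_
  obtain ⟨e₀⟩ := cl_eq_iff.1 (show PicF.cl (CohB1.tensorPow (CohB1.tensorPow L n) (j + 1)) = PicF.cl (CohB1.tensorPow L (n * (j + 1))) by
    simp only [cl_tensorPow, ← pow_mul])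
  refine Triv.of_iso ((Scheme.Modules.pullback (i ≫ ι)).mapIso e₀) ?_
  obtain ⟨e₁⟩ := AmpleVan.RelVanish.pullback_tensorPow ι (CohB1.tensorPow L n) (j + 1)
  obtain ⟨e₂⟩ := AmpleVan.RelVanish.pullback_tensorPow ι L n
  obtain ⟨e₃⟩ := AmpleVan.RelVanish.tensorPow_congr e₂ (j + 1)
  exact Triv.of_iso ((Scheme.Modules.pullback i).mapIso (e₁ ≪≫ e₃).symm ≪≫
    (Scheme.Modules.pullbackComp i ι).app _) htr

variable (k) in
include k in
/-- A strictly nef module effective on every subvariety is ample. -/
theorem isAmple_of_effective {L : X.Modules} (hL : PicF.IsInvertible L) (hnef : StrictNef k L)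
    (heff : ∀ Z : X.IdealSheafData, IsIntegral Z.subscheme →
      ∃ (m : ℕ) (s : Coh.structureModule Z.subscheme ⟶
          CohB1.tensorPow ((Scheme.Modules.pullback Z.subschemeι).obj L) (m + 1)), s ≠ 0) : CohB1.IsAmple L := by
  refine AmpleVan.FiniteSurj.isAmple_of_finite_cover (A := k) hL {⊤} Finset.sup_singleton fun C _ =>
    isAmple_restrict_of_effective k hL hnef heff C

variable (k) in
include k in
/-- A locus of a generated module containing no complete curve is affine. -/
theorem isAffineOpen_locus {L : X.Modules} (hL : PicF.IsInvertible L) (hgg : Curv2.IsGloballyGenerated L)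
    (s : Γ(L, ⊤))
    (hcurves : ∀ C : X.IdealSheafData, IsIntegral C.subscheme → topologicalKrullDim (C.support : Set X) = 1 →
      ¬ ((C.support : Set X) ⊆ (locus s : Set X))) : IsAffineOpen (locus s) := by
  classical
  let f := X ↘ Spec (CommRingCat.of k)
  haveI := CurveCohLib.isNoetherian_of_proper (k := k) (X := X)
  haveI : JacobsonSpace X := LocallyOfFiniteType.jacobsonSpace f
  choose t ht using GenLocusGG.exists_mem_locus hL hgg
  obtain ⟨S, hS⟩ := isCompact_univ.elim_finite_subcover (fun x => (locus (t x) : Set X))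
    (fun x => (locus (t x)).isOpen) (fun x _ => Set.mem_iUnion.2 ⟨x, ht x⟩)
  let e : Fin S.card ≃ S := S.equivFin.symm
  let sec : Fin (S.card + 1) → Γ(L, ⊤) := Fin.cons s fun i => t (e i)
  have hgen : ProjUP.GeneratedBy L sec := AVAmple.generatedBy_of_locus _ fun x => by
    obtain ⟨i, hi⟩ := Set.mem_iUnion.1 (hS (Set.mem_univ x))
    obtain ⟨hiS, hx⟩ := Set.mem_iUnion.1 hi
    exact ⟨(e.symm ⟨i, hiS⟩).succ, by simp only [sec, Fin.cons_succ, Equiv.apply_symm_apply]; exact hx⟩
  obtain ⟨r, hr, τ, hτ⟩ := S3572.result S.card f L hL sec hgen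
  haveI hp : IsProper (CohB1.ProjSpace.toSpec S.card k) := PnCoh.Chow.isProper_toSpec S.card k
  haveI : IsProper r := by
    haveI : IsProper (r ≫ CohB1.ProjSpace.toSpec S.card k) := hr ▸ inferInstanceAs (IsProper f)
    exact IsProper.of_comp r (CohB1.ProjSpace.toSpec S.card k)
  let D := Proj.basicOpen (CohB1.polyGrading S.card k) (MvPolynomial.X (0 : Fin (S.card + 1)))
  have hpre : r ⁻¹ᵁ D = locus s := AmpleEmbed.preimage_chart r τ 0 ((hτ 0).trans (by simp [sec]))
  haveI : IsAffine D.toScheme := Proj.isAffineOpen_basicOpen _ (MvPolynomial.X (0 : Fin (S.card + 1))) (ProjPt.X_mem 0) one_pos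
  haveI : JacobsonSpace (r ⁻¹ᵁ D).toScheme := LocallyOfFiniteType.jacobsonSpace ((r ⁻¹ᵁ D).ι ≫ f)
  haveI : LocallyQuasiFinite (r ∣_ D) := AVAmple.locallyQuasiFinite_of_closed (r ∣_ D) fun q hq => by
    have hcl : IsClosed ((r ⁻¹ᵁ D).ι '' ((r ∣_ D) ⁻¹' {q})) := by
      have h0 : IsClosed ({D.ι q} : Set (CohB1.ProjSpace S.card k)) := by
        haveI : JacobsonSpace (Proj (CohB1.polyGrading S.card k)) :=
          LocallyOfFiniteType.jacobsonSpace (CohB1.ProjSpace.toSpec S.card k)
        have := (D.ι.isOpenEmbedding.preimage_closedPoints).ge (mem_closedPoints_iff.2 hq)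
        exact mem_closedPoints_iff.1 this
      have h1 : (r ⁻¹ᵁ D).ι '' ((r ∣_ D) ⁻¹' {q}) = r ⁻¹' {D.ι q} := by
        ext x
        constructor
        · rintro ⟨y, hy, rfl⟩
          show r ((r ⁻¹ᵁ D).ι y) = D.ι q
          rw [← Scheme.Hom.comp_apply, ← morphismRestrict_ι, Scheme.Hom.comp_apply, show (r ∣_ D) y = q from hy]
          rfl
        · intro hx
          have hxD : r x ∈ D := by rw [show r x = D.ι q from hx]; exact q.2
          refine ⟨⟨x, hxD⟩, ?_, rfl⟩
          refine D.ι.isOpenEmbedding.injective ?_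
          rw [← Scheme.Hom.comp_apply, morphismRestrict_ι, Scheme.Hom.comp_apply]
          exact hx
      rw [h1]
      exact h0.preimage r.continuous
    by_contra hinf
    set Z := (r ⁻¹ᵁ D).ι '' ((r ∣_ D) ⁻¹' {q}) with hZdef
    have hZinf : Z.Infinite := fun hf => hinf (Set.Finite.of_finite_image hf
      (r ⁻¹ᵁ D).ι.isOpenEmbedding.injective.injOn)
    obtain ⟨T, hTf, hTc, hTi, hT⟩ := NoetherianSpace.exists_finite_set_isClosed_irreducible hcl
    obtain ⟨W, hW, hWinf⟩ : ∃ W ∈ T, W.Infinite := by
      by_contra hno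
      push Not at hno
      exact hZinf (hT ▸ hTf.sUnion hno)
    obtain ⟨C, hCW, hCi, hCd⟩ := exists_curve_in (hTc W hW) (hTi W hW) hWinf
    let J := Scheme.IdealSheafData.vanishingIdeal C
    haveI := H23.RedSub.isReduced_vanishingIdeal C
    have hrange : Set.range J.subschemeι = (C : Set X) := AmpleVan.FiniteSurj.range_vanishingIdeal C
    haveI : IrreducibleSpace J.subscheme := by
      haveI := Subtype.irreducibleSpace (hrange ▸ hCi : IsIrreducible (Set.range J.subschemeι))
      exact J.subschemeι.isEmbedding.toHomeomorph.irreducibleSpace_iff.2 inferInstance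
    haveI : IsIntegral J.subscheme := isIntegral_of_irreducibleSpace_of_isReduced _
    refine hcurves J inferInstance (by rw [Scheme.IdealSheafData.coe_support_vanishingIdeal]; exact_mod_cast hCd) ?_
    rw [Scheme.IdealSheafData.coe_support_vanishingIdeal, ← hpre]
    intro x hx
    obtain ⟨y, -, rfl⟩ := (hT ▸ Set.subset_sUnion_of_mem hW) (hCW hx)
    exact y.2
  haveI : IsFinite (r ∣_ D) := IsFinite.of_isProper_of_locallyQuasiFinite _
  rw [← hpre]
  exact isAffine_of_isAffineHom (r ∣_ D)

end Groth.Agent.Nakai
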