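import Groth.Agent.Nakai.Vanish
import Groth.Agent.CycLib.Finite
import Groth.Agent.S4808
import Groth.Agent.RegLoc6.Normal
import Groth.Agent.DimFormula.Scheme
import Groth.Agent.DimFormula.QuasiSection

/-!
A proper birational morphism onto a normal scheme is an isomorphism in codimension one.
-/

set_option autoImplicit false
set_option linter.style.haveILetI false
set_option linter.unusedSectionVars false
set_option backward.isDefEq.respectTransparency false
set_option backward.isDefEq.respectTransparency.types false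

universe u

open CategoryTheory CategoryTheory.Limits AlgebraicGeometry TopologicalSpace Opposite

noncomputable section

namespace Groth.Agent.Nakai

theorem exists_iso_codim_one {X Y : Scheme.{u}} [IsIntegral X] [IsIntegral Y] [IsLocallyNoetherian Y]
    (hN : ∀ y : Y, IsIntegrallyClosed (Y.presheaf.stalk y)) (f : X ⟶ Y) [IsProper f]
    {U : Y.Opens} (hU : genericPoint Y ∈ U) [IsIso (f ∣_ U)] :
    ∃ V : Y.Opens, genericPoint Y ∈ V ∧ IsIso (f ∣_ V) ∧
      ∀ y : Y, y ∉ V → 2 ≤ ringKrullDim (Y.presheaf.stalk y) := by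
  obtain ⟨η', hη'⟩ := (f ∣_ U).homeomorph.surjective ⟨genericPoint Y, hU⟩
  have hη'' : f ((f ⁻¹ᵁ U).ι η') = genericPoint Y := by
    rw [← Scheme.Hom.comp_apply, ← morphismRestrict_ι, Scheme.Hom.comp_apply,
      show (f ∣_ U) η' = ⟨genericPoint Y, hU⟩ from hη']
    rfl
  have hgen : f (genericPoint X) = genericPoint Y :=
    ((hη'' ▸ (genericPoint_specializes ((f ⁻¹ᵁ U).ι η')).map f.continuous :
      f (genericPoint X) ⤳ genericPoint Y).antisymm (genericPoint_specializes _)).eq
  have hgU : genericPoint X ∈ f ⁻¹ᵁ U := show f (genericPoint X) ∈ U by rw [hgen]; exact hU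
  haveI hst : IsIso (f.stalkMap (genericPoint X)) :=
    ((MorphismProperty.isomorphisms CommRingCat.{u}).arrow_mk_iso_iff
      (morphismRestrictStalkMap f U ⟨genericPoint X, hgU⟩)).1
      (inferInstanceAs (IsIso ((f ∣_ U).stalkMap ⟨genericPoint X, hgU⟩)))
  have hfin : (f.residueFieldMap (genericPoint X)).hom.Finite := by
    refine RingHom.Finite.of_surjective _ fun b => ?_
    obtain ⟨b', rfl⟩ := X.residue_surjective (genericPoint X) b
    obtain ⟨a, rfl⟩ := ((ConcreteCategory.isIso_iff_bijective (f.stalkMap (genericPoint X))).1 hst).2 b'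
    exact ⟨Y.residue _ a, ConcreteCategory.congr_hom (Scheme.residue_residueFieldMap f (genericPoint X)) a⟩
  let S := {V : Y.Opens // IsIso (f ∣_ V)}
  let V : Y.Opens := ⨆ W : S, W.1
  have hle : U ≤ V := le_iSup (fun W : S => W.1) (⟨U, inferInstance⟩ : S)
  refine ⟨V, hle hU, ?_, fun y hy => ?_⟩
  · refine (MorphismProperty.isomorphisms.iff _).1 ?_
    haveI : IsZariskiLocalAtTarget (MorphismProperty.isomorphisms Scheme.{u}) := inferInstance
    refine IsZariskiLocalAtTarget.of_forall_exists_morphismRestrict fun z => ?_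
    obtain ⟨W, hW⟩ := Opens.mem_iSup.1 z.2
    refine ⟨V.ι ⁻¹ᵁ W.1, hW, ((MorphismProperty.isomorphisms Scheme.{u}).arrow_mk_iso_iff
      (morphismRestrictRestrict f V (V.ι ⁻¹ᵁ W.1) ≪≫ morphismRestrictEq f (by
        rw [Scheme.Hom.image_preimage_eq_opensRange_inf, Scheme.Opens.opensRange_ι]
        exact inf_eq_right.2 (le_iSup (fun W : S => W.1) W)))).2 W.2⟩
  · by_contra hdim
    have hle1 : ringKrullDim (Y.presheaf.stalk y) ≤ 1 := Order.le_of_lt_succ (not_le.mp hdim)
    rw [DimFormula.ringKrullDim_stalk] at hle1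
    have hc : DimFormula.codim y ≤ 1 := by exact_mod_cast hle1
    have hne : DimFormula.codim y ≠ 0 := fun h0 => hy (hle (by
      have h1 : DimFormula.cd (genericPoint Y) y ≤ DimFormula.codim y := DimFormula.cd_le_codim (genericPoint_specializes y)
      rw [← (DimFormula.cd_eq_zero_iff (genericPoint_specializes y)).1 (by omega)]
      exact hU))
    obtain ⟨W, hyW, hWfin⟩ := CycLib.exists_isFinite_nhd f hgen hfin (ξ := y) (by omega)
    haveI := hWfin
    haveI : Nonempty W.toScheme := ⟨⟨y, hyW⟩⟩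
    have hgW : genericPoint Y ∈ W := (genericPoint_specializes y).mem_open W.isOpen hyW
    have hgW' : genericPoint X ∈ f ⁻¹ᵁ W := show f (genericPoint X) ∈ W by rw [hgen]; exact hgW
    haveI : Nonempty (f ⁻¹ᵁ W).toScheme := ⟨⟨_, hgW'⟩⟩
    haveI : IsIntegral W.toScheme := isIntegral_of_isOpenImmersion W.ι
    haveI : IsIntegral (f ⁻¹ᵁ W).toScheme := isIntegral_of_isOpenImmersion (f ⁻¹ᵁ W).ι
    have hgp : genericPoint (f ⁻¹ᵁ W).toScheme = ⟨genericPoint X, hgW'⟩ :=
      (f ⁻¹ᵁ W).ι.isOpenEmbedding.injective (genericPoint_eq_of_isOpenImmersion (f ⁻¹ᵁ W).ι)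
    have hgp' : genericPoint W.toScheme = ⟨genericPoint Y, hgW⟩ :=
      W.ι.isOpenEmbedding.injective (genericPoint_eq_of_isOpenImmersion W.ι)
    have hiso : IsIso (f ∣_ W) := by
      refine S4808.result (fun z => ?_) (f ∣_ W) ?_ ?_
      · haveI := hN z.1
        exact IsIntegrallyClosed.of_equiv (W.stalkIso z).commRingCatIsoToRingEquiv.symm
      · rw [hgp, hgp']
        exact Subtype.ext ((morphismRestrict_base_coe f W _).trans hgen)
      · rw [hgp]
        exact ((MorphismProperty.isomorphisms CommRingCat.{u}).arrow_mk_iso_iff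
          (morphismRestrictStalkMap f W ⟨genericPoint X, hgW'⟩)).2 hst
    exact hy (le_iSup (fun W : S => W.1) (⟨W, hiso⟩ : S) hyW)

end Groth.Agent.Nakai
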