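import Groth.Agent.Nakai.SurfCriterion
import Groth.Agent.Nakai.Birat
import Groth.Agent.PnCoh.Chow.Exists
import Groth.Agent.AmpleVan.Pull
import Groth.Agent.AmpleX.Pow
import Groth.Agent.RefX.ExtSect
import Groth.Agent.RefX.Reflexive
import Groth.Agent.Lib.CurveOnSurf
import Groth.Agent.InvUfdLib.Pushforward
import Groth.Agent.Lib.AVAmple

/-!
A regular proper integral surface over a field is projective.
-/

set_option autoImplicit false
set_option linter.style.haveILetI false
set_option linter.unusedSectionVars false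
set_option backward.isDefEq.respectTransparency false
set_option backward.isDefEq.respectTransparency.types false
set_option maxHeartbeats 1000000

universe u

open CategoryTheory CategoryTheory.Limits AlgebraicGeometry TopologicalSpace Opposite
open Groth.Agent.H23 Groth.Agent.H23.TrivBasic Groth.Agent.H23.PicMul

noncomputable section

namespace Groth.Agent.Nakai

attribute [local instance] PicMul.clMonoid

/-- Invertible modules are reflexive. -/
theorem isReflexive_of_isInvertible {X : Scheme.{u}} [IsLocallyNoetherian X] {L : X.Modules}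
    (hL : PicF.IsInvertible L) : RefHull.IsReflexive L := by
  refine (RefX.isReflexive_iff (AmpleVan.isCoh_invertible hL)).2 fun x => ?_
  obtain ⟨U, hxU, e, he⟩ := InvX.exists_frame hL x
  let φ : X.presheaf.stalk x →ₗ[X.presheaf.stalk x] L.presheaf.stalk x :=
    LinearMap.toSpanSingleton _ _ (L.presheaf.germ U x hxU e)
  have hb : Function.Bijective φ := he.germ_bijective hxU
  haveI : Module.Free (X.presheaf.stalk x) (L.presheaf.stalk x) :=
    Module.Free.of_equiv (LinearEquiv.ofBijective φ hb)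
  haveI : Module.Finite (X.presheaf.stalk x) (L.presheaf.stalk x) :=
    Module.Finite.equiv (LinearEquiv.ofBijective φ hb)
  exact inferInstanceAs (Module.IsReflexive (X.presheaf.stalk x) (L.presheaf.stalk x))

/-- A section which is a frame somewhere is not zero. -/
theorem ne_zero_of_mem_locus {X : Scheme.{u}} {L : X.Modules} {s : Γ(L, ⊤)} {x : X} (h : x ∈ locus s) :
    s ≠ 0 := fun h0 => by
  have hb := (isFrame_res_of_le_locus (s := s) le_rfl).germ_bijective h
  rw [InvX.germ_res'] at hb
  simp only [h0, map_zero, smul_zero] at hb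
  exact zero_ne_one (hb.1 (rfl : (fun _ : X.presheaf.stalk x => (0 : L.presheaf.stalk x)) 0 = (fun _ : X.presheaf.stalk x => (0 : L.presheaf.stalk x)) 1))

/-- The two loci of a global section agree. -/
theorem locus_eq_ampleX {X : Scheme.{u}} {L : X.Modules} (s : Γ(L, ⊤)) : locus s = AmpleX.locus s := by
  rw [locus, AmpleX.genLocus_eq_locus, InvX.one_ofSect]

variable (k : Type u) [Field k] {X : Scheme.{u}} [X.Over (Spec (CommRingCat.of k))]
  [IsProper (X ↘ Spec (CommRingCat.of k))] [IsIntegral X]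

include k in
/-- An invertible module with sections separating points inside an open set missing only closed points is ample. -/
theorem isAmple_of_separates (hdim : topologicalKrullDim X = 2) {L : X.Modules} (hL : PicF.IsInvertible L)
    (V : X.Opens) (hgV : genericPoint X ∈ V)
    (hV : ∀ x : X, x ∉ V → VarDim.deg (X ↘ Spec (CommRingCat.of k)) x = 0)
    (hsep : ∀ (x : X), x ∈ V → ∀ U : X.Opens, x ∈ U →
      ∃ (m : ℕ) (_ : 0 < m) (t : Γ(CohB1.tensorPow L m, ⊤)), x ∈ locus t ∧ locus t ⊓ V ≤ U) :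
    CohB1.IsAmple L := by
  haveI := CurveCohLib.isNoetherian_of_proper (k := k) (X := X)
  let π := X ↘ Spec (CommRingCat.of k)
  haveI : JacobsonSpace X := LocallyOfFiniteType.jacobsonSpace π
  have hclosed : ∀ x : X, IsClosed ({x} : Set X) → VarDim.deg π x = 0 := fun x hx => by
    have h := VarDim.topologicalKrullDim_closure_singleton π x
    rw [hx.closure_eq] at h
    have h0 : topologicalKrullDim ({x} : Set X) ≤ 0 := by
      have : Subsingleton ({x} : Set X) := Set.subsingleton_singleton.coe_sort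
      exact topologicalKrullDim_zero_of_discreteTopology _
    rw [h] at h0
    exact Nat.le_zero.1 (by exact_mod_cast h0)
  have hgen : VarDim.deg π (genericPoint X) = 2 := by
    have h : (VarDim.deg π (genericPoint X) : WithBot ℕ∞) = 2 :=
      (VarDim.topologicalKrullDim_eq_deg_genericPoint π).symm.trans hdim
    exact_mod_cast h
  have hsecond : ∀ η : X, η ∈ V → VarDim.deg π η ≠ 0 →
      ∃ (z : X), η ⤳ z ∧ z ∈ V ∧ ∃ (m : ℕ) (_ : 0 < m) (t : Γ(CohB1.tensorPow L m, ⊤)),
        η ∈ locus t ∧ z ∉ locus t := by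
    intro η hη h0
    obtain ⟨z, ⟨hz1, hz2⟩, hzc⟩ := nonempty_inter_closedPoints
      (Z := closure ({η} : Set X) ∩ (V : Set X)) ⟨η, subset_closure rfl, hη⟩
      (isClosed_closure.isLocallyClosed.inter V.2.isLocallyClosed)
    have hzc' : IsClosed ({z} : Set X) := mem_closedPoints_iff.1 hzc
    have hne : η ≠ z := fun h => h0 (h ▸ hclosed z hzc')
    obtain ⟨m, hm, t, ht, hle⟩ := hsep η hη ⟨({z} : Set X)ᶜ, hzc'.isOpen_compl⟩ hne
    exact ⟨z, specializes_iff_mem_closure.2 hz1, hz2, m, hm, t, ht, fun h => hle ⟨h, hz2⟩ rfl⟩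
  obtain ⟨z₀, -, -, m₀, hm₀, t₀, ht₀, hz₀⟩ := hsecond (genericPoint X) hgV (by rw [hgen]; decide)
  refine AmpleX.isAmple_of_tensorPow hL hm₀
    (isAmple_of_section k hdim (InvX.isInvertible_tensorPow hL m₀) (ne_zero_of_mem_locus ht₀) ⟨z₀, hz₀⟩ ?_)
  intro Z hZ hZd
  haveI := hZ
  let i := Z.subschemeι
  letI : Z.subscheme.Over (Spec (CommRingCat.of k)) := ⟨i ≫ π⟩
  haveI : IsProper (Z.subscheme ↘ Spec (CommRingCat.of k)) := inferInstanceAs (IsProper (i ≫ π))
  haveI := CurveCohLib.isNoetherian_of_proper (k := k) (X := Z.subscheme)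
  have hiL := PicClLib.isInvertible_pullback i hL
  have hdZ : topologicalKrullDim Z.subscheme = 1 := by
    rw [IsHomeomorph.topologicalKrullDim_eq _
      ((i.isEmbedding.toHomeomorph).trans (Homeomorph.setCongr Z.range_subschemeι)).isHomeomorph, hZd]
  have hη : VarDim.deg π (i (genericPoint Z.subscheme)) = 1 := by
    have h3 := VarDim.tdeg_comp i π (genericPoint Z.subscheme)
    rw [VarDim.rdeg_preimmersion, add_zero, ← VarDim.deg_eq_tdeg, ← VarDim.deg_eq_tdeg] at h3
    have h4 : VarDim.deg (i ≫ π) (genericPoint Z.subscheme) = VarDim.deg π (i (genericPoint Z.subscheme)) := by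
      exact_mod_cast h3
    have h5 : (VarDim.deg (i ≫ π) (genericPoint Z.subscheme) : WithBot ℕ∞) = 1 :=
      (VarDim.topologicalKrullDim_eq_deg_genericPoint (i ≫ π)).symm.trans hdZ
    rw [← h4]
    exact_mod_cast h5
  have hηV : i (genericPoint Z.subscheme) ∈ V := by
    by_contra hn
    exact absurd (hη.symm.trans (hV _ hn)) one_ne_zero
  obtain ⟨z, hz, -, m, hm, t, htη, htz⟩ := hsecond _ hηV (by omega)
  obtain ⟨e⟩ := PicClLib.nonempty_pullback_structureModule i
  have hLm := InvX.isInvertible_tensorPow hL m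
  obtain ⟨s, hs⟩ := AmpleX.exists_section_of_cl_eq
    (B := CohB1.tensorPow ((Scheme.Modules.pullback i).obj L) m)
    (by
      obtain ⟨q⟩ := AmpleVan.RelVanish.pullback_tensorPow i L m
      exact cl_eq_iff.2 ⟨q⟩) (e.symm.hom ≫ (Scheme.Modules.pullback i).map (InvX.ofSect t))
  rw [InvX.genLocus_pullback i hLm _ e.symm] at hs
  replace hs : locus (InvX.one s) = i ⁻¹ᵁ locus t := by
    unfold locus
    rw [AVAmple.ofSect_one]
    exact hs
  have h1 : genericPoint Z.subscheme ∈ locus (InvX.one s) := hs.symm ▸ htη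
  have h2 : locus (InvX.one s) ≠ ⊤ := fun h => by
    obtain ⟨w, hw⟩ : z ∈ Set.range i := by
      rw [Z.range_subschemeι]
      exact hz.mem_closed Z.support.isClosed (Z.range_subschemeι ▸ ⟨_, rfl⟩)
    exact htz (hw ▸ (show i w ∈ locus t from (hs ▸ h.symm ▸ Opens.mem_top w : w ∈ i ⁻¹ᵁ locus t)))
  have hpos := CurveAmple.deg_pos_of_section (k := k) hdZ (InvX.isInvertible_tensorPow hiL m)
    (ne_zero_of_mem_locus h1) h2
  rw [CurveAmple.deg_tensorPow (k := k) hdZ hiL] at hpos
  obtain ⟨q⟩ := AmpleVan.RelVanish.pullback_tensorPow i L m₀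
  rw [CurveRR.deg_congr k q, CurveAmple.deg_tensorPow (k := k) hdZ hiL]
  exact mul_pos (by exact_mod_cast hm₀) (pos_of_mul_pos_right hpos (by positivity))

include k in
/-- A regular proper integral surface has an ample invertible module. -/
theorem exists_isAmple_of_regular (hdim : topologicalKrullDim X = 2)
    (hreg : ∀ x : X, IsRegularLocalRing (X.presheaf.stalk x)) :
    ∃ H : X.Modules, CohB1.IsAmple H := by
  haveI := CurveCohLib.isNoetherian_of_proper (k := k) (X := X)
  let f := X ↘ Spec (CommRingCat.of k)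
  have hN : ∀ x : X, IsIntegrallyClosed (X.presheaf.stalk x) := fun x => by
    haveI := hreg x
    exact RegLoc6.isIntegrallyClosed_of_isRegularLocalRing (X.presheaf.stalk x)
  have hnorm : Pi1.IsNormalScheme X := fun x => by
    haveI := hreg x
    exact ⟨RegLoc6.isDomain_of_isRegularLocalRing _, hN x⟩
  obtain ⟨N, X', π, p, hX', hp, -, hπ, U, hU, hiso⟩ := PnCoh.Chow.chow_integral f
  haveI := hX'
  haveI := hp
  haveI := hπ
  haveI := hiso
  have hgU : genericPoint X ∈ U := by
    obtain ⟨⟨y, hy⟩⟩ := hU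
    exact (genericPoint_specializes y).mem_open U.2 hy
  obtain ⟨V, hgV, hisoV, hout⟩ := exists_iso_codim_one hN π hgU
  haveI := hisoV
  have hout' : ∀ x : X, x ∉ V → VarDim.deg f x = 0 := fun x hx => by
    obtain ⟨b, hb, ⟨η, -, hη2⟩, -⟩ := VarDim.exists_deg_add_stalk f x
    have h2 : (2 : WithBot ℕ∞) ≤ (b : WithBot ℕ∞) := hb ▸ hout x hx
    have h2' : 2 ≤ b := by exact_mod_cast h2
    have h3 := VarDim.deg_le_of_specializes f (genericPoint_specializes η)
    have h4 : (VarDim.deg f (genericPoint X) : WithBot ℕ∞) = 2 :=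
      (VarDim.topologicalKrullDim_eq_deg_genericPoint f).symm.trans hdim
    have h4' : VarDim.deg f (genericPoint X) = 2 := by exact_mod_cast h4
    omega
  obtain ⟨H, hH⟩ := AmpleVan.exists_ample_of_closedImmersion_projSpace p
  haveI : CompactSpace V.toScheme := isCompact_iff_compactSpace.1 (NoetherianSpace.isCompact (V : Set X))
  let j : V.toScheme ⟶ X' := inv (π ∣_ V) ≫ (π ⁻¹ᵁ V).ι
  have hjH := AmpleVan.isAmple_pullback_of_isEmbedding j j.isOpenEmbedding.isEmbedding hH
  obtain ⟨L, hL, ⟨eL⟩⟩ := InvUfdLib.exists_extension_of_ufd V _ hjH.1 fun x _ => by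
    haveI := hreg x
    exact (CurveOnSurf.ufd_of_dim_le_two _ ((SchTop.ringKrullDim_stalk_le x).trans hdim.le)).2
  have hLV : CohB1.IsAmple (L.restrict V.ι) := AmpleX.isAmple_of_iso eL.symm hjH
  refine ⟨L, isAmple_of_separates k hdim hL V hgV hout' fun x hx O hxO => ?_⟩
  obtain ⟨m, hm, a, hxa, haO, -⟩ := AmpleX.exists_locus_le V.ι hLV (x := x) (by rw [V.ι_image_top]; exact hx) hxO
  have hLm := InvX.isInvertible_tensorPow hL m
  obtain ⟨t, rfl⟩ := (RefX.bijective_res_of_dim hnorm (AmpleVan.isCoh_invertible hLm)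
    (isReflexive_of_isInvertible hLm) (le_top : V.ι ''ᵁ ⊤ ≤ ⊤) fun y _ hy =>
      hout y (by rwa [V.ι_image_top] at hy)).2 a
  rw [AmpleX.locus_res, V.ι_image_top, ← locus_eq_ampleX] at hxa haO
  exact ⟨m, hm, t, hxa.1, haO⟩

end Groth.Agent.Nakai
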