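import Groth.Agent.Nakai.Section
import Groth.Agent.ParShLib.Degree

/-!
The Euler characteristics of the powers of an ample module grow like the dimension.
-/

set_option autoImplicit false
set_option linter.style.haveILetI false
set_option linter.unusedSectionVars false
set_option backward.isDefEq.respectTransparency false
set_option backward.isDefEq.respectTransparency.types false
set_option maxHeartbeats 1000000

universe u

open CategoryTheory CategoryTheory.Limits AlgebraicGeometry TopologicalSpace Opposite
open Groth.Agent.PnCoh.Finite (mapLin deltaLin)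
open Groth.Agent.H23 Groth.Agent.H23.TrivBasic Groth.Agent.H23.PicMul
open scoped Polynomial

noncomputable section

namespace Groth.Agent.Nakai

attribute [local instance] PicMul.clMonoid

variable {k : Type u} [Field k]

/-- The zero set of a section which is not everywhere a frame has a component of codimension one. -/
theorem exists_divisor_component {X : Scheme.{u}} [IsIntegral X] (f : X ⟶ Spec (CommRingCat.of k))
    [LocallyOfFiniteType f] {L : X.Modules} (hL : PicF.IsInvertible L) {s : Γ(L, ⊤)} (hs : s ≠ 0)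
    (hne : ∃ x, x ∉ locus s) :
    ∃ η : X, η ∉ locus s ∧ VarDim.deg f η + 1 = VarDim.deg f (genericPoint X) := by
  haveI : IsLocallyNoetherian X := LocallyOfFiniteType.isLocallyNoetherian f
  obtain ⟨x, hx⟩ := hne
  obtain ⟨U₀, hxU₀, ε₀, hε₀⟩ := InvX.exists_frame hL x
  obtain ⟨U, hU, hxU, hUU₀⟩ := exists_isAffineOpen_mem_and_subset (x := x) (U := U₀) hxU₀
  replace hUU₀ : U ≤ U₀ := hUU₀
  have hε := hε₀.res hUU₀
  obtain ⟨g, hg⟩ := hε.exists_coord le_rfl (AModX.res L (le_top : U ≤ ⊤) s)
  rw [AModX.res_self] at hg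
  have hloc := locus_eq_basicOpen hε hg
  obtain ⟨q, rfl⟩ := VarDim.exists_fromSpec_eq hU hxU
  have hgq : g ∈ q.asIdeal := by
    by_contra hgq
    have hmem : hU.fromSpec q ∈ X.basicOpen g := by
      have h' : q ∈ hU.fromSpec ⁻¹ᵁ X.basicOpen g := by
        rw [hU.fromSpec_preimage_basicOpen]
        exact hgq
      exact h'
    exact hx (hloc.ge hmem).1
  obtain ⟨P, hP, hPq⟩ := Ideal.exists_minimalPrimes_le ((Ideal.span_singleton_le_iff_mem _).2 hgq)
  haveI hPp := hP.1.1
  haveI : Nonempty U := ⟨⟨_, hxU⟩⟩
  haveI : IsNoetherianRing Γ(X, U) := IsLocallyNoetherian.component_noetherian ⟨U, hU⟩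
  haveI : (Ideal.span {g}).IsPrincipal := ⟨⟨g, rfl⟩⟩
  have hP1 : P.height ≤ 1 := Ideal.height_le_one_of_isPrincipal_of_mem_minimalPrimes (Ideal.span {g}) P hP
  let p : PrimeSpectrum Γ(X, U) := ⟨P, hPp⟩
  let η := hU.fromSpec p
  have hgP : g ∈ P := hP.1.2 (Ideal.mem_span_singleton_self g)
  have hηloc : η ∉ locus s := fun h => by
    have h2 : η ∈ X.basicOpen g := hloc.le ⟨h, VarDim.fromSpec_mem hU p⟩
    have h3 : p ∈ hU.fromSpec ⁻¹ᵁ X.basicOpen g := h2
    rw [hU.fromSpec_preimage_basicOpen] at h3
    exact h3 hgP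
  have hgen : genericPoint X ≠ η := fun h => hηloc (h ▸ by
    obtain ⟨z, hz⟩ := (Opens.ne_bot_iff_nonempty _).1 (locus_ne_bot hL hs)
    exact (genericPoint_specializes z).mem_open (locus s).isOpen hz)
  obtain ⟨b, hb, ⟨ξ, hξ, hξd⟩, hle⟩ := VarDim.exists_deg_add_stalk f η
  have hb1 : b ≤ 1 := by
    rw [VarDim.ringKrullDim_stalk_fromSpec hU, ← PrimeSpectrum.height_eq_orderHeight] at hb
    have h : P.height = (b : ℕ∞) := WithBot.coe_inj.1 hb
    rw [h] at hP1
    exact_mod_cast hP1
  refine ⟨η, hηloc, ?_⟩
  have hup := hle (genericPoint X) (genericPoint_specializes η)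
  have hlt : VarDim.deg f η < VarDim.deg f (genericPoint X) := by
    by_contra hcon
    exact hgen (VarDim.eq_of_specializes_of_deg_le f (genericPoint_specializes η) (by omega))
  omega

/-- Differences of a polynomial of degree at most `n` have lower degree. -/
theorem coeff_comp_sub (Q : ℚ[X]) {n : ℕ} (h : Q.natDegree ≤ n) (a : ℚ) :
    (Q.comp (Polynomial.X + Polynomial.C a) - Q).coeff n = 0 := by
  have h1 : (Polynomial.X + Polynomial.C a).natDegree = 1 := Polynomial.natDegree_X_add_C a
  rcases lt_or_eq_of_le h with h' | h'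
  · rw [Polynomial.coeff_sub, Polynomial.coeff_eq_zero_of_natDegree_lt h',
      Polynomial.coeff_eq_zero_of_natDegree_lt (by
        refine lt_of_le_of_lt Polynomial.natDegree_comp_le ?_
        rwa [h1, mul_one]), sub_zero]
  · subst h'
    have h2 := Polynomial.coeff_comp_degree_mul_degree (p := Q) (q := Polynomial.X + Polynomial.C a) (by rw [h1]; exact one_ne_zero)
    rw [h1, mul_one, (Polynomial.monic_X_add_C a).leadingCoeff, one_pow, mul_one] at h2
    rw [Polynomial.coeff_sub, h2, Polynomial.coeff_natDegree, sub_self]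

/-- An eventual lower bound by a polynomial bounds the top coefficient. -/
theorem coeff_le_of_eventually_le {D R : ℚ[X]} {n : ℕ} (hD : D.natDegree ≤ n) (hR : R.natDegree ≤ n)
    (h : ∀ᶠ m : ℕ in Filter.atTop, R.eval (m : ℚ) ≤ D.eval (m : ℚ)) : R.coeff n ≤ D.coeff n := by
  by_contra hlt
  push Not at hlt
  let E := D - R
  have hE : E.coeff n < 0 := by
    show (D - R).coeff n < 0
    rw [Polynomial.coeff_sub]
    linarith
  have hEn : E.natDegree = n :=
    le_antisymm ((Polynomial.natDegree_sub_le _ _).trans (max_le hD hR)) (Polynomial.le_natDegree_of_ne_zero hE.ne)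
  rcases Nat.eq_zero_or_pos n with rfl | hn
  · obtain ⟨m, hm⟩ := h.exists
    have : E.eval (m : ℚ) = E.coeff 0 := by
      conv_lhs => rw [Polynomial.eq_C_of_natDegree_eq_zero hEn, Polynomial.eval_C]
    rw [← this] at hE
    simp only [E, Polynomial.eval_sub] at hE
    linarith
  · have ht := (E.tendsto_atBot_of_leadingCoeff_nonpos
      (Polynomial.natDegree_pos_iff_degree_pos.1 (hEn ▸ hn))
      (by rw [Polynomial.leadingCoeff, hEn]; exact hE.le)).comp tendsto_natCast_atTop_atTop
    obtain ⟨m, hm, hm'⟩ := ((ht.eventually (Filter.eventually_lt_atBot 0)).and h).exists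
    simp only [Function.comp_apply, E, Polynomial.eval_sub] at hm
    linarith

variable (k) in
/-- The powers of an ample module have Euler characteristics of positive top coefficient. -/
theorem coeff_pos_of_ample : ∀ (d : ℕ) (X : Scheme.{u}) [X.Over (Spec (CommRingCat.of k))]
    [IsProper (X ↘ Spec (CommRingCat.of k))] [IsIntegral X],
    VarDim.deg (X ↘ Spec (CommRingCat.of k)) (genericPoint X) = d → ∀ {H : X.Modules}, CohB1.IsAmple H →
      ∀ Q : ℚ[X], (∀ m : ℕ, (Curv2.euler k X (CohB1.tensorPow H m) : ℚ) = Q.eval (m : ℚ)) →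
        Q.natDegree ≤ d ∧ 0 < Q.coeff d := by
  intro d
  induction d with
  | zero =>
    intro X _ _ _ hd H hH Q hQ
    haveI := CurveCohLib.isNoetherian_of_proper (k := k) (X := X)
    have hdim : topologicalKrullDim X = (0 : ℕ) := by
      rw [VarDim.topologicalKrullDim_eq_deg_genericPoint (X ↘ Spec (CommRingCat.of k)), hd]; rfl
    obtain ⟨R, hR, hRm⟩ := Snapper.isPolyLt_of_dim_lt k hH.1 1 ⊤
      (lt_of_le_of_lt ((Topology.IsInducing.subtypeVal).topologicalKrullDim_le.trans hdim.le) (by exact_mod_cast one_pos))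
      (Coh.structureModule X) QCoh.isCoh_structureModule' (fun _ _ => trivial)
    have hdeg : Q.natDegree ≤ 0 := by
      have hQR : Q = R := ParShLib.eq_of_eval_nat fun m => by
        rw [← hQ m, ← hRm m]
        exact congrArg Int.cast (CurveCohLib.euler_congr (k := k) (CurveTensor.structureTensorIso _).symm)
      rw [hQR]
      by_cases h0 : R = 0
      · simp [h0]
      · exact Nat.lt_succ_iff.1 ((Polynomial.natDegree_lt_iff_degree_lt h0).2 hR)
    refine ⟨hdeg, ?_⟩
    obtain ⟨d₀, hd₀⟩ := AmpleVan.exists_vanishing (A := k) hH (M := Coh.structureModule X) QCoh.isCoh_structureModule'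
    have hv : ∀ q, Subsingleton (Coh.HH X (CohB1.tensorPow H d₀) (q + 1)) := fun q =>
      QCoh.subsingleton_HH_of_iso (CurveTensor.structureTensorIso _) (q + 1) (hd₀ d₀ le_rfl q)
    have hP : PicF.IsInvertible (CohB1.tensorPow H d₀) := InvX.isInvertible_tensorPow hH.1 d₀
    haveI : Subsingleton X := ⟨fun a b => by
      rw [← VarDim.eq_of_specializes_of_deg_le (X ↘ Spec (CommRingCat.of k)) (genericPoint_specializes a) (by omega),
        ← VarDim.eq_of_specializes_of_deg_le (X ↘ Spec (CommRingCat.of k)) (genericPoint_specializes b) (by omega)]⟩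
    obtain ⟨U, hU, e, he⟩ := InvX.exists_frame hP (genericPoint X)
    obtain rfl : U = ⊤ := top_le_iff.1 fun x _ => by rw [Subsingleton.elim x (genericPoint X)]; exact hU
    have hne : e ≠ 0 := fun h0 => by
      have := he.coord_unique le_rfl (r := (0 : Γ(X, ⊤))) (r' := 1) (by simp [h0])
      exact zero_ne_one this
    haveI := CurveAmple.nontrivial_h0 hne
    haveI := CurveCohLib.finite_HH (k := k) (AmpleVan.isCoh_invertible hP) 0
    have h1 : (0 : ℚ) < Q.eval (d₀ : ℚ) := by
      rw [← hQ d₀, CurveAmple.euler_eq_h0_of_vanishing (k := k) hv]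
      exact_mod_cast Module.finrank_pos
    rwa [Polynomial.eq_C_of_natDegree_eq_zero (Nat.le_zero.1 hdeg), Polynomial.eval_C] at h1
  | succ d ih =>
    intro X _ _ _ hd H hH Q hQ
    haveI := CurveCohLib.isNoetherian_of_proper (k := k) (X := X)
    let π := X ↘ Spec (CommRingCat.of k)
    replace hd : VarDim.deg π (genericPoint X) = d + 1 := hd
    have hdim : topologicalKrullDim X = ((d + 1 : ℕ) : WithBot ℕ∞) := by
      rw [VarDim.topologicalKrullDim_eq_deg_genericPoint π, hd]; rfl
    obtain ⟨R₀, hR₀, hR₀m⟩ := Snapper.isPolyLt_of_dim_lt k hH.1 (d + 2) ⊤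
      (lt_of_le_of_lt ((Topology.IsInducing.subtypeVal).topologicalKrullDim_le.trans hdim.le) (by exact_mod_cast Nat.lt_succ_self _))
      (Coh.structureModule X) QCoh.isCoh_structureModule' (fun _ _ => trivial)
    have hdeg : Q.natDegree ≤ d + 1 := by
      have hQR : Q = R₀ := ParShLib.eq_of_eval_nat fun m => by
        rw [← hQ m, ← hR₀m m]
        exact congrArg Int.cast (CurveCohLib.euler_congr (k := k) (CurveTensor.structureTensorIso _).symm)
      rw [hQR]
      by_cases h0 : R₀ = 0
      · simp [h0]
      · exact Nat.lt_succ_iff.1 ((Polynomial.natDegree_lt_iff_degree_lt h0).2 hR₀)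
    refine ⟨hdeg, ?_⟩
    obtain ⟨c, hgc, hc⟩ := VarDim.exists_closed_specialization π (genericPoint X)
    have hne : genericPoint X ≠ c := fun h => by
      have h0 := DiagReg.deg_eq_zero π (h ▸ hc)
      omega
    obtain ⟨a, ha, s, hs, hsc⟩ := CurveAmple.exists_section_vanishing k hH hc hne
    let A := CohB1.tensorPow H a
    have hA : PicF.IsInvertible A := InvX.isInvertible_tensorPow hH.1 a
    obtain ⟨η, hη, hηd⟩ := exists_divisor_component π hA hs ⟨c, hsc⟩
    let D : Closeds X := ⟨closure {η}, isClosed_closure⟩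
    let J := Scheme.IdealSheafData.vanishingIdeal D
    let i := J.subschemeι
    haveI := H23.RedSub.isReduced_vanishingIdeal D
    have hrange : Set.range i = closure {η} := AmpleVan.FiniteSurj.range_vanishingIdeal D
    haveI : IrreducibleSpace J.subscheme := by
      haveI := Subtype.irreducibleSpace (hrange ▸ isIrreducible_singleton.closure : IsIrreducible (Set.range i))
      exact i.isEmbedding.toHomeomorph.irreducibleSpace_iff.2 inferInstance
    haveI : IsIntegral J.subscheme := isIntegral_of_irreducibleSpace_of_isReduced _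
    letI : J.subscheme.Over (Spec (CommRingCat.of k)) := ⟨i ≫ π⟩
    haveI : IsProper (J.subscheme ↘ Spec (CommRingCat.of k)) := inferInstanceAs (IsProper (i ≫ π))
    haveI := CurveCohLib.isNoetherian_of_proper (k := k) (X := J.subscheme)
    have hι : i (genericPoint J.subscheme) = η := by
      refine (Specializes.antisymm ?_ ?_).eq
      · obtain ⟨z, hz⟩ : η ∈ Set.range i := hrange ▸ subset_closure rfl
        rw [← hz]
        exact (genericPoint_specializes z).map i.continuous
      · exact specializes_iff_mem_closure.2 (hrange ▸ ⟨_, rfl⟩)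
    have hJd : VarDim.deg (J.subscheme ↘ Spec (CommRingCat.of k)) (genericPoint J.subscheme) = d := by
      have h3 := VarDim.tdeg_comp i π (genericPoint J.subscheme)
      rw [VarDim.rdeg_preimmersion, add_zero, ← VarDim.deg_eq_tdeg, ← VarDim.deg_eq_tdeg, hι] at h3
      have h4 : VarDim.deg (i ≫ π) (genericPoint J.subscheme) = VarDim.deg π η := by exact_mod_cast h3
      show VarDim.deg (i ≫ π) (genericPoint J.subscheme) = d
      omega
    let iH := (Scheme.Modules.pullback i).obj H
    haveI : CompactSpace J.subscheme := i.isClosedEmbedding.compactSpace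
    have hiH : CohB1.IsAmple iH := AmpleVan.FiniteSurj.isAmple_pullback_of_isAffineHom i hH
    have hJdim : topologicalKrullDim J.subscheme = (d : ℕ) := by
      rw [VarDim.topologicalKrullDim_eq_deg_genericPoint (J.subscheme ↘ Spec (CommRingCat.of k)), hJd]; rfl
    obtain ⟨R, -, hRm⟩ := Snapper.isPolyLt_of_dim_lt k hiH.1 (d + 1) ⊤
      (lt_of_le_of_lt ((Topology.IsInducing.subtypeVal).topologicalKrullDim_le.trans hJdim.le) (by exact_mod_cast Nat.lt_succ_self _))
      (Coh.structureModule J.subscheme) QCoh.isCoh_structureModule' (fun _ _ => trivial)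
    have hR : ∀ m : ℕ, (Curv2.euler k J.subscheme (CohB1.tensorPow iH m) : ℚ) = R.eval (m : ℚ) := fun m => by
      rw [← hRm m]
      exact congrArg Int.cast (CurveCohLib.euler_congr (k := k) (CurveTensor.structureTensorIso _).symm)
    obtain ⟨hRd, hRpos⟩ := ih J.subscheme hJd hiH R hR
    let f := InvX.ofSect s
    haveI := CurveAmple.mono_ofSect hA hs
    let S := ShortComplex.mk f (cokernel.π f) (cokernel.condition f)
    have hS : S.ShortExact := .mk' (ShortComplex.exact_of_g_is_cokernel _ (cokernelIsCokernel f)) inferInstance inferInstance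
    have hAc := AmpleVan.isCoh_invertible hA
    let v := (Scheme.Modules.pullbackPushforwardAdjunction i).unit.app A
    haveI : Epi v := epi_unit i hAc.1
    have hfv : f ≫ v = 0 := comp_unit_eq_zero i hA s fun z hz =>
      hη ((specializes_iff_mem_closure.2 (hrange ▸ ⟨z, rfl⟩)).mem_open (locus s).isOpen hz)
    let g := cokernel.desc f v hfv
    haveI : Epi g := epi_of_epi_fac (cokernel.π_desc f v hfv)
    let T := ShortComplex.mk (kernel.ι g) g (kernel.condition g)
    have hT : T.ShortExact := .mk' (ShortComplex.exact_of_f_is_kernel _ (kernelIsKernel g)) inferInstance inferInstance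
    have hC : Coh.IsCoh (cokernel f) := QCoh.isCoh_cokernel QCoh.isCoh_structureModule'.1 hAc f
    have hiA : PicF.IsInvertible ((Scheme.Modules.pullback i).obj A) := PicClLib.isInvertible_pullback i hA
    have hp : Coh.IsCoh ((Scheme.Modules.pushforward i).obj ((Scheme.Modules.pullback i).obj A)) :=
      QCoh.isCoh_push i (AmpleVan.isCoh_invertible hiA)
    have hK : Coh.IsCoh (kernel g) := QCoh.isCoh_of_mono (kernel.ι g) hC (QCoh.isQCoh_kernel hC.1 hp.1 g)
    obtain ⟨b₁, hb₁⟩ := AmpleVan.exists_vanishing (A := k) hH hC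
    obtain ⟨b₂, hb₂⟩ := AmpleVan.exists_vanishing (A := k) hH hK
    obtain ⟨b₃, hb₃⟩ := AmpleVan.exists_vanishing (A := k) hH hp
    have hev : ∀ᶠ m : ℕ in Filter.atTop, (R.comp (Polynomial.X + Polynomial.C (a : ℚ))).eval (m : ℚ) ≤
        (Q.comp (Polynomial.X + Polynomial.C (a : ℚ)) - Q).eval (m : ℚ) := by
      refine (Filter.eventually_ge_atTop (b₁ + b₂ + b₃)).mono fun m hm => ?_
      simp only [Polynomial.eval_sub, Polynomial.eval_comp, Polynomial.eval_add, Polynomial.eval_X, Polynomial.eval_C,
        ← Nat.cast_add, ← hQ, ← hR]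
      norm_cast
      let P := CohB1.tensorPow H m
      have hP : PicF.IsInvertible P := InvX.isInvertible_tensorPow hH.1 m
      haveI := AmpleVan.isEquivalence_tw hP
      haveI : (AmpleVan.tw P).Additive := Functor.additive_of_preserves_binary_products _
      have hTS := hS.map_of_exact (AmpleVan.tw P)
      have hTT := hT.map_of_exact (AmpleVan.tw P)
      have hAP : PicF.IsInvertible (CohB1.tensorMod A P) := InvX.isInvertible_tensorMod hA hP
      have hadd := CurveCohLib.euler_additive (k := k) hTS
        (AmpleVan.isCoh_invertible (InvX.isInvertible_tensorMod InvX.isInvertible_structureModule hP))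
        (AmpleVan.isCoh_invertible hAP) (AmpleVan.isCoh_tensor hC (AmpleVan.isCoh_invertible hP))
      obtain ⟨u₂⟩ := cl_eq_iff.1 (show PicF.cl (CohB1.tensorMod A P) = PicF.cl (CohB1.tensorPow H (m + a)) by
        simp only [A, P, cl_tensor, cl_tensorPow, pow_add, mul_comm])
      have u₁ : CohB1.tensorMod (Coh.structureModule X) P ≅ P := CurveTensor.structureTensorIso P
      replace hadd : Curv2.euler k X (CohB1.tensorMod A P) =
          Curv2.euler k X (CohB1.tensorMod (Coh.structureModule X) P) +
            Curv2.euler k X (CohB1.tensorMod (cokernel f) P) := hadd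
      rw [CurveCohLib.euler_congr (k := k) u₁, CurveCohLib.euler_congr (k := k) u₂,
        CurveAmple.euler_eq_h0_of_vanishing (k := k) (hb₁ m (by omega))] at hadd
      haveI := CurveCohLib.finite_HH (k := k) (AmpleVan.isCoh_tensor hC (AmpleVan.isCoh_invertible hP)) 0
      have hle : Module.finrank k (Coh.HH X (CohB1.tensorMod ((Scheme.Modules.pushforward i).obj ((Scheme.Modules.pullback i).obj A)) P) 0) ≤
          Module.finrank k (Coh.HH X (CohB1.tensorMod (cokernel f) P) 0) :=
        haveI : Module.Finite k (Coh.HH X ((AmpleVan.tw P).obj (cokernel f)) 0) :=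
          CurveCohLib.finite_HH (k := k) (AmpleVan.isCoh_tensor hC (AmpleVan.isCoh_invertible hP)) 0
        LinearMap.finrank_le_finrank_of_surjective (surjective_g k hTT 0 (hb₂ m (by omega) 0))
      have hχ := CurveAmple.euler_eq_h0_of_vanishing (k := k) (hb₃ m (by omega))
      obtain ⟨e⟩ := AmpleVan.FiniteSurj.nonempty_push_twist i ((Scheme.Modules.pullback i).obj A) hP
      obtain ⟨e₁⟩ := AmpleVan.RelVanish.pullback_tensorPow i H a
      obtain ⟨e₂⟩ := AmpleVan.RelVanish.pullback_tensorPow i H m
      obtain ⟨e₃⟩ := AmpleVan.RelVanish.tensor_congr e₁ e₂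
      obtain ⟨e₄⟩ := cl_eq_iff.1 (show PicF.cl (CohB1.tensorMod (CohB1.tensorPow iH a) (CohB1.tensorPow iH m)) =
          PicF.cl (CohB1.tensorPow iH (m + a)) by simp only [cl_tensor, cl_tensorPow, pow_add, mul_comm])
      have hW : Curv2.euler k X (CohB1.tensorMod ((Scheme.Modules.pushforward i).obj ((Scheme.Modules.pullback i).obj A)) P) =
          Curv2.euler k J.subscheme (CohB1.tensorPow iH (m + a)) := by
        refine (CurveCohLib.euler_congr (k := k) (e ≪≫ (Scheme.Modules.pushforward i).mapIso (e₃ ≪≫ e₄))).trans (finsum_congr fun n => ?_)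
        obtain ⟨l⟩ := PnCoh.exists_linearEquiv_push k i rfl
          (AmpleVan.isCoh_invertible (InvX.isInvertible_tensorPow hiH.1 (m + a))).1 n
        rw [l.finrank_eq]
      simp only [P] at hadd hle hχ hW
      omega
    have hRc : (R.comp (Polynomial.X + Polynomial.C (a : ℚ))).coeff d = R.coeff d := by
      have h := coeff_comp_sub R hRd (a : ℚ)
      rw [Polynomial.coeff_sub] at h
      linarith
    have h1 : (Polynomial.X + Polynomial.C (a : ℚ)).natDegree = 1 := Polynomial.natDegree_X_add_C _
    have hDd : (Q.comp (Polynomial.X + Polynomial.C (a : ℚ)) - Q).natDegree ≤ d := by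
      refine Polynomial.natDegree_le_iff_coeff_eq_zero.2 fun n hn => coeff_comp_sub Q (by omega) _
    have hkey := coeff_le_of_eventually_le hDd (Polynomial.natDegree_comp_le.trans (by rw [h1, mul_one]; exact hRd)) hev
    rw [hRc] at hkey
    have hQne : Q.coeff (d + 1) ≠ 0 := fun h0 => by
      have hQd : Q.natDegree ≤ d := Polynomial.natDegree_le_iff_coeff_eq_zero.2 fun n hn => by
        rcases eq_or_lt_of_le (Nat.succ_le_of_lt hn) with rfl | hn'
        · exact h0
        · exact Polynomial.coeff_eq_zero_of_natDegree_lt (lt_of_le_of_lt hdeg hn')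
      rw [coeff_comp_sub Q hQd] at hkey
      linarith
    obtain ⟨d₀, hd₀⟩ := AmpleVan.exists_vanishing (A := k) hH (M := Coh.structureModule X) QCoh.isCoh_structureModule'
    refine lt_of_le_of_ne ?_ (Ne.symm hQne)
    have h2 := coeff_le_of_eventually_le (D := Q) (R := 0) hdeg (by simp) ((Filter.eventually_ge_atTop d₀).mono fun m hm => by
      rw [Polynomial.eval_zero, ← hQ m, CurveAmple.euler_eq_h0_of_vanishing (k := k) fun q =>
        QCoh.subsingleton_HH_of_iso (CurveTensor.structureTensorIso _) (q + 1) (hd₀ m hm q)]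
      push_cast
      exact Nat.cast_nonneg _)
    simpa using h2

end Groth.Agent.Nakai
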