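import Groth.Agent.Nakai.Surface
import Groth.Agent.Nakai.Growth
import Groth.Agent.Lib.CurveDeg

/-!
Ampleness on a surface from a section and positive degrees on curves.
-/

set_option autoImplicit false
set_option linter.style.haveILetI false
set_option linter.unusedSectionVars false
set_option backward.isDefEq.respectTransparency false
set_option backward.isDefEq.respectTransparency.types false
set_option maxHeartbeats 1000000

universe u

open CategoryTheory CategoryTheory.Limits AlgebraicGeometry TopologicalSpace Opposite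
open Groth.Agent.H23 Groth.Agent.H23.TrivBasic Groth.Agent.H23.PicMul

noncomputable section

namespace Groth.Agent.Nakai

attribute [local instance] PicMul.clMonoid

variable (k : Type u) [Field k]

/-- The first difference `χ(M ⊗ L) − χ(M)`. -/
def cdiff {X : Scheme.{u}} [X.Over (Spec (CommRingCat.of k))] (L M : X.Modules) : ℤ :=
  Curv2.euler k X (CohB1.tensorMod M L) - Curv2.euler k X M

variable {X : Scheme.{u}} [X.Over (Spec (CommRingCat.of k))] [IsProper (X ↘ Spec (CommRingCat.of k))]

theorem cdiff_congr (L : X.Modules) {M N : X.Modules} (e : M ≅ N) : cdiff k L M = cdiff k L N := by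
  obtain ⟨e'⟩ := AmpleVan.RelVanish.tensor_congr e (Iso.refl L)
  unfold cdiff
  rw [CurveCohLib.euler_congr (k := k) e, CurveCohLib.euler_congr (k := k) e']

theorem cdiff_add {L : X.Modules} (hL : PicF.IsInvertible L) {S : ShortComplex X.Modules} (hS : S.ShortExact)
    (h₁ : Coh.IsCoh S.X₁) (h₂ : Coh.IsCoh S.X₂) (h₃ : Coh.IsCoh S.X₃) :
    cdiff k L S.X₂ = cdiff k L S.X₁ + cdiff k L S.X₃ := by
  haveI := CurveCohLib.isNoetherian_of_proper (k := k) (X := X)
  haveI := AmpleVan.isEquivalence_tw hL
  haveI : (AmpleVan.tw L).Additive := Functor.additive_of_preserves_binary_products _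
  have e1 := CurveCohLib.euler_additive (k := k) hS h₁ h₂ h₃
  have e2 : Curv2.euler k X (CohB1.tensorMod S.X₂ L) =
      Curv2.euler k X (CohB1.tensorMod S.X₁ L) + Curv2.euler k X (CohB1.tensorMod S.X₃ L) :=
    ParShLib.euler_map_add k (AmpleVan.tw L) (fun A h => AmpleVan.isCoh_tensor h (AmpleVan.isCoh_invertible hL)) hS h₁ h₂ h₃
  unfold cdiff
  linarith

/-- Modules with zero-dimensional support are not changed by twisting. -/
theorem cdiff_eq_zero {L : X.Modules} (hL : PicF.IsInvertible L) {M : X.Modules} (hM : Coh.IsCoh M)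
    (C : Closeds X) (hC : topologicalKrullDim (C : Set X) < (1 : ℕ)) (hs : CohB1.support M ⊆ C) :
    cdiff k L M = 0 := by
  obtain ⟨Q, hQ, hQm⟩ := Snapper.isPolyLt_of_dim_lt k hL 1 C hC M hM hs
  have hQ0 : Q.natDegree = 0 := by
    by_cases h0 : Q = 0
    · simp [h0]
    · exact Nat.lt_one_iff.1 ((Polynomial.natDegree_lt_iff_degree_lt h0).2 hQ)
  have h : Snapper.χ k L M 1 = Snapper.χ k L M 0 := by
    rw [hQm, hQm, Polynomial.eq_C_of_natDegree_eq_zero hQ0, Polynomial.eval_C, Polynomial.eval_C]
  obtain ⟨e₁⟩ := cl_eq_iff.1 (show PicF.cl (CohB1.tensorMod M L) = PicF.cl (ShStab.twist X L M 1) by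
    rw [ShStab.twist, cl_tensor, cl_tensor, cl_tensorPow, pow_one])
  obtain ⟨e₀⟩ := cl_eq_iff.1 (show PicF.cl M = PicF.cl (ShStab.twist X L M 0) by
    rw [ShStab.twist, cl_tensor, cl_tensorPow, pow_zero, mul_one])
  unfold cdiff
  rw [CurveCohLib.euler_congr (k := k) e₁, CurveCohLib.euler_congr (k := k) e₀]
  exact sub_eq_zero.2 (Int.cast_inj.1 h)

/-- The difference on a push forward from a closed subscheme. -/
theorem cdiff_push {L : X.Modules} (hL : PicF.IsInvertible L) {Z : Scheme.{u}} (i : Z ⟶ X) [IsClosedImmersion i]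
    {M : Z.Modules} (hM : Coh.IsCoh M) :
    letI : Z.Over (Spec (CommRingCat.of k)) := ⟨i ≫ (X ↘ (Spec (CommRingCat.of k)))⟩
    cdiff k L ((Coh.push i).obj M) = cdiff k ((Scheme.Modules.pullback i).obj L) M := by
  letI : Z.Over (Spec (CommRingCat.of k)) := ⟨i ≫ (X ↘ (Spec (CommRingCat.of k)))⟩
  haveI : IsLocallyNoetherian X := LocallyOfFiniteType.isLocallyNoetherian (X ↘ Spec (CommRingCat.of k))
  haveI : IsLocallyNoetherian Z := LocallyOfFiniteType.isLocallyNoetherian i
  have hpush : ∀ {N : Z.Modules}, Coh.IsQCoh N → Curv2.euler k X ((Coh.push i).obj N) = Curv2.euler k Z N :=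
    fun {N} hN => finsum_congr fun n => by
      obtain ⟨a⟩ := PnCoh.exists_linearEquiv_push k i rfl hN n
      rw [a.finrank_eq]
  obtain ⟨e⟩ := AmpleVan.FiniteSurj.nonempty_push_twist i M hL
  unfold cdiff
  rw [CurveCohLib.euler_congr (k := k) e, hpush hM.1,
    hpush (AmpleVan.isCoh_tensor hM (AmpleVan.isCoh_invertible (PicClLib.isInvertible_pullback i hL))).1]

variable [IsIntegral X]

/-- A section with a zero and positive degrees on curves give ampleness on a surface. -/
theorem isAmple_of_section (hdim : topologicalKrullDim X = 2) {L : X.Modules} (hL : PicF.IsInvertible L)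
    {s : Γ(L, ⊤)} (hs : s ≠ 0) (hne : ∃ x, x ∉ locus s)
    (hcurve : ∀ Z : X.IdealSheafData, IsIntegral Z.subscheme → topologicalKrullDim (Z.support : Set X) = 1 →
      letI : Z.subscheme.Over (Spec (CommRingCat.of k)) := ⟨Z.subschemeι ≫ (X ↘ (Spec (CommRingCat.of k)))⟩
      0 < Curv2.deg k Z.subscheme ((Scheme.Modules.pullback Z.subschemeι).obj L) 1) :
    CohB1.IsAmple L := by
  haveI := CurveCohLib.isNoetherian_of_proper (k := k) (X := X)
  refine isAmple_of_surface k hdim hL ?_ hcurve
  let π := X ↘ Spec (CommRingCat.of k)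
  let D : Closeds X := ⟨(locus s : Set X)ᶜ, (locus s).isOpen.isClosed_compl⟩
  have hD : (D : Set X) ≠ Set.univ := fun h => by
    obtain ⟨z, hz⟩ := (Opens.ne_bot_iff_nonempty _).1 (locus_ne_bot hL hs)
    exact (h.ge (Set.mem_univ z)) hz
  have hDdim : topologicalKrullDim (D : Set X) < (2 : ℕ) := by
    have h := H23.TopDim.dim_lt_of_ssubset (X := X) (fun h => by
      rw [hdim] at h
      exact ENat.natCast_ne_top 2 (WithBot.coe_inj.1 h)) D.isClosed hD
    rw [hdim] at h
    exact_mod_cast h
  have hLc := AmpleVan.isCoh_invertible hL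
  haveI := CurveAmple.mono_ofSect hL hs
  let f := InvX.ofSect s
  let S := ShortComplex.mk f (cokernel.π f) (cokernel.condition f)
  have hS : S.ShortExact := .mk' (ShortComplex.exact_of_g_is_cokernel _ (cokernelIsCokernel f)) inferInstance inferInstance
  have hQ : Coh.IsCoh (cokernel f) := QCoh.isCoh_cokernel QCoh.isCoh_structureModule'.1 hLc f
  have hsQ : CohB1.support (cokernel f) ⊆ D := CurveAmple.support_cokernel_subset s
  have hkey : ∀ Z : Scheme.{u}, ∀ i : Z ⟶ X, ∀ [IsClosedImmersion i] [IsIntegral Z], Set.range i ⊆ (D : Set X) →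
      ∀ {I : Z.Modules} (ι : I ⟶ Coh.structureModule Z), Mono ι → Coh.IsQCoh I → ¬ IsZero I →
        0 ≤ cdiff k L ((Coh.push i).obj I) := by
    intro Z i _ _ hiD I ι hι hI hI0
    haveI := hι
    letI : Z.Over (Spec (CommRingCat.of k)) := ⟨i ≫ π⟩
    haveI : IsProper (Z ↘ Spec (CommRingCat.of k)) := inferInstanceAs (IsProper (i ≫ π))
    haveI := CurveCohLib.isNoetherian_of_proper (k := k) (X := Z)
    have hIc : Coh.IsCoh I := QCoh.isCoh_of_mono ι QCoh.isCoh_structureModule' hI
    rw [cdiff_push k hL i hIc]
    have hiL := PicClLib.isInvertible_pullback i hL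
    have hZdim := VarDim.topologicalKrullDim_eq_deg_genericPoint (Z ↘ Spec (CommRingCat.of k))
    have hle : VarDim.deg (Z ↘ Spec (CommRingCat.of k)) (genericPoint Z) ≤ 1 := by
      have h1 : topologicalKrullDim Z < (2 : ℕ) := lt_of_le_of_lt (le_of_eq_of_le
        (IsHomeomorph.topologicalKrullDim_eq _ i.isEmbedding.toHomeomorph.isHomeomorph)
        (H23.TopDim.dim_le_dim_of_subset hiD)) hDdim
      rw [hZdim] at h1
      have h2 : VarDim.deg (Z ↘ Spec (CommRingCat.of k)) (genericPoint Z) < 2 :=
        Nat.cast_lt.1 (WithBot.coe_lt_coe.1 h1)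
      omega
    rcases Nat.le_one_iff_eq_zero_or_eq_one.1 hle with h0 | h1
    · refine le_of_eq (cdiff_eq_zero k hiL hIc ⊤ ?_ fun _ _ => trivial).symm
      refine lt_of_le_of_lt (Topology.IsInducing.subtypeVal.topologicalKrullDim_le.trans hZdim.le) ?_
      rw [h0]
      exact_mod_cast one_pos
    · have hZ1 : topologicalKrullDim Z = 1 := by rw [hZdim, h1]; rfl
      have hker : CohB1.support (cokernel ι) ≠ Set.univ := fun h => by
        refine Snapper.notMem_support_cokernel ι ((ModuleCat.epi_iff_surjective _).2 ?_) (h.ge (Set.mem_univ (genericPoint Z)))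
        obtain ⟨W, a, ha⟩ : ∃ (W : Z.affineOpens) (a : Γ(I, W.1)), a ≠ 0 := by
          by_contra hno
          push Not at hno
          exact hI0 (QCoh.isZero_of_app_eq_zero hI hno)
        have hW : Nonempty W.1 := by
          by_contra hemp
          exact ha (TopCat.Presheaf.section_ext ⟨I.presheaf, I.isSheaf⟩ _ _ _ fun y hy => (hemp ⟨⟨y, hy⟩⟩).elim)
        haveI := hW
        have hη : genericPoint Z ∈ W.1 :=
          ((genericPoint_spec Z).mem_open_set_iff W.1.2).2 (by
            obtain ⟨⟨z, hz⟩⟩ := hW
            exact ⟨z, trivial, hz⟩)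
        have hr : (ι.app W.1 a : Γ(Z, W.1)) ≠ 0 := fun h0 => ha (QCoh.app_injective ι W.1 (h0.trans (map_zero _).symm))
        letI := (CurveBundle.isField_stalk_generic (X := Z)).toField
        let one : Γ(Coh.structureModule Z, W.1) := (show Γ(Coh.structureModule Z, W.1) from (1 : Γ(Z, W.1)))
        let g : Γ(Z, W.1) := (show Γ(Z, W.1) from ι.app W.1 a)
        have hga : ι.app W.1 a = g • one := (mul_one g).symm
        have hr' : Z.presheaf.germ W.1 (genericPoint Z) hη g ≠ 0 := fun h0 =>
          hr (germ_injective_of_isIntegral Z (genericPoint Z) hη (h0.trans (map_zero _).symm))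
        have hone : InvX.IsFrame one := InvX.isFrame_one W.1
        intro y
        obtain ⟨c, hc⟩ := (hone.germ_bijective hη).2 y
        refine ⟨(c / Z.presheaf.germ W.1 (genericPoint Z) hη g) • I.presheaf.germ W.1 (genericPoint Z) hη a, ?_⟩
        refine (((DerSch.stalkFunctor Z (genericPoint Z)).map ι).hom.map_smul _ _).trans ?_
        refine Eq.trans (congrArg ((c / Z.presheaf.germ W.1 (genericPoint Z) hη g) • ·)
          ((TopCat.Presheaf.stalkFunctor_map_germ_apply W.1 (genericPoint Z) hη ((Scheme.Modules.toPresheaf Z).map ι) a).trans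
            ((congrArg ((Coh.structureModule Z).presheaf.germ W.1 (genericPoint Z) hη) hga).trans
              (QCoh.germ_smul' (Coh.structureModule Z) hη g one)))) ?_
        refine (smul_smul _ _ _).trans ?_
        rw [div_mul_cancel₀ c hr']
        exact hc
      let C : Closeds Z := ⟨CohB1.support (cokernel ι), QCoh.isClosed_support_of_isFT
        (QCoh.isQCoh_cokernel hI QCoh.isQCoh_structureModule ι) (QCoh.isCoh_cokernel hI QCoh.isCoh_structureModule' ι).2⟩
      have hC : topologicalKrullDim (C : Set Z) < (1 : ℕ) := by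
        have h := H23.TopDim.dim_lt_of_ssubset (X := Z) (fun h => by
          rw [hZ1] at h
          exact ENat.natCast_ne_top 1 (WithBot.coe_inj.1 h)) C.isClosed hker
        rw [hZ1] at h
        exact_mod_cast h
      let T := ShortComplex.mk ι (cokernel.π ι) (cokernel.condition ι)
      have hT : T.ShortExact := .mk' (ShortComplex.exact_of_g_is_cokernel _ (cokernelIsCokernel ι)) inferInstance inferInstance
      have hadd := cdiff_add k hiL hT hIc QCoh.isCoh_structureModule' (QCoh.isCoh_cokernel hI QCoh.isCoh_structureModule' ι)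
      replace hadd : cdiff k ((Scheme.Modules.pullback i).obj L) (Coh.structureModule Z) =
          cdiff k ((Scheme.Modules.pullback i).obj L) I + cdiff k ((Scheme.Modules.pullback i).obj L) (cokernel ι) := hadd
      rw [cdiff_eq_zero k hiL (QCoh.isCoh_cokernel hI QCoh.isCoh_structureModule' ι) C hC subset_rfl, add_zero] at hadd
      rw [← hadd]
      have hc : cdiff k ((Scheme.Modules.pullback i).obj L) (Coh.structureModule Z) =
          Curv2.deg k Z ((Scheme.Modules.pullback i).obj L) 1 := by
        have e : CohB1.tensorMod (Coh.structureModule Z) ((Scheme.Modules.pullback i).obj L) ≅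
            (Scheme.Modules.pullback i).obj L := CurveTensor.structureTensorIso _
        unfold cdiff Curv2.deg
        rw [CurveCohLib.euler_congr (k := k) e]
        push_cast
        ring
      rw [hc]
      let J : X.IdealSheafData := Scheme.IdealSheafData.vanishingIdeal ⟨Set.range i, i.isClosedEmbedding.isClosed_range⟩
      haveI := H23.RedSub.isReduced_vanishingIdeal (⟨Set.range i, i.isClosedEmbedding.isClosed_range⟩ : Closeds X)
      obtain ⟨e, he⟩ := H23.RedSub.exists_iso_of_range_eq i J.subschemeι
        (AmpleVan.FiniteSurj.range_vanishingIdeal (⟨Set.range i, i.isClosedEmbedding.isClosed_range⟩ : Closeds X)).symm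
      haveI : IsIntegral J.subscheme := IsIntegral.of_isIso (f := e.hom)
      have hJd : topologicalKrullDim (J.support : Set X) = 1 := by
        rw [← Scheme.IdealSheafData.range_subschemeι, AmpleVan.FiniteSurj.range_vanishingIdeal]
        exact (IsHomeomorph.topologicalKrullDim_eq _ i.isEmbedding.toHomeomorph.isHomeomorph).symm.trans hZ1
      have hJ := hcurve J inferInstance hJd
      letI : J.subscheme.Over (Spec (CommRingCat.of k)) := ⟨J.subschemeι ≫ π⟩
      haveI : IsProper (J.subscheme ↘ Spec (CommRingCat.of k)) := inferInstanceAs (IsProper (J.subschemeι ≫ π))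
      have hcJ : cdiff k L ((Coh.push i).obj (Coh.structureModule Z)) =
          cdiff k L ((Coh.push J.subschemeι).obj (Coh.structureModule J.subscheme)) := by
        have hk : i.ker = J := by
          rw [← he, Scheme.Hom.ker_comp_of_isIso, Scheme.IdealSheafData.ker_subschemeι]
        haveI : IsLocallyNoetherian J.subscheme := LocallyOfFiniteType.isLocallyNoetherian J.subschemeι
        obtain ⟨q₁⟩ := DivisorExt.nonempty_quotMod_iso i
        obtain ⟨q₂⟩ := DivisorExt.nonempty_quotMod_iso J.subschemeι
        rw [Scheme.IdealSheafData.ker_subschemeι] at q₂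
        rw [hk] at q₁
        exact (cdiff_congr k L q₁).symm.trans (cdiff_congr k L q₂)
      rw [cdiff_push k hL i QCoh.isCoh_structureModule', hc] at hcJ
      haveI := CurveCohLib.isNoetherian_of_proper (k := k) (X := J.subscheme)
      rw [cdiff_push k hL J.subschemeι QCoh.isCoh_structureModule'] at hcJ
      have eJ : CohB1.tensorMod (Coh.structureModule J.subscheme) ((Scheme.Modules.pullback J.subschemeι).obj L) ≅
          (Scheme.Modules.pullback J.subschemeι).obj L := CurveTensor.structureTensorIso _
      have hcJ' : cdiff k ((Scheme.Modules.pullback J.subschemeι).obj L) (Coh.structureModule J.subscheme) =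
          Curv2.deg k J.subscheme ((Scheme.Modules.pullback J.subschemeι).obj L) 1 := by
        unfold cdiff Curv2.deg
        rw [CurveCohLib.euler_congr (k := k) eJ]
        push_cast
        ring
      rw [hcJ, hcJ']
      exact hJ.le
  let P : X.Modules → Prop := fun M => CohB1.support M ⊆ (D : Set X) → Coh.IsCoh M → 0 ≤ cdiff k L M
  have hnn : ∀ M, Coh.IsCoh M → CohB1.support M ⊆ (D : Set X) → 0 ≤ cdiff k L M := fun M hM hMs => by
    refine QCoh.devissage_ideals P (fun A B ⟨e⟩ h hBs hB => ?_) (fun M h _ _ => ?_) (D : Set X)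
      (fun T hT h1 h2 h3 i1 i3 hTs _ => ?_) (fun ξ hξ _ Z i _ _ hr I ι hι hI hI0 _ _ => ?_) hM hMs hMs hM
    · rw [← cdiff_congr k L e]
      refine h ?_ ?_
      · exact (QCoh.support_of_epi hB.1 ((QCoh.isQCoh_iff_iso e).2 hB.1) e.inv).trans hBs
      · exact QCoh.isCoh_of_mono e.hom hB ((QCoh.isQCoh_iff_iso e).2 hB.1)
    · unfold cdiff
      haveI := AmpleVan.isEquivalence_tw hL
      haveI : (AmpleVan.tw L).Additive := Functor.additive_of_preserves_binary_products _
      rw [Euler.euler_eq_sum k M 0 fun n _ => Euler.subsingleton_HH_of_isZero h n,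
        Euler.euler_eq_sum k (CohB1.tensorMod M L) 0 fun n _ =>
          Euler.subsingleton_HH_of_isZero ((AmpleVan.tw L).map_isZero h) n]
      simp
    · rw [cdiff_add k hL hT h1 h2 h3]
      haveI := hT.mono_f
      haveI := hT.epi_g
      exact add_nonneg (i1 ((QCoh.mem_support_of_mono h1.1 h2.1 T.f).trans hTs) h1)
        (i3 ((QCoh.support_of_epi h2.1 h3.1 T.g).trans hTs) h3)
    · exact hkey Z i (hr.le.trans hξ) ι hι hI hI0
  obtain ⟨η, hη, hηd⟩ := exists_divisor_component π hL hs hne
  let W : Closeds X := ⟨closure {η}, isClosed_closure⟩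
  let J := Scheme.IdealSheafData.vanishingIdeal W
  let i := J.subschemeι
  haveI := H23.RedSub.isReduced_vanishingIdeal W
  have hrange : Set.range i = closure {η} := AmpleVan.FiniteSurj.range_vanishingIdeal W
  haveI : IrreducibleSpace J.subscheme := by
    haveI := Subtype.irreducibleSpace (hrange ▸ isIrreducible_singleton.closure : IsIrreducible (Set.range i))
    exact i.isEmbedding.toHomeomorph.irreducibleSpace_iff.2 inferInstance
  haveI : IsIntegral J.subscheme := isIntegral_of_irreducibleSpace_of_isReduced _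
  letI : J.subscheme.Over (Spec (CommRingCat.of k)) := ⟨i ≫ π⟩
  haveI : IsProper (J.subscheme ↘ Spec (CommRingCat.of k)) := inferInstanceAs (IsProper (i ≫ π))
  haveI := CurveCohLib.isNoetherian_of_proper (k := k) (X := J.subscheme)
  have hι : i (genericPoint J.subscheme) = η := by
    refine (Specializes.antisymm ?_ ?_).eq
    · obtain ⟨z, hz⟩ : η ∈ Set.range i := hrange ▸ subset_closure rfl
      rw [← hz]
      exact (genericPoint_specializes z).map i.continuous
    · exact specializes_iff_mem_closure.2 (hrange ▸ ⟨_, rfl⟩)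
  have hJdim : topologicalKrullDim J.subscheme = 1 := by
    have hd2 : VarDim.deg π (genericPoint X) = 2 := by
      have h : (VarDim.deg π (genericPoint X) : WithBot ℕ∞) = 2 :=
        (VarDim.topologicalKrullDim_eq_deg_genericPoint π).symm.trans hdim
      exact_mod_cast h
    have h3 := VarDim.tdeg_comp i π (genericPoint J.subscheme)
    rw [VarDim.rdeg_preimmersion, add_zero, ← VarDim.deg_eq_tdeg, ← VarDim.deg_eq_tdeg, hι] at h3
    have h4 : VarDim.deg (i ≫ π) (genericPoint J.subscheme) = VarDim.deg π η := by exact_mod_cast h3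
    rw [VarDim.topologicalKrullDim_eq_deg_genericPoint (i ≫ π), h4, show VarDim.deg π η = 1 by omega]
    rfl
  have hJs : topologicalKrullDim (J.support : Set X) = 1 := by
    rw [← Scheme.IdealSheafData.range_subschemeι]
    exact (IsHomeomorph.topologicalKrullDim_eq _ i.isEmbedding.toHomeomorph.isHomeomorph).symm.trans hJdim
  have hJpos := hcurve J inferInstance hJs
  let v := (Scheme.Modules.pullbackPushforwardAdjunction i).unit.app L
  haveI : Epi v := epi_unit i hLc.1
  have hfv : f ≫ v = 0 := comp_unit_eq_zero i hL s fun z hz =>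
    hη ((specializes_iff_mem_closure.2 (hrange ▸ ⟨z, rfl⟩)).mem_open (locus s).isOpen hz)
  let g := cokernel.desc f v hfv
  haveI : Epi g := epi_of_epi_fac (cokernel.π_desc f v hfv)
  let T := ShortComplex.mk (kernel.ι g) g (kernel.condition g)
  have hT : T.ShortExact := .mk' (ShortComplex.exact_of_f_is_kernel _ (kernelIsKernel g)) inferInstance inferInstance
  have hiL := PicClLib.isInvertible_pullback i hL
  have hp : Coh.IsCoh ((Coh.push i).obj ((Scheme.Modules.pullback i).obj L)) :=
    QCoh.isCoh_push i (AmpleVan.isCoh_invertible hiL)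
  have hK : Coh.IsCoh (kernel g) := QCoh.isCoh_of_mono (kernel.ι g) hQ (QCoh.isQCoh_kernel hQ.1 hp.1 g)
  have h1 := cdiff_add k hL hT hK hQ hp
  replace h1 : cdiff k L (cokernel f) =
      cdiff k L (kernel g) + cdiff k L ((Coh.push i).obj ((Scheme.Modules.pullback i).obj L)) := h1
  have h2 : cdiff k L ((Coh.push i).obj ((Scheme.Modules.pullback i).obj L)) =
      Curv2.deg k J.subscheme ((Scheme.Modules.pullback i).obj L) 1 := by
    rw [cdiff_push k hL i (AmpleVan.isCoh_invertible hiL)]
    have h := CurveRR.deg_tensor k hJdim hiL hiL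
    unfold cdiff
    unfold Curv2.deg at h ⊢
    push_cast at h ⊢
    have e : Curv2.euler k J.subscheme ((DCoh.tensorBi.obj ((Scheme.Modules.pullback i).obj L)).obj ((Scheme.Modules.pullback i).obj L)) =
        Curv2.euler k J.subscheme (CohB1.tensorMod ((Scheme.Modules.pullback i).obj L) ((Scheme.Modules.pullback i).obj L)) := rfl
    linarith
  have h3 := hnn _ hK ((QCoh.mem_support_of_mono hK.1 hQ.1 (kernel.ι g)).trans hsQ)
  have hsum : cdiff k L (cokernel f) = SurfPairing.pair k (PicF.cl L) (PicF.cl L) := by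
    have h := cdiff_add k hL hS QCoh.isCoh_structureModule' hLc hQ
    replace h : cdiff k L L = cdiff k L (Coh.structureModule X) + cdiff k L (cokernel f) := h
    have e : CohB1.tensorMod (Coh.structureModule X) L ≅ L := CurveTensor.structureTensorIso _
    unfold cdiff at h ⊢
    rw [CurveCohLib.euler_congr (k := k) e] at h
    rw [SurfPairing.pair, SurfPairing.χ_one, ← cl_tensor, SurfPairing.χ_cl, SurfPairing.χ_cl]
    linarith
  rw [← hsum, h1, h2]
  linarith

end Groth.Agent.Nakai
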