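import Groth.Agent.Nakai.Main
import Groth.Agent.Nakai.Growth

/-!
The coefficient of `n₁⋯n_d` and the leading coefficient.
-/

set_option autoImplicit false
set_option linter.style.haveILetI false
set_option linter.unusedSectionVars false
set_option backward.isDefEq.respectTransparency false
set_option backward.isDefEq.respectTransparency.types false
set_option maxHeartbeats 1000000

universe u

open CategoryTheory CategoryTheory.Limits AlgebraicGeometry TopologicalSpace Opposite
open Groth.Agent.H23 Groth.Agent.H23.PicMul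
open scoped Polynomial

noncomputable section

namespace Groth.Agent.Nakai

attribute [local instance] PicMul.clMonoid

/-- The polynomial `Q(X₁ + ⋯ + X_d)`. -/
def sumSubst (d : ℕ) (Q : ℚ[X]) : MvPolynomial (Fin d) ℚ := Polynomial.aeval (∑ i, MvPolynomial.X i) Q

theorem eval_sumSubst (d : ℕ) (Q : ℚ[X]) (n : Fin d → ℕ) :
    MvPolynomial.eval (fun i => (n i : ℚ)) (sumSubst d Q) = Q.eval ((∑ i, n i : ℕ) : ℚ) := by
  show MvPolynomial.aeval (fun i => (n i : ℚ)) (Polynomial.aeval (∑ i, MvPolynomial.X i) Q) = _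
  rw [← Polynomial.aeval_algHom_apply, map_sum]
  simp only [MvPolynomial.aeval_X]
  push_cast
  rfl

/-- The coefficient of the product of all variables in `Q(X₁ + ⋯ + X_d)`. -/
theorem coeff_sumSubst (d : ℕ) (Q : ℚ[X]) : ∃ c : ℚ, 0 < c ∧
    MvPolynomial.coeff (Finsupp.equivFunOnFinite.symm fun _ : Fin d => 1) (sumSubst d Q) = c * Q.coeff d := by
  classical
  let α : Fin d →₀ ℕ := Finsupp.equivFunOnFinite.symm fun _ : Fin d => 1
  let S : MvPolynomial (Fin d) ℚ := ∑ i, MvPolynomial.X i
  have hα : α.degree = d := by simp [Finsupp.degree_eq_sum, α]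
  have hhom : ∀ j, (S ^ j).IsHomogeneous j := fun j => by
    have h := (MvPolynomial.IsHomogeneous.sum Finset.univ (fun i : Fin d => (MvPolynomial.X i : MvPolynomial (Fin d) ℚ)) 1
      fun i _ => MvPolynomial.isHomogeneous_X ℚ i).pow j
    rwa [one_mul] at h
  refine ⟨MvPolynomial.coeff α (S ^ d), ?_, ?_⟩
  · show 0 < MvPolynomial.coeff α ((∑ i, MvPolynomial.X i) ^ d)
    rw [Finset.sum_pow', MvPolynomial.coeff_sum]
    have hmon : ∀ f : Fin d → Fin d, (∏ t, MvPolynomial.X (f t) : MvPolynomial (Fin d) ℚ) =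
        MvPolynomial.monomial (∑ t, Finsupp.single (f t) 1) 1 := fun f => by
      rw [MvPolynomial.monomial_sum_one]
      rfl
    refine Finset.sum_pos' (fun f _ => ?_) ⟨id, by simp, ?_⟩
    · rw [hmon, MvPolynomial.coeff_monomial]
      split <;> norm_num
    · rw [hmon, MvPolynomial.coeff_monomial, if_pos]
      · exact one_pos
      · ext i
        simp [α, Finsupp.finsetSum_apply, Finsupp.single_apply]
  · show MvPolynomial.coeff α (Polynomial.aeval S Q) = _
    rw [Polynomial.aeval_eq_sum_range' (n := max Q.natDegree d + 1) (by omega), MvPolynomial.coeff_sum]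
    rw [Finset.sum_eq_single d (fun j _ hj => ?_) (fun h => (h (Finset.mem_range.2 (by omega))).elim)]
    · rw [MvPolynomial.coeff_smul, smul_eq_mul, mul_comm]
    · rw [MvPolynomial.coeff_smul, (hhom j).coeff_eq_zero (by rw [hα]; exact Ne.symm hj), smul_zero]

variable {k : Type u} [Field k] {X : Scheme.{u}} [X.Over (Spec (CommRingCat.of k))]
  [IsProper (X ↘ Spec (CommRingCat.of k))] {L : X.Modules}

/-- The class of an iterated twist by one module. -/
theorem cl_tensorPows (F : X.Modules) : ∀ (d : ℕ) (n : Fin d → ℕ),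
    PicF.cl (Curv2.tensorPows F d (fun _ => L) n) = PicF.cl F * PicF.cl L ^ (∑ i, n i)
  | 0, n => by
    show PicF.cl F = _
    simp
  | d + 1, n => by
    show PicF.cl (CohB1.tensorMod (Curv2.tensorPows F d (fun _ => L) fun i => n i.castSucc)
      (CohB1.tensorPow L (n (Fin.last d)))) = _
    rw [cl_tensor, cl_tensorPow, cl_tensorPows F d, Fin.sum_univ_castSucc, pow_add, mul_assoc]

theorem euler_tensorPows (Z : X.IdealSheafData) (d : ℕ) (n : Fin d → ℕ) :
    (Curv2.euler k X (Curv2.tensorPows (ClSub.quotMod Z) d (fun _ => L) n) : ℚ) = chi k L Z (∑ i, n i) := by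
  obtain ⟨e⟩ := cl_eq_iff.1 (show PicF.cl (Curv2.tensorPows (ClSub.quotMod Z) d (fun _ => L) n) =
      PicF.cl (CohB1.tensorMod (ClSub.quotMod Z) (CohB1.tensorPow L (∑ i, n i))) by
    rw [cl_tensorPows, cl_tensor, cl_tensorPow])
  exact congrArg Int.cast (CurveCohLib.euler_congr (k := k) e)

variable (k) in
/-- Snapper's polynomial on an integral closed subscheme. -/
theorem exists_poly (hL : PicF.IsInvertible L) (Z : X.IdealSheafData) {d : ℕ}
    (hd : topologicalKrullDim (Z.support : Set X) = d) :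
    ∃ Q : ℚ[X], Q.natDegree ≤ d ∧ ∀ m : ℕ, chi k L Z m = Q.eval (m : ℚ) := by
  haveI := CurveCohLib.isNoetherian_of_proper (k := k) (X := X)
  haveI : IsLocallyNoetherian Z.subscheme := LocallyOfFiniteType.isLocallyNoetherian Z.subschemeι
  obtain ⟨e⟩ := DivisorExt.nonempty_quotMod_iso Z.subschemeι
  rw [Scheme.IdealSheafData.ker_subschemeι] at e
  have hq : Coh.IsCoh (ClSub.quotMod Z) := ParShLib.isCoh_quotMod _
  have hs : CohB1.support (ClSub.quotMod Z) ⊆ (Z.support : Set X) := fun x hx => by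
    by_contra h
    exact hx (ParShLib.subsingleton_stalk_quotMod Z h)
  obtain ⟨Q, hQ, hQm⟩ := Snapper.isPolyLt_of_dim_lt k hL (d + 1) Z.support
    (lt_of_le_of_lt hd.le (by exact_mod_cast Nat.lt_succ_self d)) _ hq hs
  refine ⟨Q, ?_, hQm⟩
  by_cases h0 : Q = 0
  · simp [h0]
  · exact Nat.lt_succ_iff.1 ((Polynomial.natDegree_lt_iff_degree_lt h0).2 hQ)

/-- The criterion with the coefficient of the product of the variables. -/
theorem isPos_of_coeff (hL : PicF.IsInvertible L)
    (h : ∀ (Z : X.IdealSheafData) [IsIntegral Z.subscheme] (d : ℕ), 0 < d →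
      topologicalKrullDim (Z.support : Set X) = d → ∀ P : MvPolynomial (Fin d) ℚ,
        (∀ n : Fin d → ℕ, (Curv2.euler k X (Curv2.tensorPows (ClSub.quotMod Z) d (fun _ => L) n) : ℚ) =
          MvPolynomial.eval (fun i => (n i : ℚ)) P) →
        0 < MvPolynomial.coeff (Finsupp.equivFunOnFinite.symm fun _ : Fin d => 1) P) : IsPos k L := by
  intro Z hZ d hd hZd
  haveI := hZ
  obtain ⟨Q, hQd, hQm⟩ := exists_poly k hL Z hZd
  refine ⟨Q, hQd, ?_, hQm⟩
  have h1 := h Z d hd hZd (sumSubst d Q) fun n => by rw [euler_tensorPows, hQm, eval_sumSubst]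
  obtain ⟨c, hc, e⟩ := coeff_sumSubst d Q
  rw [e] at h1
  exact pos_of_mul_pos_right h1 hc.le

/-- Ample modules are positive. -/
theorem coeff_pos (hL : CohB1.IsAmple L) (Z : X.IdealSheafData) [IsIntegral Z.subscheme] (d : ℕ)
    (hZd : topologicalKrullDim (Z.support : Set X) = d) (P : MvPolynomial (Fin d) ℚ)
    (hP : ∀ n : Fin d → ℕ, (Curv2.euler k X (Curv2.tensorPows (ClSub.quotMod Z) d (fun _ => L) n) : ℚ) =
      MvPolynomial.eval (fun i => (n i : ℚ)) P) :
    0 < MvPolynomial.coeff (Finsupp.equivFunOnFinite.symm fun _ : Fin d => 1) P := by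
  obtain ⟨Q, -, hQm⟩ := exists_poly k hL.1 Z hZd
  have hPQ : P = sumSubst d Q := MvPolynomial.funext_set (fun _ => Set.range ((↑) : ℕ → ℚ))
    (fun _ => Set.infinite_range_of_injective Nat.cast_injective) fun x hx => by
      choose n hn using fun i => hx i trivial
      obtain rfl : x = fun i => (n i : ℚ) := funext fun i => (hn i).symm
      rw [← hP, eval_sumSubst, euler_tensorPows, hQm]
  obtain ⟨c, hc, e⟩ := coeff_sumSubst d Q
  rw [hPQ, e]
  let i := Z.subschemeι
  letI : Z.subscheme.Over (Spec (CommRingCat.of k)) := ⟨i ≫ (X ↘ (Spec (CommRingCat.of k)))⟩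
  haveI : IsProper (Z.subscheme ↘ Spec (CommRingCat.of k)) :=
    inferInstanceAs (IsProper (i ≫ (X ↘ Spec (CommRingCat.of k))))
  haveI : CompactSpace X := QuasiCompact.compactSpace_of_compactSpace (X ↘ Spec (CommRingCat.of k))
  haveI : CompactSpace Z.subscheme := i.isClosedEmbedding.compactSpace
  have hdeg : VarDim.deg (Z.subscheme ↘ Spec (CommRingCat.of k)) (genericPoint Z.subscheme) = d := by
    have h := VarDim.topologicalKrullDim_eq_deg_genericPoint (Z.subscheme ↘ Spec (CommRingCat.of k))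
    rw [IsHomeomorph.topologicalKrullDim_eq _
      ((i.isEmbedding.toHomeomorph).trans (Homeomorph.setCongr Z.range_subschemeι)).isHomeomorph, hZd] at h
    exact_mod_cast h.symm
  exact mul_pos hc (coeff_pos_of_ample k d Z.subscheme hdeg
    (AmpleVan.FiniteSurj.isAmple_pullback_of_isAffineHom i hL) Q fun m => (chi_eq k hL.1 Z m).symm.trans (hQm m)).2

end Groth.Agent.Nakai
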