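import Groth.Agent.Nakai.Section
import Groth.Agent.Lib.SurfNegDef
import Groth.Agent.AmpleX.QuasiAffine

/-!
The Nakai-Moishezon criterion.
-/

set_option autoImplicit false
set_option linter.style.haveILetI false
set_option linter.unusedSectionVars false
set_option backward.isDefEq.respectTransparency false
set_option backward.isDefEq.respectTransparency.types false
set_option maxHeartbeats 1000000

universe u

open CategoryTheory CategoryTheory.Limits AlgebraicGeometry TopologicalSpace Opposite
open Groth.Agent.H23 Groth.Agent.H23.TrivBasic Groth.Agent.H23.PicMul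

noncomputable section

namespace Groth.Agent.Nakai

attribute [local instance] PicMul.clMonoid

theorem subsingleton_of_finite {α : Type*} [TopologicalSpace α] [JacobsonSpace α] {W : Set α}
    (hW : IsIrreducible W) (hc : IsClosed W) (hf : W.Finite) : W.Subsingleton := by
  have hcl : W ∩ closedPoints α = W := by
    have h := JacobsonSpace.closure_inter_closedPoints hc
    have hsub : IsClosed (W ∩ closedPoints α) := by
      rw [← Set.biUnion_of_singleton (W ∩ closedPoints α)]
      exact (hf.subset Set.inter_subset_left).isClosed_biUnion fun x hx => mem_closedPoints_iff.1 hx.2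
    rwa [hsub.closure_eq] at h
  have hun : ∀ s ⊆ W, IsClosed s := fun s hs => by
    rw [← Set.biUnion_of_singleton s]
    exact (hf.subset hs).isClosed_biUnion fun x hx => mem_closedPoints_iff.1 (hcl.ge (hs hx)).2
  intro a ha b hb
  by_contra hab
  have := hW.2 ({a} : Set α)ᶜ ({b} : Set α)ᶜ (hun _ (Set.singleton_subset_iff.2 ha)).isOpen_compl
    (hun _ (Set.singleton_subset_iff.2 hb)).isOpen_compl ⟨b, hb, Ne.symm hab⟩ ⟨a, ha, hab⟩
  obtain ⟨c, hcW, hca, hcb⟩ := this
  have h2 := hW.2 (W \ {a})ᶜ (({a} : Set α))ᶜ (hun _ Set.sdiff_subset).isOpen_compl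
    (hun _ (Set.singleton_subset_iff.2 ha)).isOpen_compl
    ⟨a, ha, fun h => h.2 rfl⟩ ⟨b, hb, Ne.symm hab⟩
  obtain ⟨d, hdW, hd1, hd2⟩ := h2
  exact hd1 ⟨hdW, hd2⟩

theorem exists_curve_in {X : Scheme.{u}} [IsNoetherian X] [JacobsonSpace X] {W : Set X} (hc : IsClosed W)
    (hW : IsIrreducible W) (hinf : W.Infinite) :
    ∃ Z : Closeds X, (Z : Set X) ⊆ W ∧ IsIrreducible (Z : Set X) ∧
      topologicalKrullDim (Z : Set X) = 1 := by
  obtain ⟨Z, ⟨hZW, hZi, hZf⟩, hmin⟩ := WellFounded.has_min (wellFounded_lt (α := Closeds X))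
    {Z : Closeds X | (Z : Set X) ⊆ W ∧ IsIrreducible (Z : Set X) ∧ (Z : Set X).Infinite}
    ⟨⟨W, hc⟩, le_refl _, hW, hinf⟩
  refine ⟨Z, hZW, hZi, le_antisymm ?_ ?_⟩
  · refine Order.krullDim_le_one_iff.2 fun a => ?_
    let A : Closeds X := ⟨Subtype.val '' (a : Set (Z : Set X)),
      Z.isClosed.isClosedEmbedding_subtypeVal.isClosedMap _ a.isClosed⟩
    have hA : IsIrreducible (A : Set X) := a.isIrreducible.image _ continuous_subtype_val.continuousOn
    have hAZ : (A : Set X) ⊆ Z := by
      rintro _ ⟨z, -, rfl⟩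
      exact z.2
    rcases Set.finite_or_infinite (A : Set X) with hf | hi
    · refine Or.inl fun b hb z hz => ?_
      obtain ⟨w, hw⟩ := b.isIrreducible.nonempty
      have := subsingleton_of_finite hA A.isClosed hf ⟨w, hb hw, rfl⟩ ⟨z, hz, rfl⟩
      rw [← Subtype.ext this]
      exact hw
    · refine Or.inr fun b hb z _ => ?_
      have h1 : ¬ A < Z := hmin A ⟨hAZ.trans hZW, hA, hi⟩
      have h2 : A = Z := by
        by_contra h
        exact h1 (lt_of_le_of_ne hAZ h)
      have hz : (z : X) ∈ (A : Set X) := by rw [h2]; exact z.2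
      obtain ⟨z', hz', e⟩ := hz
      rwa [← Subtype.ext e]
  · obtain ⟨x, hxZ, hxc⟩ := nonempty_inter_closedPoints hZi.nonempty Z.isClosed.isLocallyClosed
    haveI : Infinite (Z : Set X) := hZf.to_subtype
    have hx : IsClosed ({⟨x, hxZ⟩} : Set (Z : Set X)) := by
      rw [show ({⟨x, hxZ⟩} : Set (Z : Set X)) = Subtype.val ⁻¹' {x} by ext ⟨y, hy⟩; simp]
      exact (mem_closedPoints_iff.1 hxc).preimage continuous_subtype_val
    haveI := Subtype.irreducibleSpace hZi
    let b : TopologicalSpace.IrreducibleCloseds (Z : Set X) := ⟨{⟨x, hxZ⟩}, isIrreducible_singleton, hx⟩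
    let t : TopologicalSpace.IrreducibleCloseds (Z : Set X) :=
      ⟨Set.univ, IrreducibleSpace.isIrreducible_univ _, isClosed_univ⟩
    have hlt : b < t := lt_of_le_of_ne (fun z _ => trivial) fun h => by
      have h' : ({⟨x, hxZ⟩} : Set (Z : Set X)) = Set.univ := congrArg SetLike.coe h
      exact Set.infinite_univ (h' ▸ Set.finite_singleton _)
    exact le_iSup_of_le ((RelSeries.singleton _ b).snoc t hlt) (le_of_eq rfl)

variable {k : Type u} [Field k] {X : Scheme.{u}} [X.Over (Spec (CommRingCat.of k))]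
  [IsProper (X ↘ Spec (CommRingCat.of k))]

variable (k) in
/-- The Euler characteristics of the twists of the structure sheaf of a closed subscheme. -/
def chi (L : X.Modules) (Z : X.IdealSheafData) (m : ℕ) : ℚ :=
  (Curv2.euler k X (CohB1.tensorMod (ClSub.quotMod Z) (CohB1.tensorPow L m)) : ℚ)

variable (k) in
/-- Positivity of the top coefficient of the twists on the integral closed subschemes. -/
def IsPos (L : X.Modules) : Prop :=
  ∀ Z : X.IdealSheafData, IsIntegral Z.subscheme → ∀ d : ℕ, 0 < d →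
    topologicalKrullDim (Z.support : Set X) = d →
      ∃ Q : Polynomial ℚ, Q.natDegree ≤ d ∧ 0 < Q.coeff d ∧ ∀ m : ℕ, chi k L Z m = Q.eval (m : ℚ)

variable (k) in
/-- On a closed subscheme the twists are Euler characteristics of restricted powers. -/
theorem chi_eq {L : X.Modules} (hL : PicF.IsInvertible L) (Z : X.IdealSheafData) (m : ℕ) :
    letI : Z.subscheme.Over (Spec (CommRingCat.of k)) := ⟨Z.subschemeι ≫ (X ↘ (Spec (CommRingCat.of k)))⟩
    chi k L Z m =
      (Curv2.euler k Z.subscheme (CohB1.tensorPow ((Scheme.Modules.pullback Z.subschemeι).obj L) m) : ℚ) := by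
  let i := Z.subschemeι
  letI : Z.subscheme.Over (Spec (CommRingCat.of k)) := ⟨i ≫ (X ↘ (Spec (CommRingCat.of k)))⟩
  haveI : IsLocallyNoetherian X := LocallyOfFiniteType.isLocallyNoetherian (X ↘ Spec (CommRingCat.of k))
  haveI : IsLocallyNoetherian Z.subscheme := LocallyOfFiniteType.isLocallyNoetherian i
  have hP := InvX.isInvertible_tensorPow hL m
  obtain ⟨e⟩ := DivisorExt.nonempty_quotMod_iso i
  rw [Scheme.IdealSheafData.ker_subschemeι] at e
  obtain ⟨e₁⟩ := AmpleVan.RelVanish.tensor_congr e (Iso.refl (CohB1.tensorPow L m))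
  obtain ⟨e₂⟩ := AmpleVan.FiniteSurj.nonempty_push_twist i (Coh.structureModule Z.subscheme) hP
  obtain ⟨e₃⟩ := AmpleVan.RelVanish.pullback_tensorPow i L m
  let e₄ : CohB1.tensorMod (Coh.structureModule Z.subscheme) ((Scheme.Modules.pullback i).obj (CohB1.tensorPow L m)) ≅
      CohB1.tensorPow ((Scheme.Modules.pullback i).obj L) m := CurveTensor.structureTensorIso _ ≪≫ e₃
  show (Curv2.euler k X _ : ℚ) = _
  rw [Int.cast_inj]
  refine (CurveCohLib.euler_congr (k := k) (e₁ ≪≫ e₂ ≪≫ (Scheme.Modules.pushforward i).mapIso e₄)).trans (finsum_congr fun n => ?_)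
  obtain ⟨a⟩ := PnCoh.exists_linearEquiv_push k i rfl
    (AmpleVan.isCoh_invertible (InvX.isInvertible_tensorPow (PicClLib.isInvertible_pullback i hL) m)).1 n
  rw [a.finrank_eq]

/-- Restrictions to closed subschemes of a closed subscheme. -/
theorem triv_pullback_of_factor {C W : Scheme.{u}} (j : C ⟶ X) (a : W ⟶ C) (ι : W ⟶ X) (ha : a ≫ j = ι)
    {L : X.Modules} (h : Triv ((Scheme.Modules.pullback j).obj L)) : Triv ((Scheme.Modules.pullback ι).obj L) :=
  Triv.of_iso ((Scheme.Modules.pullbackComp a j).app L ≪≫ (Scheme.Modules.pullbackCongr ha).app L) (h.pullback a)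

/-- Triviality on a curve contradicts positivity. -/
theorem finite_of_triv {L : X.Modules} (hL : PicF.IsInvertible L) (hpos : IsPos k L) {C : Scheme.{u}} (j : C ⟶ X)
    [IsClosedImmersion j] [IsIntegral C] (htr : Triv ((Scheme.Modules.pullback j).obj L)) : Finite C := by
  haveI := CurveCohLib.isNoetherian_of_proper (k := k) (X := X)
  haveI : JacobsonSpace X := LocallyOfFiniteType.jacobsonSpace (X ↘ Spec (CommRingCat.of k))
  by_contra hinf
  rw [not_finite_iff_infinite] at hinf
  have hirr : IsIrreducible (Set.range j) := Set.image_univ ▸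
    (IrreducibleSpace.isIrreducible_univ C).image _ j.continuous.continuousOn
  obtain ⟨W, hWC, hWi, hdim⟩ := exists_curve_in j.isClosedEmbedding.isClosed_range hirr
    (Set.infinite_range_of_injective j.isClosedEmbedding.injective)
  let J := Scheme.IdealSheafData.vanishingIdeal W
  let ι := J.subschemeι
  haveI := H23.RedSub.isReduced_vanishingIdeal W
  have hrange : Set.range ι = (W : Set X) := AmpleVan.FiniteSurj.range_vanishingIdeal W
  haveI : IrreducibleSpace J.subscheme := by
    haveI := Subtype.irreducibleSpace (hrange ▸ hWi : IsIrreducible (Set.range ι))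
    exact ι.isEmbedding.toHomeomorph.irreducibleSpace_iff.2 inferInstance
  haveI : IsIntegral J.subscheme := isIntegral_of_irreducibleSpace_of_isReduced _
  obtain ⟨Q, hQd, hQ, hQm⟩ := hpos J inferInstance 1 one_pos
    (by rw [Scheme.IdealSheafData.coe_support_vanishingIdeal]; exact_mod_cast hdim)
  obtain ⟨a, ha⟩ := H23.RedSub.exists_lift_closed ι j (by rw [hrange]; exact hWC)
  obtain ⟨τ⟩ := triv_pullback_of_factor j a ι ha htr
  letI : J.subscheme.Over (Spec (CommRingCat.of k)) := ⟨ι ≫ (X ↘ Spec (CommRingCat.of k))⟩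
  have hconst : ∀ m : ℕ, Q.eval (m : ℚ) = Q.eval 0 := fun m => by
    have h0 := (hQm 0).symm.trans (chi_eq k hL J 0)
    have hm := (hQm m).symm.trans (chi_eq k hL J m)
    rw [Nat.cast_zero] at h0
    rw [hm, h0, Int.cast_inj]
    have e : ∀ n : ℕ, PicF.cl (CohB1.tensorPow ((Scheme.Modules.pullback ι).obj L) n) = 1 := fun n => by
      rw [cl_tensorPow, cl_eq_iff.2 ⟨τ⟩, ← one_def, one_pow]
    obtain ⟨φ⟩ := cl_eq_iff.1 ((e m).trans (e 0).symm)
    exact CurveCohLib.euler_congr (k := k) φ
  have hQ' : Q = Polynomial.C (Q.eval 0) :=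
    Polynomial.eq_of_infinite_eval_eq _ _ (Set.Infinite.mono (s := Set.range ((↑) : ℕ → ℚ))
      (by rintro _ ⟨m, rfl⟩; simp [hconst m]) (Set.infinite_range_of_injective Nat.cast_injective))
  rw [hQ', Polynomial.coeff_C] at hQ
  simp at hQ

variable (k) in
include k in
/-- The inductive step. -/
theorem isAmple_restrict {L : X.Modules} (hL : PicF.IsInvertible L) (hpos : IsPos k L) (C : Closeds X) :
    CohB1.IsAmple ((Scheme.Modules.pullback (Scheme.IdealSheafData.vanishingIdeal C).subschemeι).obj L) := by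
  haveI := CurveCohLib.isNoetherian_of_proper (k := k) (X := X)
  induction C using WellFoundedLT.induction with
  | ind C IH =>
  let π := X ↘ Spec (CommRingCat.of k)
  let J := Scheme.IdealSheafData.vanishingIdeal C
  let ι := J.subschemeι
  let Y := J.subscheme
  haveI : IsReduced Y := H23.RedSub.isReduced_vanishingIdeal C
  have hr : Set.range ι = (C : Set X) := AmpleVan.FiniteSurj.range_vanishingIdeal C
  letI : Y.Over (Spec (CommRingCat.of k)) := ⟨ι ≫ π⟩
  haveI : IsProper (Y ↘ Spec (CommRingCat.of k)) := inferInstanceAs (IsProper (ι ≫ π))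
  haveI := CurveCohLib.isNoetherian_of_proper (k := k) (X := Y)
  let LY := (Scheme.Modules.pullback ι).obj L
  have hLY : PicF.IsInvertible LY := PicClLib.isInvertible_pullback ι hL
  have hbelow : AmpleBelow LY := fun D hD => by
    let w := (Scheme.IdealSheafData.vanishingIdeal D).subschemeι
    let C' : Closeds X := ⟨ι '' (D : Set Y), ι.isClosedEmbedding.isClosedMap _ D.isClosed⟩
    have hlt : C' < C := lt_of_le_of_ne
      (show (C' : Set X) ⊆ C from hr ▸ Set.image_subset_range _ _) fun h => hD (by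
        have h1 : ι '' (D : Set Y) = ι '' Set.univ := by rw [Set.image_univ, hr]; exact congrArg SetLike.coe h
        exact ι.isClosedEmbedding.injective.image_injective h1)
    haveI := H23.RedSub.isReduced_vanishingIdeal D
    obtain ⟨a, ha⟩ := H23.RedSub.exists_lift_closed (w ≫ ι) (Scheme.IdealSheafData.vanishingIdeal C').subschemeι (by
      rw [AmpleVan.FiniteSurj.range_vanishingIdeal]
      rintro _ ⟨z, rfl⟩
      exact ⟨w z, (AmpleVan.FiniteSurj.range_vanishingIdeal D).le ⟨z, rfl⟩, rfl⟩)
    haveI : IsClosedImmersion (a ≫ (Scheme.IdealSheafData.vanishingIdeal C').subschemeι) := by rw [ha]; infer_instance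
    haveI : IsClosedImmersion a := IsClosedImmersion.of_comp a (Scheme.IdealSheafData.vanishingIdeal C').subschemeι
    haveI : CompactSpace (Scheme.IdealSheafData.vanishingIdeal D).subscheme := w.isClosedEmbedding.compactSpace
    exact AmpleX.isAmple_of_iso ((Scheme.Modules.pullbackComp a _).app L ≪≫ (Scheme.Modules.pullbackCongr ha).app L ≪≫
        ((Scheme.Modules.pullbackComp w ι).app L).symm)
      (AmpleVan.FiniteSurj.isAmple_pullback_of_isAffineHom a (IH C' hlt))
  rcases isEmpty_or_nonempty Y with hY | hY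
  · exact AmpleX.isAmple_iff.2 ⟨hLY, inferInstance, fun y => isEmptyElim y⟩
  by_cases hirr : IrreducibleSpace Y
  swap
  · have hs : ¬ IsPreirreducible (Set.univ : Set Y) := fun h => hirr { isPreirreducible_univ := h, toNonempty := hY }
    rw [isPreirreducible_iff_isClosed_union_isClosed] at hs
    push Not at hs
    obtain ⟨A, B, hA, hB, hAB, hnA, hnB⟩ := hs
    classical
    refine AmpleVan.FiniteSurj.isAmple_of_finite_cover (A := k) hLY ({⟨A, hA⟩, ⟨B, hB⟩} : Finset (Closeds Y)) ?_ fun D hD => ?_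
    · refine top_le_iff.1 fun y _ => ?_
      rw [Finset.sup_insert, Finset.sup_singleton]
      exact hAB (Set.mem_univ y)
    · rw [Finset.mem_insert, Finset.mem_singleton] at hD
      rcases hD with rfl | rfl
      · exact hbelow _ fun h => hnA (fun y _ => h.ge (Set.mem_univ y))
      · exact hbelow _ fun h => hnB (fun y _ => h.ge (Set.mem_univ y))
  haveI : IsIntegral Y := isIntegral_of_irreducibleSpace_of_isReduced _
  let p := Y ↘ Spec (CommRingCat.of k)
  have hdimY := VarDim.topologicalKrullDim_eq_deg_genericPoint p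
  rcases Nat.eq_zero_or_pos (VarDim.deg p (genericPoint Y)) with h0 | h0
  · haveI : Subsingleton Y := ⟨fun a b => by
      rw [← VarDim.eq_of_specializes_of_deg_le p (genericPoint_specializes a) (by omega),
        ← VarDim.eq_of_specializes_of_deg_le p (genericPoint_specializes b) (by omega)]⟩
    haveI := Euler.isAffine_of_subsingleton Y
    exact AmpleX.isAmple_of_isQuasiAffine hLY
  have hdimC : topologicalKrullDim (J.support : Set X) = (VarDim.deg p (genericPoint Y) : ℕ) := by
    rw [Scheme.IdealSheafData.coe_support_vanishingIdeal]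
    rw [← IsHomeomorph.topologicalKrullDim_eq _ ((ι.isEmbedding.toHomeomorph).trans (Homeomorph.setCongr hr)).isHomeomorph]
    exact hdimY
  obtain ⟨Q, hQd, hQ, hQm⟩ := hpos J inferInstance _ h0 hdimC
  have hnd : Q.natDegree = VarDim.deg p (genericPoint Y) :=
    le_antisymm hQd (Polynomial.le_natDegree_of_ne_zero hQ.ne')
  have htend : Filter.Tendsto (fun x => Q.eval x) Filter.atTop Filter.atTop :=
    Polynomial.tendsto_atTop_of_leadingCoeff_nonneg Q (Polynomial.natDegree_pos_iff_degree_pos.1 (hnd ▸ h0))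
      (by rw [Polynomial.leadingCoeff, hnd]; exact hQ.le)
  have hgrow : ∀ (c : ℤ) (N : ℕ), ∃ m, N ≤ m ∧ c < Curv2.euler k Y (CohB1.tensorPow LY m) := fun c N => by
    obtain ⟨m, hm₁, hm₂⟩ := ((((htend.comp tendsto_natCast_atTop_atTop).eventually_gt_atTop (c : ℚ)).and
      (Filter.eventually_ge_atTop N))).exists
    refine ⟨m, hm₂, ?_⟩
    have h : (c : ℚ) < Q.eval (m : ℚ) := hm₁
    rw [← hQm m, chi_eq k hL J m] at h
    exact_mod_cast h
  obtain ⟨n, hn, s, hs⟩ := exists_pow_section (k := k) hLY hbelow hgrow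
  obtain ⟨j, hj⟩ := exists_generated_pow k (InvX.isInvertible_tensorPow hLY n) (hbelow.pow hn) hs
  refine AmpleX.isAmple_of_tensorPow hLY hn
    (AmpleX.isAmple_of_tensorPow (InvX.isInvertible_tensorPow hLY n) (Nat.succ_pos j) ?_)
  refine AVAmple.isAmple_of_nontriv p (InvX.isInvertible_tensorPow (InvX.isInvertible_tensorPow hLY n) _) hj
    fun {W} i hi hW htr => ?_
  haveI := hi; haveI := hW
  have hL' : PicF.IsInvertible (CohB1.tensorPow (CohB1.tensorPow L n) (j + 1)) :=
    InvX.isInvertible_tensorPow (InvX.isInvertible_tensorPow hL n) _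
  have hpos' : IsPos k (CohB1.tensorPow (CohB1.tensorPow L n) (j + 1)) := fun Z hZ d hd hZd => by
    obtain ⟨R, hRd, hR, hRm⟩ := hpos Z hZ d hd hZd
    refine ⟨R.comp (Polynomial.C ((n * (j + 1) : ℕ) : ℚ) * Polynomial.X), ?_, ?_, fun m => ?_⟩
    · refine le_trans Polynomial.natDegree_comp_le ?_
      rw [Polynomial.natDegree_C_mul_X _ (by exact_mod_cast (Nat.mul_pos hn (Nat.succ_pos j)).ne'), mul_one]
      exact hRd
    · rw [Polynomial.comp_C_mul_X_coeff]
      exact mul_pos hR (pow_pos (by exact_mod_cast Nat.mul_pos hn (Nat.succ_pos j)) d)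
    · rw [Polynomial.eval_comp, Polynomial.eval_mul, Polynomial.eval_C, Polynomial.eval_X, ← Nat.cast_mul, ← hRm]
      unfold chi
      rw [Int.cast_inj]
      obtain ⟨φ⟩ := cl_eq_iff.1 (show PicF.cl (CohB1.tensorMod (ClSub.quotMod Z)
          (CohB1.tensorPow (CohB1.tensorPow (CohB1.tensorPow L n) (j + 1)) m)) =
          PicF.cl (CohB1.tensorMod (ClSub.quotMod Z) (CohB1.tensorPow L (n * (j + 1) * m))) by
        simp only [cl_tensor, cl_tensorPow, ← pow_mul])
      exact CurveCohLib.euler_congr (k := k) φ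
  refine finite_of_triv hL' hpos' (i ≫ ι) ?_
  obtain ⟨e₁⟩ := AmpleVan.RelVanish.pullback_tensorPow ι (CohB1.tensorPow L n) (j + 1)
  obtain ⟨e₂⟩ := AmpleVan.RelVanish.pullback_tensorPow ι L n
  obtain ⟨e₃⟩ := AmpleVan.RelVanish.tensorPow_congr e₂ (j + 1)
  exact Triv.of_iso ((Scheme.Modules.pullback i).mapIso (e₁ ≪≫ e₃).symm ≪≫
    (Scheme.Modules.pullbackComp i ι).app _) htr

variable (k) in
include k in
/-- The Nakai-Moishezon criterion, sufficiency. -/
theorem isAmple_of_pos {L : X.Modules} (hL : PicF.IsInvertible L) (hpos : IsPos k L) : CohB1.IsAmple L := by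
  refine AmpleVan.FiniteSurj.isAmple_of_finite_cover (A := k) hL {⊤} Finset.sup_singleton fun C _ =>
    isAmple_restrict k hL hpos C

end Groth.Agent.Nakai
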