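import Groth.Agent.Nakai.Nef
import Groth.Agent.H23.PicInv
import Groth.Agent.Lib.GenLocusGG
import Groth.Agent.AmpleX.Generated

/-!
Bigness: growth of sections, ample submodules of powers, and the top self intersection of nef modules.
-/

set_option autoImplicit false
set_option linter.style.haveILetI false
set_option linter.unusedSectionVars false
set_option backward.isDefEq.respectTransparency false
set_option backward.isDefEq.respectTransparency.types false
set_option maxHeartbeats 1000000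

universe u

open CategoryTheory CategoryTheory.Limits AlgebraicGeometry TopologicalSpace Opposite
open Groth.Agent.H23 Groth.Agent.H23.TrivBasic Groth.Agent.H23.PicMul
open Groth.Agent.NefPoly Groth.Agent.NefCrit
open Groth.Agent.Snapper (DegLt)
open Groth.Agent.PnCoh.Finite (mapLin)
open scoped Polynomial

noncomputable section

namespace Groth.Agent.NefBig

attribute [local instance] PicMul.clMonoid

theorem Ty_smul (d : ℕ) (P : MvPolynomial (Fin 2) ℚ) (c x y : ℝ) :
    Ty d P (c * x) (c * y) = c ^ (d - 1) * Ty d P x y := by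
  rw [Ty, Ty, Finset.mul_sum]
  refine Finset.sum_congr rfl fun j hj => ?_
  have hjd : j ≤ d := Nat.lt_succ_iff.1 (Finset.mem_range.1 hj)
  rcases Nat.eq_zero_or_pos j with rfl | h
  · simp
  rw [mul_pow, mul_pow, show c ^ (d - 1) = c ^ (d - j) * c ^ (j - 1) by rw [← pow_add]; congr 1; omega]
  ring

theorem continuous_Ty (d : ℕ) (P : MvPolynomial (Fin 2) ℚ) : Continuous fun t : ℝ => Ty d P 1 t := by
  unfold Ty; fun_prop

/-- A positive coefficient in top degree gives a lower bound. -/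
theorem eventually_ge {Q : ℚ[X]} {n : ℕ} (h : Q.natDegree ≤ n) (hp : 0 < Q.coeff n) :
    ∃ c : ℚ, 0 < c ∧ ∀ᶠ m : ℕ in Filter.atTop, c * (m : ℚ) ^ n ≤ Q.eval (m : ℚ) := by
  refine ⟨Q.coeff n / 2, half_pos hp, ?_⟩
  let E := Q - Polynomial.C (Q.coeff n / 2) * Polynomial.X ^ n
  have hEn : 0 < E.coeff n := by
    show 0 < (Q - Polynomial.C (Q.coeff n / 2) * Polynomial.X ^ n).coeff n
    rw [Polynomial.coeff_sub, Polynomial.coeff_C_mul_X_pow, if_pos rfl]
    linarith
  have hdeg : E.natDegree = n :=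
    le_antisymm ((Polynomial.natDegree_sub_le _ _).trans (max_le h (Polynomial.natDegree_C_mul_X_pow_le _ _)))
      (Polynomial.le_natDegree_of_ne_zero hEn.ne')
  have key : ∀ᶠ m : ℕ in Filter.atTop, 0 ≤ E.eval (m : ℚ) := by
    rcases Nat.eq_zero_or_pos n with rfl | hn
    · refine Filter.Eventually.of_forall fun m => ?_
      rw [Polynomial.eq_C_of_natDegree_eq_zero hdeg, Polynomial.eval_C]
      exact hEn.le
    · exact ((E.tendsto_atTop_of_leadingCoeff_nonneg (Polynomial.natDegree_pos_iff_degree_pos.1 (hdeg ▸ hn))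
        (by rw [Polynomial.leadingCoeff, hdeg]; exact hEn.le)).comp tendsto_natCast_atTop_atTop).eventually_ge_atTop 0
  refine key.mono fun m hm => ?_
  simp only [E, Polynomial.eval_sub, Polynomial.eval_mul, Polynomial.eval_C, Polynomial.eval_pow,
    Polynomial.eval_X] at hm
  linarith

theorem le_coeff {R : ℚ[X]} {n : ℕ} (hR : R.natDegree ≤ n) {c : ℚ}
    (h : ∀ᶠ m : ℕ in Filter.atTop, c * (m : ℚ) ^ n ≤ R.eval (m : ℚ)) : c ≤ R.coeff n := by
  have := Nakai.coeff_le_of_eventually_le (D := R) (R := Polynomial.C c * Polynomial.X ^ n) hR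
    (Polynomial.natDegree_C_mul_X_pow_le _ _) (h.mono fun m hm => by simpa using hm)
  rwa [Polynomial.coeff_C_mul_X_pow, if_pos rfl] at this

variable (k : Type u) [Field k] {X : Scheme.{u}} [X.Over (Spec (CommRingCat.of k))]
  [IsProper (X ↘ Spec (CommRingCat.of k))]

/-- The dimension of the space of sections. -/
def h0 (F : X.Modules) : ℕ := Module.finrank k (Coh.HH X F 0)

/-- The twist by powers of two modules. -/
def G2 (L A : X.Modules) (a b : ℕ) : X.Modules := CohB1.tensorMod (CohB1.tensorPow L a) (CohB1.tensorPow A b)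

variable {k}

theorem cl_G2 (L A : X.Modules) (a b : ℕ) : PicF.cl (G2 L A a b) = PicF.cl L ^ a * PicF.cl A ^ b := by
  rw [G2, cl_tensor, cl_tensorPow, cl_tensorPow]

theorem isInvertible_G2 {L A : X.Modules} (hL : PicF.IsInvertible L) (hA : PicF.IsInvertible A) (a b : ℕ) :
    PicF.IsInvertible (G2 L A a b) :=
  InvX.isInvertible_tensorMod (InvX.isInvertible_tensorPow hL a) (InvX.isInvertible_tensorPow hA b)

theorem h0_congr {F G : X.Modules} (e : F ≅ G) : h0 k F = h0 k G := (CurveCohLib.hhEquiv (k := k) e 0).finrank_eq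

theorem h0_congr_cl {F G : X.Modules} (e : PicF.cl F = PicF.cl G) : h0 k F = h0 k G :=
  h0_congr (cl_eq_iff.1 e).some

theorem cl_tensor_G2 (L A : X.Modules) (a b : ℕ) :
    PicF.cl (CohB1.tensorMod A (G2 L A a b)) = PicF.cl (G2 L A a (b + 1)) := by
  rw [cl_tensor, cl_G2, cl_G2, pow_succ, ← mul_assoc, mul_comm (PicF.cl A), mul_assoc, mul_comm (PicF.cl A)]

theorem h0_isZero {F : X.Modules} (h : IsZero F) : h0 k F = 0 := by
  haveI := Euler.subsingleton_HH_of_isZero (X := X) h 0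
  exact Module.finrank_zero_of_subsingleton

theorem h0_le_of_mono {F G : X.Modules} (f : F ⟶ G) [Mono f] (hG : Coh.IsCoh G) : h0 k F ≤ h0 k G :=
  CurveAmple.finrank_h0_le (k := k) f hG

theorem h0_le_add {S : ShortComplex X.Modules} (hS : S.ShortExact) (h1 : Coh.IsCoh S.X₁) (h2 : Coh.IsCoh S.X₂)
    (h3 : Coh.IsCoh S.X₃) : h0 k S.X₂ ≤ h0 k S.X₁ + h0 k S.X₃ := by
  haveI := CurveCohLib.finite_HH (k := k) h1 0
  haveI := CurveCohLib.finite_HH (k := k) h2 0
  haveI := CurveCohLib.finite_HH (k := k) h3 0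
  have e := LinearMap.finrank_range_add_finrank_ker (mapLin k S.g 0)
  have a := (LinearMap.range (mapLin k S.g 0)).finrank_le
  have b : Module.finrank k (LinearMap.ker (mapLin k S.g 0)) ≤ Module.finrank k (Coh.HH X S.X₁ 0) := by
    rw [← Euler.range_mapLin_f k hS 0]
    exact LinearMap.finrank_range_le _
  show Module.finrank k _ ≤ Module.finrank k _ + Module.finrank k _
  omega

/-- Twisting preserves short exact sequences and monomorphisms. -/
theorem ses_twist {S : ShortComplex X.Modules} (hS : S.ShortExact) {N : X.Modules} (hN : PicF.IsInvertible N) :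
    ∃ (f : CohB1.tensorMod S.X₁ N ⟶ CohB1.tensorMod S.X₂ N) (g : CohB1.tensorMod S.X₂ N ⟶ CohB1.tensorMod S.X₃ N)
      (w : f ≫ g = 0), (ShortComplex.mk f g w).ShortExact := by
  haveI := AmpleVan.isEquivalence_tw hN
  haveI : (AmpleVan.tw N).Additive := Functor.additive_of_preserves_binary_products _
  exact ⟨(AmpleVan.tw N).map S.f, (AmpleVan.tw N).map S.g,
    ((AmpleVan.tw N).map_comp S.f S.g).symm.trans (((AmpleVan.tw N).congr_map S.zero).trans ((AmpleVan.tw N).map_zero _ _)),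
    hS.map_of_exact (AmpleVan.tw N)⟩

theorem mono_twist {F G : X.Modules} (f : F ⟶ G) [Mono f] {N : X.Modules} (hN : PicF.IsInvertible N) :
    ∃ g : CohB1.tensorMod F N ⟶ CohB1.tensorMod G N, Mono g := by
  haveI := AmpleVan.isEquivalence_tw hN
  exact ⟨(AmpleVan.tw N).map f, inferInstanceAs (Mono ((AmpleVan.tw N).map f))⟩

omit [X.Over (Spec (CommRingCat.of k))] [IsProper (X ↘ Spec (CommRingCat.of k))] in
/-- A monomorphism out of the structure module moves along twists. -/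
theorem mono_of_mono_unit {N : X.Modules} (f : Coh.structureModule X ⟶ N) [Mono f] {P Q : X.Modules}
    (hP : PicF.IsInvertible P) (h : PicF.cl N * PicF.cl P = PicF.cl Q) : ∃ g : P ⟶ Q, Mono g := by
  obtain ⟨g, hg⟩ := mono_twist f hP
  obtain ⟨e⟩ := cl_eq_iff.1 (show PicF.cl (CohB1.tensorMod N P) = PicF.cl Q by rw [cl_tensor, h])
  exact ⟨(CurveTensor.structureTensorIso P).inv ≫ g ≫ e.hom, inferInstance⟩

omit [X.Over (Spec (CommRingCat.of k))] [IsProper (X ↘ Spec (CommRingCat.of k))] in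
theorem ne_zero_of_mem_locus [IsIntegral X] {N : X.Modules} {s : Γ(N, ⊤)} {x : X} (h : x ∈ locus s) : s ≠ 0 := by
  rintro rfl
  obtain ⟨U, hU, hf⟩ := mem_locus_iff.1 h
  haveI : Nonempty U := ⟨⟨x, hU⟩⟩
  exact zero_ne_one (hf.coord_unique le_rfl (r := (0 : Γ(X, U))) (r' := 1) (by simp))

omit [X.Over (Spec (CommRingCat.of k))] [IsProper (X ↘ Spec (CommRingCat.of k))] in
theorem generic_mem_locus [IsIntegral X] {N : X.Modules} (hN : PicF.IsInvertible N) {s : Γ(N, ⊤)} (hs : s ≠ 0) :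
    genericPoint X ∈ locus s := by
  obtain ⟨z, hz⟩ := (Opens.ne_bot_iff_nonempty _).1 (locus_ne_bot hN hs)
  exact (genericPoint_specializes z).mem_open (locus s).isOpen hz

omit [X.Over (Spec (CommRingCat.of k))] [IsProper (X ↘ Spec (CommRingCat.of k))] in
theorem mono_pow [IsIntegral X] {N : X.Modules} (hN : PicF.IsInvertible N) {s : Γ(N, ⊤)} (hs : s ≠ 0) :
    ∀ j : ℕ, ∃ f : Coh.structureModule X ⟶ CohB1.tensorPow N j, Mono f
  | 0 => ⟨𝟙 _, (inferInstance : Mono (𝟙 (Coh.structureModule X)))⟩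
  | j + 1 => by
    have hmem : genericPoint X ∈ locus (InvX.one (InvX.powHom (InvX.ofSect s) (j + 1))) := by
      show genericPoint X ∈ CohB1.genLocus _ (InvX.ofSect (InvX.one _))
      rw [AVAmple.ofSect_one, InvX.genLocus_powHom hN]
      exact generic_mem_locus hN hs
    exact ⟨_, CurveAmple.mono_ofSect (InvX.isInvertible_tensorPow hN _) (ne_zero_of_mem_locus hmem)⟩

omit [X.Over (Spec (CommRingCat.of k))] [IsProper (X ↘ Spec (CommRingCat.of k))] in
theorem one_ne_zero_of_mono [IsIntegral X] {N : X.Modules} (f : Coh.structureModule X ⟶ N) [Mono f] :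
    InvX.one f ≠ 0 := fun h0' => by
  have h1 := AmpleX.eq_zero_of_one_eq_zero _ h0'
  have h2 : (𝟙 (Coh.structureModule X)) = 0 := (cancel_mono f).1 (by rw [h1, comp_zero, comp_zero])
  have h3 := congrArg (fun g => Scheme.Modules.Hom.app g ⊤ (show Γ(Coh.structureModule X, ⊤) from (1 : Γ(X, ⊤)))) h2
  haveI : Nonempty ((⊤ : X.Opens) : Set X) := ⟨⟨genericPoint X, trivial⟩⟩
  exact one_ne_zero (α := Γ(X, ⊤)) h3

/-- Cutting by a given section. -/
theorem hasP_cokernel [IsIntegral X] {L M : X.Modules} (hL : PicF.IsInvertible L) (hM : PicF.IsInvertible M)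
    {s : Γ(M, ⊤)} (hs : s ≠ 0) {P : MvPolynomial (Fin 2) ℚ} (hP : HasP k L M (Coh.structureModule X) P) :
    HasP k L M (cokernel (InvX.ofSect s)) (shift 1 P) := fun n => by
  haveI := CurveCohLib.isNoetherian_of_proper (k := k) (X := X)
  let f := InvX.ofSect s
  haveI := CurveAmple.mono_ofSect hM hs
  have hMc := AmpleVan.isCoh_invertible hM
  have hOc : Coh.IsCoh (Coh.structureModule X) := QCoh.isCoh_structureModule'
  have hS : (ShortComplex.mk f (cokernel.π f) (cokernel.condition f)).ShortExact :=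
    .mk' (ShortComplex.exact_of_g_is_cokernel _ (cokernelIsCokernel f)) inferInstance inferInstance
  have h := congrFun (Snapper.χs_add k (inv_two hL hM) hS hOc hMc (QCoh.isCoh_cokernel hOc.1 hMc f)) n
  rw [Pi.add_apply] at h
  dsimp only at h
  rw [hP n, show Snapper.χs k ![L, M] M n = MvPolynomial.eval ![(n 0 : ℚ), ((n 1 + 1 : ℕ) : ℚ)] P from
    euler_of_cl hP (by rw [cl_two, pow_succ]; ac_rfl), cast_two] at h
  rw [cast_two, eval_shift]
  push_cast at h
  linarith

theorem deg_support_cokernel [IsIntegral X] {M : X.Modules} (hM : PicF.IsInvertible M) {s : Γ(M, ⊤)} (hs : s ≠ 0)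
    {x : X} (hx : x ∈ CohB1.support (cokernel (InvX.ofSect s))) :
    VarDim.deg (X ↘ Spec (CommRingCat.of k)) x < VarDim.deg (X ↘ Spec (CommRingCat.of k)) (genericPoint X) :=
  deg_lt_of_mem_closure (specializes_iff_mem_closure.1 (genericPoint_specializes x))
    (fun e => CurveAmple.support_cokernel_subset s hx (e ▸ generic_mem_locus hM hs))

/-- Sections of the twists of a coherent module grow at most like the intersection number. -/
theorem exists_h0_le {L A : X.Modules} (hL : PicF.IsInvertible L) (hA : PicF.IsInvertible A)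
    (hgA : Curv2.IsGloballyGenerated A) (q p : ℕ) (hM : CohB1.IsAmple (G2 L A q p)) (d : ℕ)
    {F : X.Modules} (hF : Coh.IsCoh F)
    (hd : ∀ x ∈ CohB1.support F, VarDim.deg (X ↘ Spec (CommRingCat.of k)) x ≤ d)
    {P : MvPolynomial (Fin 2) ℚ} (hP : HasP k L A F P) :
    ∃ R : ℚ[X], R.natDegree ≤ d ∧ ((R.coeff d : ℚ) : ℝ) ≤ T d P (q : ℝ) (p : ℝ) ∧
      ∀ᶠ m : ℕ in Filter.atTop, ∀ i ≤ p * m, (h0 k (CohB1.tensorMod F (G2 L A (q * m) i)) : ℚ) ≤ R.eval (m : ℚ) := by
  haveI := CurveCohLib.isNoetherian_of_proper (k := k) (X := X)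
  induction QCoh.filt_of_isCoh hF generalizing P with
  | @zero N h =>
    have hs := QCoh.support_eq_empty_of_isZero h hF.1
    refine ⟨0, by simp, ?_, Filter.Eventually.of_forall fun m i _ => ?_⟩
    · rw [hasP_unique hP (Q := 0) fun n => by rw [map_zero, Snapper.χs_eq_zero k (inv_two hL hA) hF hs n],
        T_eq_zero (Snapper.degLt_zero d)]
      simp
    · haveI := AmpleVan.isEquivalence_tw (isInvertible_G2 hL hA (q * m) i)
      rw [h0_isZero (show IsZero (CohB1.tensorMod N (G2 L A (q * m) i)) from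
        (AmpleVan.tw (G2 L A (q * m) i)).map_isZero h)]
      simp
  | @step N M φ' _ _ hNc hMc hex ih =>
    obtain ⟨Z, i, hi, hZ, I, ι, hι, hI, hI0, ⟨e⟩⟩ := hex
    haveI := hi; haveI := hZ; haveI := hι
    have hc := QCoh.isCoh_cokernel hNc.1 hMc φ'
    have hS : (ShortComplex.mk φ' (cokernel.π φ') (cokernel.condition φ')).ShortExact :=
      .mk' (ShortComplex.exact_of_g_is_cokernel _ (cokernelIsCokernel φ')) ‹_› inferInstance
    have hSub : CohB1.support N ⊆ CohB1.support M := QCoh.mem_support_of_mono hNc.1 hMc.1 φ'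
    have hCs : CohB1.support (cokernel φ') ⊆ CohB1.support M := QCoh.support_of_epi hMc.1 hc.1 (cokernel.π φ')
    obtain ⟨PN, -, hPN⟩ := exists_hasP (k := k) hL hA hNc (d + 1) fun x hx => Nat.lt_succ_of_le (hd x (hSub hx))
    obtain ⟨PC, -, hPC⟩ := exists_hasP (k := k) hL hA hc (d + 1) fun x hx => Nat.lt_succ_of_le (hd x (hCs hx))
    obtain rfl := hasP_unique hP (hasP_add hL hA hS hNc hMc hc hPN hPC)
    obtain ⟨RN, hRN, hRNc, hRNm⟩ := ih hNc (fun x hx => hd x (hSub hx)) hPN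
    have hsuppC : CohB1.support (cokernel φ') = closure {i (genericPoint Z)} := by
      rw [QCoh.support_iso e hc.1, QCoh.support_push_ideal i ι hI hI0]
    have hξd : VarDim.deg (X ↘ Spec (CommRingCat.of k)) (i (genericPoint Z)) ≤ d :=
      hd _ (hCs (hsuppC ▸ subset_closure rfl))
    letI : Z.Over (Spec (CommRingCat.of k)) := ⟨i ≫ (X ↘ (Spec (CommRingCat.of k)))⟩
    haveI : IsProper (Z ↘ Spec (CommRingCat.of k)) :=
      inferInstanceAs (IsProper (i ≫ (X ↘ Spec (CommRingCat.of k))))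
    haveI : CompactSpace Z := i.isClosedEmbedding.compactSpace
    haveI := CurveCohLib.isNoetherian_of_proper (k := k) (X := Z)
    let iL := (Scheme.Modules.pullback i).obj L
    let iA := (Scheme.Modules.pullback i).obj A
    have hiL : PicF.IsInvertible iL := PicClLib.isInvertible_pullback i hL
    have hiA : PicF.IsInvertible iA := PicClLib.isInvertible_pullback i hA
    obtain ⟨PO, hPOd, hPO⟩ := exists_hasP (k := k) hiL hiA (F := Coh.structureModule Z)
      QCoh.isCoh_structureModule' (d + 1) fun z _ => by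
        have h1 := deg_le_generic (k := k) z
        have h2 := deg_closed (k := k) i (genericPoint Z)
        have h3 : VarDim.deg (Z ↘ Spec (CommRingCat.of k)) (genericPoint Z) ≤ d := h2.trans_le hξd
        omega
    have hO := QCoh.isCoh_push_structure (X := X) i
    have hIc : Coh.IsCoh ((Coh.push i).obj I) := QCoh.isCoh_of_mono e.inv hc (QCoh.isQCoh_pushforward i hI)
    haveI : Mono ((Coh.push i).map ι) := Functor.map_mono _ ι
    have hR := QCoh.isCoh_cokernel hIc.1 hO ((Coh.push i).map ι)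
    have hRs : CohB1.support (cokernel ((Coh.push i).map ι)) ⊆ closure {i (genericPoint Z)} :=
      (QCoh.support_of_epi hO.1 hR.1 (cokernel.π _)).trans
        ((QCoh.support_push_subset i QCoh.isQCoh_structureModule).trans (QCoh.range_eq_closure i).le)
    obtain ⟨PR, hPR, hPR'⟩ := exists_hasP (k := k) hL hA hR d fun x hx => by
      have := deg_lt_of_mem_closure (k := k) (hRs hx)
        (fun h => (QCoh.mem_support_push_ideal i ι hI hI0).2 (by rw [show i (genericPoint Z) = x from h.symm]; exact hx))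
      omega
    have hPO' := hasP_add hL hA (S := ShortComplex.mk ((Coh.push i).map ι) (cokernel.π _) (cokernel.condition _))
      (.mk' (ShortComplex.exact_of_g_is_cokernel _ (cokernelIsCokernel _)) ‹_› inferInstance)
      hIc hO hR (hasP_congr e hPC) hPR'
    have hTC : T d PC (q : ℝ) (p : ℝ) = T d PO (q : ℝ) (p : ℝ) := by
      rw [← hasP_unique hPO' ((hasP_push_iff hL hA i PO).2 hPO), T_add, T_eq_zero hPR, add_zero]
    obtain ⟨hnO, hcO⟩ := line_coeff (q : ℚ) (p : ℚ) hPOd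
    rw [Rat.cast_natCast, Rat.cast_natCast] at hcO
    refine ⟨RN + line (q : ℚ) (p : ℚ) PO, (Polynomial.natDegree_add_le _ _).trans (max_le hRN hnO), ?_, ?_⟩
    · rw [Polynomial.coeff_add, Rat.cast_add, T_add, hTC, hcO]
      exact add_le_add hRNc le_rfl
    -- the ample restriction
    let iM := (Scheme.Modules.pullback i).obj (G2 L A q p)
    have hiM : CohB1.IsAmple iM := AmpleVan.FiniteSurj.isAmple_pullback_of_isAffineHom i hM
    have hclM : PicF.cl iM = PicF.cl iL ^ q * PicF.cl iA ^ p := cl_pull_tensor i L A q p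
    obtain ⟨m₀, hm₀⟩ := AmpleVan.exists_vanishing (A := k) hiM (M := Coh.structureModule Z) QCoh.isCoh_structureModule'
    obtain ⟨t, ht⟩ := GenLocusGG.exists_mem_locus hA hgA (i (genericPoint Z))
    let τ : Γ(iA, ⊤) := show Γ(iA, ⊤) from InvX.pullElt i t
    have hτ : τ ≠ 0 := ne_zero_of_mem_locus (x := genericPoint Z) (by
      rw [show locus τ = i ⁻¹ᵁ locus t from locus_pullElt hA i t]
      exact ht)
    filter_upwards [hRNm, Filter.eventually_ge_atTop m₀] with m hmN hm j hj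
    let N' := G2 L A (q * m) j
    have hN' : PicF.IsInvertible N' := isInvertible_G2 hL hA _ _
    obtain ⟨f₁, g₁, w₁, hS₁⟩ := ses_twist hS hN'
    have hNN := AmpleVan.isCoh_invertible hN'
    have h1 := h0_le_add (k := k) hS₁ (AmpleVan.isCoh_tensor hNc hNN) (AmpleVan.isCoh_tensor hMc hNN)
      (AmpleVan.isCoh_tensor hc hNN)
    replace h1 : h0 k (CohB1.tensorMod M N') ≤ h0 k (CohB1.tensorMod N N') + h0 k (CohB1.tensorMod (cokernel φ') N') := h1
    obtain ⟨g₂, hg₂⟩ := mono_twist (e.hom ≫ (Coh.push i).map ι) hN'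
    have h2 : h0 k (CohB1.tensorMod (cokernel φ') N') ≤
        h0 k (CohB1.tensorMod ((Coh.push i).obj (Coh.structureModule Z)) N') :=
      haveI := hg₂; h0_le_of_mono g₂ (AmpleVan.isCoh_tensor hO hNN)
    obtain ⟨e₂⟩ := AmpleVan.FiniteSurj.nonempty_push_twist i (Coh.structureModule Z) hN'
    have h3 : h0 k (CohB1.tensorMod ((Coh.push i).obj (Coh.structureModule Z)) N') =
        h0 k (CohB1.tensorMod (Coh.structureModule Z) ((Scheme.Modules.pullback i).obj N')) := by
      refine (h0_congr e₂).trans ?_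
      obtain ⟨l⟩ := PnCoh.exists_linearEquiv_push k i rfl (AmpleVan.isCoh_tensor QCoh.isCoh_structureModule'
        (AmpleVan.isCoh_invertible (PicClLib.isInvertible_pullback i hN'))).1 0
      exact l.finrank_eq.symm
    obtain ⟨f₃, hf₃⟩ := mono_pow hiA hτ (p * m - j)
    haveI := hf₃
    obtain ⟨g₃, hg₃⟩ := mono_of_mono_unit f₃ (P := CohB1.tensorMod (Coh.structureModule Z)
        ((Scheme.Modules.pullback i).obj N')) (Q := CohB1.tensorMod (Coh.structureModule Z) (CohB1.tensorPow iM m))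
      (InvX.isInvertible_tensorMod InvX.isInvertible_structureModule (PicClLib.isInvertible_pullback i hN')) (by
        rw [cl_tensor, cl_tensor, cl_tensorPow, cl_tensorPow, show PicF.cl ((Scheme.Modules.pullback i).obj N') =
          PicF.cl iL ^ (q * m) * PicF.cl iA ^ j from cl_pull_tensor i L A (q * m) j, hclM, ← PicMul.one_def, one_mul,
          one_mul, mul_pow, ← pow_mul, ← pow_mul, mul_left_comm, ← pow_add, Nat.sub_add_cancel hj])
    have hiMm := InvX.isInvertible_tensorPow hiM.1 m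
    have h4 : h0 k (CohB1.tensorMod (Coh.structureModule Z) ((Scheme.Modules.pullback i).obj N')) ≤
        h0 k (CohB1.tensorMod (Coh.structureModule Z) (CohB1.tensorPow iM m)) :=
      haveI := hg₃; h0_le_of_mono g₃ (AmpleVan.isCoh_tensor QCoh.isCoh_structureModule' (AmpleVan.isCoh_invertible hiMm))
    have h5 : (h0 k (CohB1.tensorMod (Coh.structureModule Z) (CohB1.tensorPow iM m)) : ℚ) =
        (line (q : ℚ) (p : ℚ) PO).eval (m : ℚ) := by
      have := CurveAmple.euler_eq_h0_of_vanishing (k := k) (hm₀ m hm)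
      rw [show ((h0 k (CohB1.tensorMod (Coh.structureModule Z) (CohB1.tensorPow iM m)) : ℕ) : ℚ) =
        ((Curv2.euler k Z (CohB1.tensorMod (Coh.structureModule Z) (CohB1.tensorPow iM m)) : ℤ) : ℚ) by
          rw [this]; rfl]
      rw [euler_of_cl hPO (a := q * m) (b := p * m) (by
        rw [cl_tensor, cl_tensorPow, hclM, ← PicMul.one_def, one_mul, mul_pow, ← pow_mul, ← pow_mul]), eval_line]
      push_cast
      rfl
    have hN0 := hmN j hj
    rw [Polynomial.eval_add, ← h5]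
    have hle : (h0 k (CohB1.tensorMod M N') : ℚ) ≤ (h0 k (CohB1.tensorMod N N') : ℚ) +
        (h0 k (CohB1.tensorMod (Coh.structureModule Z) (CohB1.tensorPow iM m)) : ℚ) := by
      exact_mod_cast h1.trans (Nat.add_le_add_left (h2.trans (h3.trans_le h4)) _)
    exact hle.trans (add_le_add hN0 le_rfl)

/-- Sections of large powers of an ample twist. -/
theorem eventually_h0_eq {L A : X.Modules} {P : MvPolynomial (Fin 2) ℚ}
    (hP : HasP k L A (Coh.structureModule X) P) (q p : ℕ) (hM : CohB1.IsAmple (G2 L A q p)) :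
    ∀ᶠ m : ℕ in Filter.atTop, (h0 k (G2 L A (q * m) (p * m)) : ℚ) = (line (q : ℚ) (p : ℚ) P).eval (m : ℚ) := by
  haveI := CurveCohLib.isNoetherian_of_proper (k := k) (X := X)
  obtain ⟨m₀, hm₀⟩ := AmpleVan.exists_vanishing (A := k) hM (M := Coh.structureModule X) QCoh.isCoh_structureModule'
  filter_upwards [Filter.eventually_ge_atTop m₀] with m hm
  have hcl : PicF.cl (CohB1.tensorMod (Coh.structureModule X) (CohB1.tensorPow (G2 L A q p) m)) =
      PicF.cl (G2 L A (q * m) (p * m)) := by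
    rw [cl_tensor, cl_tensorPow, cl_G2, cl_G2, mul_pow, ← pow_mul, ← pow_mul, ← PicMul.one_def, one_mul]
  rw [← h0_congr_cl (k := k) hcl]
  have e := euler_of_cl (k := k) hP (N := CohB1.tensorMod (Coh.structureModule X) (CohB1.tensorPow (G2 L A q p) m))
    (hcl.trans (cl_G2 L A (q * m) (p * m)))
  rw [CurveAmple.euler_eq_h0_of_vanishing (k := k) (hm₀ m hm)] at e
  rw [eval_line, ← Nat.cast_mul, ← Nat.cast_mul, ← e]
  simp [h0]

variable (k) in
/-- Sections grow like the dimension along the multiples of some exponent. -/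
def Grows (L : X.Modules) (n : ℕ) : Prop :=
  ∃ (ν : ℕ) (c : ℚ), 0 < ν ∧ 0 < c ∧ ∀ᶠ μ : ℕ in Filter.atTop, c * (μ : ℚ) ^ n ≤ h0 k (CohB1.tensorPow L (ν * μ))

variable [IsIntegral X] {n : ℕ}

variable (k) in
include k in
/-- An ample module with all higher powers generated. -/
theorem exists_generated {H : X.Modules} (hH : CohB1.IsAmple H) :
    ∃ a₀ : ℕ, 0 < a₀ ∧ ∀ a, a₀ ≤ a → Curv2.IsGloballyGenerated (CohB1.tensorPow H a) := by
  haveI := CurveCohLib.isNoetherian_of_proper (k := k) (X := X)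
  haveI : X.IsSeparated := AmpleVan.isSeparated_of_proper (A := k)
  have hO : Coh.IsCoh (Coh.structureModule X) := QCoh.isCoh_structureModule'
  obtain ⟨a₀, ha₀⟩ := AmpleX.eventually_isGloballyGenerated hH hO.1 hO.2
  exact ⟨a₀ + 1, Nat.succ_pos _, fun a ha =>
    AmpleX.isGloballyGenerated_of_iso (CurveTensor.structureTensorIso _) (ha₀ a (by omega))⟩

omit [X.Over (Spec (CommRingCat.of k))] [IsProper (X ↘ Spec (CommRingCat.of k))] in
theorem exists_section_of_generated {N : X.Modules} (hN : PicF.IsInvertible N) (h : Curv2.IsGloballyGenerated N) :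
    ∃ s : Γ(N, ⊤), s ≠ 0 := by
  obtain ⟨t, ht⟩ := GenLocusGG.exists_mem_locus hN h (genericPoint X)
  exact ⟨t, ne_zero_of_mem_locus ht⟩

theorem deg_genericPoint_of_dim (hn : topologicalKrullDim X = n) :
    VarDim.deg (X ↘ Spec (CommRingCat.of k)) (genericPoint X) = n := by
  rw [VarDim.topologicalKrullDim_eq_deg_genericPoint (X ↘ Spec (CommRingCat.of k))] at hn
  exact_mod_cast hn

/-- Sections growing like the dimension give submodules isomorphic to any ample module. -/
theorem exists_mono_of_grows (hn : VarDim.deg (X ↘ Spec (CommRingCat.of k)) (genericPoint X) = n)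
    {L : X.Modules} (hL : PicF.IsInvertible L) (hg : Grows k L n) {A : X.Modules} (hA : CohB1.IsAmple A) :
    ∃ (m : ℕ) (φ : A ⟶ CohB1.tensorPow L m), 0 < m ∧ Mono φ := by
  haveI := CurveCohLib.isNoetherian_of_proper (k := k) (X := X)
  haveI : X.IsSeparated := AmpleVan.isSeparated_of_proper (A := k)
  obtain ⟨ν, c, hν, hc, hev⟩ := hg
  let L' := CohB1.tensorPow L ν
  have hL' : PicF.IsInvertible L' := InvX.isInvertible_tensorPow hL ν
  obtain ⟨a₀, ha₀, hgen⟩ := exists_generated k hA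
  obtain ⟨n₀, hn₀, hamp⟩ := AmpleX.eventually_ample_tensor hA hL'
  let B := CohB1.tensorPow A (a₀ + 1)
  have hB : PicF.IsInvertible B := InvX.isInvertible_tensorPow hA.1 _
  have hgB : Curv2.IsGloballyGenerated B := hgen _ (Nat.le_succ _)
  obtain ⟨s, hs⟩ := exists_section_of_generated hB hgB
  obtain ⟨τ, hτ⟩ := exists_section_of_generated (InvX.isInvertible_tensorPow hA.1 a₀) (hgen a₀ le_rfl)
  have hM : CohB1.IsAmple (G2 L' B 1 n₀) := by
    have h1 := (hamp ((a₀ + 1) * n₀) (Nat.le_mul_of_pos_left _ (Nat.succ_pos _))).1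
    refine AmpleX.isAmple_of_iso (cl_eq_iff.1 ?_).some h1
    rw [cl_G2, cl_tensor, cl_tensorPow, show PicF.cl B = PicF.cl A ^ (a₀ + 1) from cl_tensorPow _ _, pow_one,
      ← pow_mul, mul_comm]
  obtain ⟨B', hB', ⟨eB⟩⟩ := PicInv.exists_inverse hB
  have hBB : PicF.cl B * PicF.cl B' = 1 := by
    rw [← cl_tensor, PicMul.one_def]; exact cl_eq_iff.2 ⟨eB⟩
  let f := InvX.ofSect s
  haveI := CurveAmple.mono_ofSect hB hs
  have hBc := AmpleVan.isCoh_invertible hB
  have hOc : Coh.IsCoh (Coh.structureModule X) := QCoh.isCoh_structureModule'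
  have hQ : Coh.IsCoh (cokernel f) := QCoh.isCoh_cokernel hOc.1 hBc f
  let F := CohB1.tensorMod B' (cokernel f)
  have hF : Coh.IsCoh F := AmpleVan.isCoh_tensor (AmpleVan.isCoh_invertible hB') hQ
  have hFd : ∀ x ∈ CohB1.support F, VarDim.deg (X ↘ Spec (CommRingCat.of k)) x < n := fun x hx =>
    hn ▸ deg_support_cokernel hB hs (CurveTensor.support_tensor_subset hx)
  obtain ⟨P, hPd, hP⟩ := exists_hasP (k := k) hL' hB hF n hFd
  obtain ⟨R, hR, hRc, hRm⟩ := exists_h0_le (k := k) hL' hB hgB 1 n₀ hM n hF (fun x hx => (hFd x hx).le) hP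
  rw [T_eq_zero hPd] at hRc
  by_contra hno
  push Not at hno
  refine absurd (le_coeff hR (c := c) ?_) (not_le.2 (lt_of_le_of_lt (by exact_mod_cast hRc) hc))
  filter_upwards [hev, hRm, Filter.eventually_gt_atTop 0] with μ h1 h2 hμ
  refine h1.trans (le_trans ?_ (h2 0 (Nat.zero_le _)))
  let N := CohB1.tensorMod B' (CohB1.tensorPow L (ν * μ))
  have hN : PicF.IsInvertible N := InvX.isInvertible_tensorMod hB' (InvX.isInvertible_tensorPow hL _)
  have hS : (ShortComplex.mk f (cokernel.π f) (cokernel.condition f)).ShortExact :=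
    .mk' (ShortComplex.exact_of_g_is_cokernel _ (cokernelIsCokernel f)) inferInstance inferInstance
  obtain ⟨f₁, g₁, w₁, hS₁⟩ := ses_twist hS hN
  have hNc := AmpleVan.isCoh_invertible hN
  have h3 := h0_le_add (k := k) hS₁ (AmpleVan.isCoh_tensor hOc hNc) (AmpleVan.isCoh_tensor hBc hNc)
    (AmpleVan.isCoh_tensor hQ hNc)
  replace h3 : h0 k (CohB1.tensorMod B N) ≤ h0 k (CohB1.tensorMod (Coh.structureModule X) N) +
    h0 k (CohB1.tensorMod (cokernel f) N) := h3
  have e1 : h0 k (CohB1.tensorMod B N) = h0 k (CohB1.tensorPow L (ν * μ)) := h0_congr_cl (by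
    rw [cl_tensor, cl_tensor, ← mul_assoc, hBB, one_mul])
  have e2 : h0 k (CohB1.tensorMod (Coh.structureModule X) N) = 0 := by
    rw [show h0 k (CohB1.tensorMod (Coh.structureModule X) N) = h0 k N from h0_congr (CurveTensor.structureTensorIso N)]
    by_contra h0'
    obtain ⟨σ, hσ⟩ := CurveAmple.exists_section_ne_zero
      (Module.nontrivial_of_finrank_pos (R := k) (Nat.pos_of_ne_zero h0'))
    haveI := CurveAmple.mono_ofSect hN hσ
    obtain ⟨g, hg⟩ := mono_of_mono_unit (InvX.ofSect σ) hB (Q := CohB1.tensorPow L (ν * μ)) (by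
      rw [cl_tensor, mul_right_comm, mul_comm (PicF.cl B'), hBB, one_mul])
    haveI := CurveAmple.mono_ofSect (InvX.isInvertible_tensorPow hA.1 a₀) hτ
    obtain ⟨g', hg'⟩ := mono_of_mono_unit (InvX.ofSect τ) hA.1 (Q := B) (by
      rw [cl_tensorPow, cl_tensorPow, pow_succ])
    exact hno (ν * μ) (g' ≫ g) (Nat.mul_pos hν hμ) (haveI := hg; haveI := hg'; mono_comp _ _)
  have e3 : h0 k (CohB1.tensorMod (cokernel f) N) = h0 k (CohB1.tensorMod F (G2 L' B (1 * μ) 0)) := h0_congr_cl (by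
    simp only [cl_tensor, cl_G2, F, N, L', cl_tensorPow, one_mul, pow_zero, mul_one, ← pow_mul]
    ac_rfl)
  rw [e1, e2, zero_add, e3] at h3
  exact_mod_cast h3

/-- An ample submodule of a power gives sections. -/
theorem exists_lower_of_mono (hn : VarDim.deg (X ↘ Spec (CommRingCat.of k)) (genericPoint X) = n)
    {L : X.Modules} (hL : PicF.IsInvertible L) {ν : ℕ} (hν : 0 < ν) {A : X.Modules} (hA : CohB1.IsAmple A)
    (φ : A ⟶ CohB1.tensorPow L ν) [Mono φ] :
    ∃ (ν' : ℕ) (c : ℚ), 0 < ν' ∧ 0 < c ∧ (∀ᶠ μ : ℕ in Filter.atTop, c * (μ : ℚ) ^ n ≤ h0 k (CohB1.tensorPow L (ν' * μ))) ∧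
      ∀ μ, 1 ≤ μ → 1 ≤ h0 k (CohB1.tensorPow L (ν' * μ)) := by
  haveI := CurveCohLib.isNoetherian_of_proper (k := k) (X := X)
  obtain ⟨a₀, ha₀, hgen⟩ := exists_generated k hA
  obtain ⟨A', hA', ⟨eA⟩⟩ := PicInv.exists_inverse hA.1
  have hAA : PicF.cl A * PicF.cl A' = 1 := by
    rw [← cl_tensor, PicMul.one_def]; exact cl_eq_iff.2 ⟨eA⟩
  let N := CohB1.tensorMod (CohB1.tensorPow L ν) A'
  have hN : PicF.IsInvertible N := InvX.isInvertible_tensorMod (InvX.isInvertible_tensorPow hL ν) hA'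
  obtain ⟨ψ, hψ⟩ := mono_twist φ hA'
  let σ := InvX.one (eA.inv ≫ ψ)
  have hσ : σ ≠ 0 := haveI := hψ; one_ne_zero_of_mono (eA.inv ≫ ψ)
  have hmono : ∀ j, ∃ g : CohB1.tensorPow A j ⟶ CohB1.tensorPow L (ν * j), Mono g := fun j => by
    obtain ⟨f, hf⟩ := mono_pow hN hσ j
    exact mono_of_mono_unit f (InvX.isInvertible_tensorPow hA.1 j) (by
      rw [cl_tensorPow, cl_tensorPow, cl_tensorPow, cl_tensor, cl_tensorPow, mul_pow, ← pow_mul, mul_assoc,
        ← mul_pow, mul_comm (PicF.cl A'), hAA, one_pow, mul_one])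
  let A₁ := CohB1.tensorPow A a₀
  have hA₁ : CohB1.IsAmple A₁ := AmpleX.isAmple_tensorPow hA ha₀
  obtain ⟨τ, hτ⟩ := exists_section_of_generated hA₁.1 (hgen a₀ le_rfl)
  have hle : ∀ μ, h0 k (CohB1.tensorPow A₁ μ) ≤ h0 k (CohB1.tensorPow L (ν * a₀ * μ)) := fun μ => by
    rw [h0_congr_cl (show PicF.cl (CohB1.tensorPow A₁ μ) = PicF.cl (CohB1.tensorPow A (a₀ * μ)) by
      simp only [A₁, cl_tensorPow, ← pow_mul]), mul_assoc]
    obtain ⟨g, hg⟩ := hmono (a₀ * μ)
    exact h0_le_of_mono g (AmpleVan.isCoh_invertible (InvX.isInvertible_tensorPow hL _))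
  obtain ⟨P, hPd, hP⟩ := exists_hasP (k := k) hA₁.1 hA₁.1 (F := Coh.structureModule X)
    QCoh.isCoh_structureModule' (n + 1) fun x _ => by have := deg_le_generic (k := k) x; omega
  have hpoly : ∀ m : ℕ, (Curv2.euler k X (CohB1.tensorPow A₁ m) : ℚ) = (line 0 1 P).eval (m : ℚ) := fun m => by
    rw [euler_of_cl hP (a := 0) (b := m) (by rw [cl_tensorPow, pow_zero, one_mul]), eval_line]
    simp
  obtain ⟨hdeg, hpos⟩ := Nakai.coeff_pos_of_ample k n X hn hA₁ (line 0 1 P) hpoly
  obtain ⟨c, hc, hcm⟩ := eventually_ge hdeg hpos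
  obtain ⟨m₀, hm₀⟩ := AmpleVan.exists_vanishing (A := k) hA₁ (M := Coh.structureModule X) QCoh.isCoh_structureModule'
  refine ⟨ν * a₀, c, Nat.mul_pos hν ha₀, hc, ?_, fun μ _ => ?_⟩
  · filter_upwards [hcm, Filter.eventually_ge_atTop m₀] with μ h1 h2
    rw [← hpoly, CurveAmple.euler_eq_h0_of_vanishing (k := k) fun q =>
      QCoh.subsingleton_HH_of_iso (CurveTensor.structureTensorIso _) (q + 1) (hm₀ μ h2 q)] at h1
    refine h1.trans ?_
    push_cast
    exact_mod_cast hle μ
  · refine le_trans ?_ (hle μ)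
    obtain ⟨f, hf⟩ := mono_pow hA₁.1 hτ μ
    have hne : InvX.one f ≠ 0 := haveI := hf; one_ne_zero_of_mono f
    haveI := CurveCohLib.finite_HH (k := k) (AmpleVan.isCoh_invertible (InvX.isInvertible_tensorPow hA₁.1 μ)) 0
    haveI := CurveAmple.nontrivial_h0 hne
    exact Module.finrank_pos (R := k) (M := Coh.HH X (CohB1.tensorPow A₁ μ) 0)

theorem grows_of_mono (hn : VarDim.deg (X ↘ Spec (CommRingCat.of k)) (genericPoint X) = n)
    {L : X.Modules} (hL : PicF.IsInvertible L) {ν : ℕ} (hν : 0 < ν) {A : X.Modules} (hA : CohB1.IsAmple A)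
    (φ : A ⟶ CohB1.tensorPow L ν) [Mono φ] : Grows k L n :=
  let ⟨ν', c, h1, h2, h3, _⟩ := exists_lower_of_mono hn hL hν hA φ
  ⟨ν', c, h1, h2, h3⟩

/-- Submodules isomorphic to all ample modules give growth along all exponents. -/
theorem growth_of_forall_mono (hn : VarDim.deg (X ↘ Spec (CommRingCat.of k)) (genericPoint X) = n)
    {H : X.Modules} (hH : CohB1.IsAmple H) {L : X.Modules} (hL : PicF.IsInvertible L)
    (h : ∀ A : X.Modules, CohB1.IsAmple A → ∃ (m : ℕ) (φ : A ⟶ CohB1.tensorPow L m), 0 < m ∧ Mono φ) :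
    ∃ c : ℚ, 0 < c ∧ ∀ᶠ m : ℕ in Filter.atTop, c * (m : ℚ) ^ n ≤ h0 k (CohB1.tensorPow L m) := by
  haveI := CurveCohLib.isNoetherian_of_proper (k := k) (X := X)
  haveI : X.IsSeparated := AmpleVan.isSeparated_of_proper (A := k)
  obtain ⟨a₀, ha₀, hgen⟩ := exists_generated k hH
  obtain ⟨n₀, hn₀, hamp⟩ := AmpleX.eventually_ample_tensor hH hL
  let j := a₀ + n₀
  let A₁ := CohB1.tensorMod (CohB1.tensorPow H j) L
  obtain ⟨hA₁, hgA₁⟩ := hamp j (Nat.le_add_left _ _)
  obtain ⟨b, φ, hb, hφ⟩ := h A₁ hA₁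
  have hHj : PicF.IsInvertible (CohB1.tensorPow H j) := InvX.isInvertible_tensorPow hH.1 j
  obtain ⟨t, ht⟩ := exists_section_of_generated hA₁.1 hgA₁
  obtain ⟨u, hu⟩ := exists_section_of_generated hHj (hgen j (Nat.le_add_right _ _))
  -- powers with a nonzero section
  let S : Set ℕ := {r | ∃ f : Coh.structureModule X ⟶ CohB1.tensorPow L r, Mono f}
  have hS0 : 0 ∈ S := ⟨𝟙 _, (inferInstance : Mono (𝟙 (Coh.structureModule X)))⟩
  have hSadd : ∀ r r', r ∈ S → r' ∈ S → r + r' ∈ S := by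
    rintro r r' ⟨f, hf⟩ ⟨g, hg⟩
    obtain ⟨g', hg'⟩ := mono_of_mono_unit f (InvX.isInvertible_tensorPow hL r') (Q := CohB1.tensorPow L (r + r'))
      (by rw [cl_tensorPow, cl_tensorPow, cl_tensorPow, pow_add])
    exact ⟨g ≫ g', haveI := hg; haveI := hg'; mono_comp _ _⟩
  have hSmul : ∀ i r, r ∈ S → i * r ∈ S := fun i r hr => by
    induction i with
    | zero => rw [Nat.zero_mul]; exact hS0
    | succ i ih => rw [Nat.succ_mul]; exact hSadd _ _ ih hr
  have hbS : b ∈ S := by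
    haveI := hφ
    haveI := CurveAmple.mono_ofSect hA₁.1 ht
    exact ⟨InvX.ofSect t ≫ φ, mono_comp _ _⟩
  have hbS' : b - 1 ∈ S := by
    obtain ⟨L', hL', ⟨eL⟩⟩ := PicInv.exists_inverse hL
    have hLL : PicF.cl L * PicF.cl L' = 1 := by
      rw [← cl_tensor, PicMul.one_def]; exact cl_eq_iff.2 ⟨eL⟩
    haveI := hφ
    obtain ⟨ψ, hψ⟩ := mono_twist φ hL'
    obtain ⟨e₁⟩ := cl_eq_iff.1 (show PicF.cl (CohB1.tensorPow H j) = PicF.cl (CohB1.tensorMod A₁ L') by
      rw [cl_tensor, cl_tensor, mul_assoc, hLL, mul_one])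
    obtain ⟨e₂⟩ := cl_eq_iff.1 (show PicF.cl (CohB1.tensorMod (CohB1.tensorPow L b) L') =
        PicF.cl (CohB1.tensorPow L (b - 1)) by
      rw [cl_tensor, cl_tensorPow, cl_tensorPow]
      conv_lhs => rw [show b = b - 1 + 1 by omega, pow_succ, mul_assoc, hLL, mul_one])
    haveI := CurveAmple.mono_ofSect hHj hu
    haveI := hψ
    exact ⟨InvX.ofSect u ≫ e₁.hom ≫ ψ ≫ e₂.hom, inferInstance⟩
  have hlarge : ∀ r, (b - 1) * (b - 1) ≤ r → r ∈ S := fun r hr => by
    rcases Nat.eq_zero_or_pos (b - 1) with h1 | h1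
    · have := hSmul r b hbS
      rwa [show b = 1 by omega, mul_one] at this
    · have hu : b - 1 ≤ r / (b - 1) := (Nat.le_div_iff_mul_le h1).2 hr
      have hv : r % (b - 1) < b - 1 := Nat.mod_lt _ h1
      have he := Nat.div_add_mod r (b - 1)
      have := hSadd _ _ (hSmul (r / (b - 1) - r % (b - 1)) _ hbS') (hSmul (r % (b - 1)) _ hbS)
      convert this using 1
      obtain ⟨b', rfl⟩ : ∃ b', b = b' + 1 := ⟨b - 1, by omega⟩
      simp only [Nat.add_sub_cancel] at *
      rw [Nat.sub_mul, mul_add, mul_one, mul_comm (r / b'), ← add_assoc, Nat.sub_add_cancel]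
      · exact he.symm
      · rw [mul_comm b']
        exact Nat.mul_le_mul_right _ (hv.le.trans hu)
  obtain ⟨m₁, φ₁, hm₁, hφ₁⟩ := h H hH
  obtain ⟨ν, c, hν, hc, hev⟩ := (haveI := hφ₁; grows_of_mono hn hL hm₁ hH φ₁)
  obtain ⟨μ₀, hμ₀⟩ := Filter.eventually_atTop.1 hev
  let r₀ := (b - 1) * (b - 1)
  refine ⟨c / ((2 * ν : ℕ) : ℚ) ^ n, by positivity, Filter.eventually_atTop.2 ⟨2 * r₀ + ν * (μ₀ + 2) * 2, fun m hm => ?_⟩⟩
  let μ := (m - r₀) / ν
  have hμ1 : ν * μ ≤ m - r₀ := Nat.mul_div_le _ _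
  have hμ2 : m - r₀ < ν * (μ + 1) := Nat.lt_mul_div_succ _ hν
  have hμ3 : μ₀ ≤ μ := by
    refine (Nat.le_div_iff_mul_le hν).2 ?_
    nlinarith [Nat.sub_add_cancel (show r₀ ≤ m by omega)]
  have hμ4 : m ≤ 2 * ν * μ := by
    have h5 : ν * 2 ≤ ν * (μ₀ + 2) := Nat.mul_le_mul_left _ (by omega)
    nlinarith [Nat.sub_add_cancel (show r₀ ≤ m by omega)]
  obtain ⟨f, hf⟩ := hlarge (m - ν * μ) (by omega)
  obtain ⟨g, hg⟩ := mono_of_mono_unit f (InvX.isInvertible_tensorPow hL (ν * μ)) (Q := CohB1.tensorPow L m) (by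
    rw [cl_tensorPow, cl_tensorPow, cl_tensorPow, ← pow_add, Nat.sub_add_cancel (by omega)])
  have h6 : (h0 k (CohB1.tensorPow L (ν * μ)) : ℚ) ≤ h0 k (CohB1.tensorPow L m) := by
    haveI := hg
    exact_mod_cast h0_le_of_mono (k := k) g (AmpleVan.isCoh_invertible (InvX.isInvertible_tensorPow hL _))
  refine le_trans ?_ ((hμ₀ μ hμ3).trans h6)
  rw [div_mul_eq_mul_div, div_le_iff₀ (by positivity), mul_assoc, ← mul_pow]
  refine mul_le_mul_of_nonneg_left (pow_le_pow_left₀ (Nat.cast_nonneg _) ?_ n) hc.le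
  rw [mul_comm]
  exact_mod_cast hμ4

/-- Growth of sections of a nef module makes the top self intersection positive. -/
theorem T_pos_of_grows (hn : VarDim.deg (X ↘ Spec (CommRingCat.of k)) (genericPoint X) = n)
    {L A : X.Modules} (hL : PicF.IsInvertible L) (hA : CohB1.IsAmple A) (hgA : Curv2.IsGloballyGenerated A)
    (hnef : NefC k L) (hg : Grows k L n) {P : MvPolynomial (Fin 2) ℚ}
    (hP : HasP k L A (Coh.structureModule X) P) : 0 < T n P 1 0 := by
  haveI := CurveCohLib.isNoetherian_of_proper (k := k) (X := X)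
  obtain ⟨ν, c, hν, hc, hev⟩ := hg
  have hν' : (0 : ℝ) < ν := Nat.cast_pos.2 hν
  have key : ∀ q : ℕ, 0 < q → (c : ℝ) / (ν : ℝ) ^ n ≤ T n P 1 (1 / ((ν * q : ℕ) : ℝ)) := fun q hq => by
    have hM : CohB1.IsAmple (G2 L A (ν * q) 1) := by
      refine AmpleX.isAmple_of_iso (cl_eq_iff.1 ?_).some (isAmple_of_nef k hL hA hnef (Nat.mul_pos hν hq))
      rw [cl_G2, cl_tensor, cl_tensorPow, pow_one]
    obtain ⟨R, hR, hRc, hRm⟩ := exists_h0_le (k := k) hL hA.1 hgA (ν * q) 1 hM n
      (F := Coh.structureModule X) QCoh.isCoh_structureModule' (fun x _ => hn ▸ deg_le_generic x) hP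
    have hcR : c * (q : ℚ) ^ n ≤ R.coeff n := le_coeff hR (by
      obtain ⟨μ₀, hμ₀⟩ := Filter.eventually_atTop.1 hev
      filter_upwards [hRm, Filter.eventually_ge_atTop μ₀] with m h1 h2
      refine le_trans ?_ (h1 0 (Nat.zero_le _))
      have h3 := hμ₀ (q * m) (h2.trans (Nat.le_mul_of_pos_left _ hq))
      rw [h0_congr_cl (show PicF.cl (CohB1.tensorPow L (ν * (q * m))) =
        PicF.cl (CohB1.tensorMod (Coh.structureModule X) (G2 L A (ν * q * m) 0)) by
          rw [cl_tensorPow, cl_tensor, cl_G2, pow_zero, mul_one, ← PicMul.one_def, one_mul, mul_assoc])] at h3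
      rw [Nat.cast_mul, mul_pow, ← mul_assoc] at h3
      exact h3)
    have hνq : (0 : ℝ) < ((ν * q : ℕ) : ℝ) := Nat.cast_pos.2 (Nat.mul_pos hν hq)
    have hsc : T n P ((ν * q : ℕ) : ℝ) ((1 : ℕ) : ℝ) = ((ν * q : ℕ) : ℝ) ^ n * T n P 1 (1 / ((ν * q : ℕ) : ℝ)) := by
      rw [← T_smul, mul_one, mul_one_div_cancel hνq.ne', Nat.cast_one]
    rw [hsc] at hRc
    have hcR' : (c : ℝ) * (q : ℝ) ^ n ≤ ((R.coeff n : ℚ) : ℝ) := by exact_mod_cast hcR
    have h4 := hcR'.trans hRc
    rw [Nat.cast_mul, mul_pow, mul_comm ((ν : ℝ) ^ n), mul_assoc, mul_comm (c : ℝ)] at h4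
    have h5 := le_of_mul_le_mul_left h4 (pow_pos (Nat.cast_pos.2 hq) n)
    rw [div_le_iff₀ (pow_pos hν' n), mul_comm]
    exact_mod_cast h5
  by_contra hle
  have hc' : (0 : ℝ) < (c : ℝ) / (ν : ℝ) ^ n := div_pos (Rat.cast_pos.2 hc) (pow_pos hν' n)
  obtain ⟨ε, hε, hball⟩ := Metric.eventually_nhds_iff.1 ((continuous_T n P).continuousAt.eventually
    (gt_mem_nhds (lt_of_le_of_lt (not_lt.1 hle) hc')))
  obtain ⟨q, hq⟩ := exists_nat_gt (1 / ε)
  have hq0 : 0 < q := by exact_mod_cast (one_div_pos.2 hε).trans hq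
  refine absurd (key q hq0) (not_le.2 (hball ?_))
  have hνq : (0 : ℝ) < ((ν * q : ℕ) : ℝ) := Nat.cast_pos.2 (Nat.mul_pos hν hq0)
  rw [Real.dist_eq, sub_zero, abs_of_pos (one_div_pos.2 hνq), div_lt_iff₀ hνq]
  have h6 : (q : ℝ) ≤ ((ν * q : ℕ) : ℝ) := by exact_mod_cast Nat.le_mul_of_pos_left _ hν
  rw [div_lt_iff₀ hε] at hq
  nlinarith

/-- Telescoping along the multiplication by a section. -/
theorem h0_telescope {L A : X.Modules} (hL : PicF.IsInvertible L) (hA : PicF.IsInvertible A) {s : Γ(A, ⊤)}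
    (hs : s ≠ 0) (a : ℕ) (r : ℚ) : ∀ j : ℕ,
    (∀ i, i < j → (h0 k (CohB1.tensorMod (cokernel (InvX.ofSect s)) (G2 L A a i)) : ℚ) ≤ r) →
      (h0 k (G2 L A a j) : ℚ) ≤ h0 k (CohB1.tensorPow L a) + j * r := by
  haveI := CurveCohLib.isNoetherian_of_proper (k := k) (X := X)
  let f := InvX.ofSect s
  haveI := CurveAmple.mono_ofSect hA hs
  have hAc := AmpleVan.isCoh_invertible hA
  have hOc : Coh.IsCoh (Coh.structureModule X) := QCoh.isCoh_structureModule'
  have hQ : Coh.IsCoh (cokernel f) := QCoh.isCoh_cokernel hOc.1 hAc f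
  have hS : (ShortComplex.mk f (cokernel.π f) (cokernel.condition f)).ShortExact :=
    .mk' (ShortComplex.exact_of_g_is_cokernel _ (cokernelIsCokernel f)) inferInstance inferInstance
  intro j
  induction j with
  | zero =>
    intro _
    rw [h0_congr_cl (k := k) (show PicF.cl (G2 L A a 0) = PicF.cl (CohB1.tensorPow L a) by
      rw [cl_G2, cl_tensorPow, pow_zero, mul_one])]
    simp
  | succ j ih =>
    intro hr
    have hN := isInvertible_G2 hL hA a j
    obtain ⟨f₁, g₁, w₁, hS₁⟩ := ses_twist hS hN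
    have hNc := AmpleVan.isCoh_invertible hN
    have h4 := h0_le_add (k := k) hS₁ (AmpleVan.isCoh_tensor hOc hNc) (AmpleVan.isCoh_tensor hAc hNc)
      (AmpleVan.isCoh_tensor hQ hNc)
    have e1 : h0 k (CohB1.tensorMod (Coh.structureModule X) (G2 L A a j)) = h0 k (G2 L A a j) :=
      h0_congr (CurveTensor.structureTensorIso (G2 L A a j))
    have e2 := h0_congr_cl (k := k) (cl_tensor_G2 L A a j)
    have h4' : (h0 k (G2 L A a (j + 1)) : ℚ) ≤
        h0 k (G2 L A a j) + h0 k (CohB1.tensorMod (cokernel f) (G2 L A a j)) := by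
      rw [← e1, ← e2]
      exact_mod_cast h4
    have h5 := ih fun i hi => hr i (by omega)
    have h6 := hr j (Nat.lt_succ_self j)
    push_cast
    linarith

/-- A nef module of positive top self intersection has growing sections. -/
theorem grows_of_T_pos (hn : VarDim.deg (X ↘ Spec (CommRingCat.of k)) (genericPoint X) = n)
    {L A : X.Modules} (hL : PicF.IsInvertible L) (hA : CohB1.IsAmple A) (hgA : Curv2.IsGloballyGenerated A)
    (hnef : NefC k L) {P : MvPolynomial (Fin 2) ℚ}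
    (hP : HasP k L A (Coh.structureModule X) P) (hpos : 0 < T n P 1 0) : Grows k L n := by
  haveI := CurveCohLib.isNoetherian_of_proper (k := k) (X := X)
  obtain ⟨P', hdeg, hP'⟩ := exists_hasP (k := k) hL hA.1 (F := Coh.structureModule X) QCoh.isCoh_structureModule'
    (n + 1) fun x _ => by have := deg_le_generic (k := k) x; omega
  obtain rfl := hasP_unique hP hP'
  rcases Nat.eq_zero_or_pos n with rfl | hn0
  · haveI : Subsingleton X := ⟨fun a b => by
      rw [← VarDim.eq_of_specializes_of_deg_le (X ↘ Spec (CommRingCat.of k)) (genericPoint_specializes a) (by omega),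
        ← VarDim.eq_of_specializes_of_deg_le (X ↘ Spec (CommRingCat.of k)) (genericPoint_specializes b) (by omega)]⟩
    haveI := Euler.isAffine_of_subsingleton X
    have hLa : CohB1.IsAmple L := AmpleX.isAmple_of_isQuasiAffine hL
    obtain ⟨e⟩ := cl_eq_iff.1 (show PicF.cl L = PicF.cl (CohB1.tensorPow L 1) by rw [cl_tensorPow, pow_one])
    exact grows_of_mono hn hL one_pos hLa e.hom
  obtain ⟨e', rfl⟩ := Nat.exists_eq_add_of_le' hn0
  obtain ⟨ε, hε, hball⟩ := Metric.eventually_nhds_iff.1 (((continuous_T (e' + 1) P).continuousAt (x := 0)).eventually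
    (lt_mem_nhds (half_lt_self hpos)) |>.and (((continuous_Ty (e' + 1) P).continuousAt (x := 0)).eventually
      (gt_mem_nhds (lt_add_one (Ty (e' + 1) P 1 0)))))
  obtain ⟨q, hq⟩ := exists_nat_gt (max (1 / ε) ((Ty (e' + 1) P 1 0 + 1) / (T (e' + 1) P 1 0 / 2)))
  have hq1 := (le_max_left _ _).trans_lt hq
  have hq2 := (le_max_right _ _).trans_lt hq
  have hq0 : 0 < q := by exact_mod_cast (one_div_pos.2 hε).trans hq1
  have hq' : (0 : ℝ) < q := Nat.cast_pos.2 hq0
  obtain ⟨hT, hTy⟩ := hball (show dist (1 / (q : ℝ)) 0 < ε by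
    rw [Real.dist_eq, sub_zero, abs_of_pos (one_div_pos.2 hq'), div_lt_iff₀ hq']
    rw [div_lt_iff₀ hε] at hq1
    linarith)
  have hM : CohB1.IsAmple (G2 L A q 1) := by
    refine AmpleX.isAmple_of_iso (cl_eq_iff.1 ?_).some (isAmple_of_nef k hL hA hnef hq0)
    rw [cl_G2, cl_tensor, cl_tensorPow, pow_one]
  obtain ⟨s, hs⟩ := exists_section_of_generated hA.1 hgA
  let f := InvX.ofSect s
  haveI := CurveAmple.mono_ofSect hA.1 hs
  have hAc := AmpleVan.isCoh_invertible hA.1
  have hOc : Coh.IsCoh (Coh.structureModule X) := QCoh.isCoh_structureModule'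
  have hQ : Coh.IsCoh (cokernel f) := QCoh.isCoh_cokernel hOc.1 hAc f
  have hQd : ∀ x ∈ CohB1.support (cokernel f), VarDim.deg (X ↘ Spec (CommRingCat.of k)) x ≤ e' := fun x hx => by
    have := deg_support_cokernel (k := k) hA.1 hs hx
    omega
  obtain ⟨R, hR, hRc, hRm⟩ := exists_h0_le (k := k) hL hA.1 hgA q 1 hM e' hQ hQd (hasP_cokernel hL hA.1 hs hP)
  rw [T_shift 1 hdeg, Rat.cast_one, one_mul] at hRc
  obtain ⟨hn1, hc1⟩ := line_coeff (q : ℚ) 1 hdeg
  rw [Rat.cast_natCast, Rat.cast_one] at hc1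
  let D := line (q : ℚ) 1 P - Polynomial.X * R
  have hDd : D.natDegree ≤ e' + 1 := (Polynomial.natDegree_sub_le _ _).trans (max_le hn1
    (Polynomial.natDegree_mul_le.trans (by rw [Polynomial.natDegree_X]; omega)))
  have hDc : 0 < D.coeff (e' + 1) := by
    have h1 : (0 : ℝ) < ((D.coeff (e' + 1) : ℚ) : ℝ) := by
      show (0 : ℝ) < (((line (q : ℚ) 1 P - Polynomial.X * R).coeff (e' + 1) : ℚ) : ℝ)
      rw [Polynomial.coeff_sub, Polynomial.coeff_X_mul, Rat.cast_sub, hc1]
      have h2 : T (e' + 1) P (q : ℝ) 1 = (q : ℝ) ^ (e' + 1) * T (e' + 1) P 1 (1 / q) := by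
        rw [← T_smul, mul_one, mul_one_div_cancel hq'.ne']
      have h3 : Ty (e' + 1) P (q : ℝ) 1 = (q : ℝ) ^ e' * Ty (e' + 1) P 1 (1 / q) := by
        have := Ty_smul (e' + 1) P q 1 (1 / q)
        rwa [mul_one, mul_one_div_cancel hq'.ne', Nat.add_sub_cancel] at this
      rw [Nat.cast_one, h3] at hRc
      rw [h2, pow_succ]
      rw [div_lt_iff₀ (half_pos hpos)] at hq2
      have h4 : Ty (e' + 1) P 1 (1 / q) < q * T (e' + 1) P 1 (1 / q) :=
        hTy.trans (hq2.trans (mul_lt_mul_of_pos_left hT hq'))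
      nlinarith [mul_lt_mul_of_pos_left h4 (pow_pos hq' e')]
    exact_mod_cast h1
  obtain ⟨c, hc, hcm⟩ := eventually_ge hDd hDc
  refine ⟨q, c, hq0, hc, ?_⟩
  filter_upwards [hcm, hRm, eventually_h0_eq (k := k) hP q 1 hM] with m h1 h2 h3
  refine h1.trans ?_
  have h4 := h0_telescope (k := k) hL hA.1 hs (q * m) (R.eval (m : ℚ)) m fun i hi => h2 i (by omega)
  have h5 : (line (q : ℚ) 1 P).eval (m : ℚ) = h0 k (G2 L A (q * m) m) := by
    rw [one_mul, Nat.cast_one] at h3
    exact h3.symm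
  simp only [D, Polynomial.eval_sub, Polynomial.eval_mul, Polynomial.eval_X, h5]
  linarith

end Groth.Agent.NefBig
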