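import Groth.Agent.Nakai.NumTrivInt

/-!
Growth of sections of a generated module from a subvariety of positive degree.
-/

set_option autoImplicit false
set_option linter.style.haveILetI false
set_option linter.unusedSectionVars false
set_option backward.isDefEq.respectTransparency false
set_option backward.isDefEq.respectTransparency.types false
set_option maxHeartbeats 1000000

universe u

open CategoryTheory CategoryTheory.Limits AlgebraicGeometry TopologicalSpace Opposite
open Groth.Agent.H23 Groth.Agent.H23.TrivBasic Groth.Agent.H23.PicMul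
open Groth.Agent.NefPoly Groth.Agent.NefCrit Groth.Agent.NefBig
open Groth.Agent.Snapper (DegLt)
open Groth.Agent.PnCoh.Finite (mapLin)
open scoped Polynomial

noncomputable section

namespace Groth.Agent.NefTriv

attribute [local instance] PicMul.clMonoid

theorem ampleX_locus_eq {X : Scheme.{u}} {M : X.Modules} (t : Γ(M, ⊤)) : AmpleX.locus t = locus t :=
  Opens.ext (Set.ext fun _ => ⟨fun h => by
    obtain ⟨V, _, hx, hV⟩ := AmpleX.mem_locus.1 h
    exact mem_locus_iff.2 ⟨V, hx, hV⟩, fun h => by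
    obtain ⟨U, hx, hU⟩ := mem_locus_iff.1 h
    exact AmpleX.mem_locus.2 ⟨U, le_top, hx, hU⟩⟩)

theorem locus_mulBy {X : Scheme.{u}} {L P : X.Modules} (hP : PicF.IsInvertible P) (hL : PicF.IsInvertible L)
    (s : Γ(L, ⊤)) (t : Γ(P, ⊤)) :
    locus (show Γ(CohB1.tensorMod P L, ⊤) from (CurveAmple.mulBy P s).app ⊤ t) = locus t ⊓ locus s := by
  rw [← ampleX_locus_eq, ← ampleX_locus_eq t, ← ampleX_locus_eq s]
  show AmpleX.locus ((CurveAmple.mulBy P s).app ⊤ t) = _
  rw [CurveAmple.mulBy_app, AModX.res_self]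
  exact AmpleX.locus_tmul hP hL t s

variable (k : Type u) [Field k] {X : Scheme.{u}} [X.Over (Spec (CommRingCat.of k))]
  [IsProper (X ↘ Spec (CommRingCat.of k))]

/-- The sections killed on a closed subscheme. -/
def killed (L : X.Modules) {Z : Scheme.{u}} (i : Z ⟶ X) (j : ℕ) :
    Submodule k (Coh.HH X (CohB1.tensorPow L j) 0) :=
  LinearMap.ker (mapLin k ((Scheme.Modules.pullbackPushforwardAdjunction i).unit.app (CohB1.tensorPow L j)) 0)

/-- The dimension of the sections seen on a closed subscheme. -/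
def seen (L : X.Modules) {Z : Scheme.{u}} (i : Z ⟶ X) (j : ℕ) : ℕ :=
  Module.finrank k (Coh.HH X (CohB1.tensorPow L j) 0 ⧸ killed k L i j)

variable {k}

theorem mem_killed_iff {L : X.Modules} (hL : PicF.IsInvertible L) {Z : Scheme.{u}} (i : Z ⟶ X) [IsIntegral Z]
    {j : ℕ} (x : Coh.HH X (CohB1.tensorPow L j) 0) :
    x ∈ killed k L i j ↔ i (genericPoint Z) ∉
      locus (show Γ(CohB1.tensorPow L j, ⊤) from Sheaf.H.equiv₀ (Coh.toAb (CohB1.tensorPow L j)) isTerminalTop x) := by
  let M := CohB1.tensorPow L j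
  have hM : PicF.IsInvertible M := InvX.isInvertible_tensorPow hL j
  let u := (Scheme.Modules.pullbackPushforwardAdjunction i).unit.app M
  let t : Γ(M, ⊤) := Sheaf.H.equiv₀ (Coh.toAb M) isTerminalTop x
  let τ : Γ((Scheme.Modules.pullback i).obj M, ⊤) := InvX.pullElt i t
  have h1 : x ∈ killed k L i j ↔ τ = 0 := by
    rw [killed, LinearMap.mem_ker]
    have hn := Sheaf.H.equiv₀_naturality isTerminalTop ((QCoh.toAbFunctor X).map u) x
    constructor
    · intro h
      show u.app ⊤ t = 0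
      refine hn.trans ?_
      exact (congrArg _ h).trans (map_zero _)
    · intro h
      refine (Sheaf.H.equiv₀ _ isTerminalTop).injective ?_
      rw [map_zero]
      exact hn.symm.trans h
  rw [h1]
  constructor
  · intro h hmem
    exact ne_zero_of_mem_locus (s := τ) (x := genericPoint Z)
      (by rw [show locus τ = i ⁻¹ᵁ locus t from locus_pullElt hM i t]; exact hmem) h
  · intro h
    by_contra hne
    have h2 := generic_mem_locus (PicClLib.isInvertible_pullback i hM) hne
    rw [show locus τ = i ⁻¹ᵁ locus t from locus_pullElt hM i t] at h2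
    exact h h2

theorem seen_le {L : X.Modules} (hL : PicF.IsInvertible L) {Z : Scheme.{u}} (i : Z ⟶ X) (j : ℕ) :
    seen k L i j ≤ h0 k (CohB1.tensorPow L j) := by
  haveI := CurveCohLib.isNoetherian_of_proper (k := k) (X := X)
  haveI := CurveCohLib.finite_HH (k := k) (AmpleVan.isCoh_invertible (InvX.isInvertible_tensorPow hL j)) 0
  exact Submodule.finrank_quotient_le _

theorem one_le_seen {L : X.Modules} (hL : PicF.IsInvertible L) {Z : Scheme.{u}} (i : Z ⟶ X) [IsIntegral Z]
    {t₀ : Γ(L, ⊤)} (ht₀ : i (genericPoint Z) ∈ locus t₀) (j : ℕ) : 1 ≤ seen k L i j := by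
  haveI := CurveCohLib.isNoetherian_of_proper (k := k) (X := X)
  haveI := CurveCohLib.finite_HH (k := k) (AmpleVan.isCoh_invertible (InvX.isInvertible_tensorPow hL j)) 0
  obtain ⟨t, ht⟩ : ∃ t : Γ(CohB1.tensorPow L j, ⊤), i (genericPoint Z) ∈ locus t := by
    cases j with
    | zero =>
      refine ⟨InvX.one (𝟙 (Coh.structureModule X)), ?_⟩
      show i (genericPoint Z) ∈ CohB1.genLocus _ (InvX.ofSect (InvX.one _))
      rw [AVAmple.ofSect_one]
      refine InvX.le_genLocus (U := ⊤) _ ?_ trivial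
      rw [AModX.res_self]
      exact InvX.isFrame_one ⊤
    | succ j =>
      refine ⟨InvX.one (InvX.powHom (InvX.ofSect t₀) (j + 1)), ?_⟩
      show i (genericPoint Z) ∈ CohB1.genLocus _ (InvX.ofSect (InvX.one _))
      rw [AVAmple.ofSect_one, InvX.genLocus_powHom hL]
      exact ht₀
  let E := Sheaf.H.equiv₀ (Coh.toAb (CohB1.tensorPow L j)) isTerminalTop
  have hne : E.symm t ∉ killed k L i j := fun h => by
    have h' := (mem_killed_iff hL i _).1 h
    apply h'
    show i (genericPoint Z) ∈ locus (E (E.symm t))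
    rw [E.apply_symm_apply]
    exact ht
  haveI : Nontrivial (Coh.HH X (CohB1.tensorPow L j) 0 ⧸ killed k L i j) :=
    ⟨Submodule.Quotient.mk (E.symm t), 0, fun h => hne ((Submodule.Quotient.mk_eq_zero _).1 h)⟩
  exact Module.finrank_pos

/-- Sections seen on a subvariety split along a hyperplane section. -/
theorem seen_succ {L : X.Modules} (hL : PicF.IsInvertible L) {Z W : Scheme.{u}} (i : Z ⟶ X) [IsIntegral Z]
    (v : W ⟶ X) [IsIntegral W] (hsp : i (genericPoint Z) ⤳ v (genericPoint W)) {s : Γ(L, ⊤)}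
    (hsZ : i (genericPoint Z) ∈ locus s) (hsW : v (genericPoint W) ∉ locus s) (j : ℕ) :
    seen k L v (j + 1) + seen k L i j ≤ seen k L i (j + 1) := by
  haveI := CurveCohLib.isNoetherian_of_proper (k := k) (X := X)
  haveI := CurveCohLib.finite_HH (k := k) (AmpleVan.isCoh_invertible (InvX.isInvertible_tensorPow hL j)) 0
  haveI := CurveCohLib.finite_HH (k := k) (AmpleVan.isCoh_invertible (InvX.isInvertible_tensorPow hL (j + 1))) 0
  let P := CohB1.tensorPow L j
  let g : P ⟶ CohB1.tensorPow L (j + 1) := CurveAmple.mulBy P s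
  let Gm := mapLin k g 0
  have hP : PicF.IsInvertible P := InvX.isInvertible_tensorPow hL j
  have hloc : ∀ x, locus (show Γ(CohB1.tensorPow L (j + 1), ⊤) from
      Sheaf.H.equiv₀ (Coh.toAb (CohB1.tensorPow L (j + 1))) isTerminalTop (Gm x)) =
      locus (show Γ(P, ⊤) from Sheaf.H.equiv₀ (Coh.toAb P) isTerminalTop x) ⊓ locus s := fun x => by
    rw [← locus_mulBy hP hL s]
    exact congrArg (fun z : Γ(CohB1.tensorPow L (j + 1), ⊤) => locus z)
      (Sheaf.H.equiv₀_naturality isTerminalTop ((QCoh.toAbFunctor X).map g) x).symm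
  have hle : killed k L i (j + 1) ≤ killed k L v (j + 1) := fun x hx => by
    rw [mem_killed_iff hL] at hx ⊢
    exact fun h => hx (hsp.mem_open (locus _).isOpen h)
  let ψ := (killed k L i (j + 1)).mkQ.comp Gm
  let ρ := Submodule.factor hle
  have hker : LinearMap.ker ψ = killed k L i j := by
    ext x
    show Submodule.Quotient.mk (Gm x) = 0 ↔ _
    rw [Submodule.Quotient.mk_eq_zero, mem_killed_iff hL, mem_killed_iff hL, hloc]
    exact ⟨fun h h' => h ⟨h', hsZ⟩, fun h h' => h h'.1⟩
  have hrange : LinearMap.range ψ ≤ LinearMap.ker ρ := by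
    rintro _ ⟨x, rfl⟩
    show ρ (Submodule.Quotient.mk (Gm x)) = 0
    show Submodule.Quotient.mk (Gm x) = (0 : _ ⧸ killed k L v (j + 1))
    rw [Submodule.Quotient.mk_eq_zero, mem_killed_iff hL, hloc]
    exact fun h => hsW h.2
  have h1 := LinearMap.finrank_range_add_finrank_ker ψ
  rw [hker] at h1
  have h2 := (killed k L i j).finrank_quotient_add_finrank
  have h3 := LinearMap.finrank_range_add_finrank_ker ρ
  rw [LinearMap.range_eq_top.2 (Submodule.factor_surjective hle), finrank_top] at h3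
  have h4 := Submodule.finrank_mono hrange
  simp only [P] at h1 h4
  unfold seen
  omega

/-- A subvariety of positive degree gives growth. -/
theorem choose_le_seen {L A : X.Modules} (hL : PicF.IsInvertible L) (hgL : Curv2.IsGloballyGenerated L)
    (hnef : NefC k L) (hA : CohB1.IsAmple A) :
    ∀ (e : ℕ) (Z : Scheme.{u}) (i : Z ⟶ X) [IsClosedImmersion i] [IsIntegral Z],
      VarDim.deg (X ↘ Spec (CommRingCat.of k)) (i (genericPoint Z)) = e → ∀ Q, PowPoly k L i Q → 0 < Q.coeff e →
        ∀ j, (j + e).choose e ≤ seen k L i j := by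
  haveI := CurveCohLib.isNoetherian_of_proper (k := k) (X := X)
  intro e
  induction e with
  | zero =>
    intro Z i _ _ _ Q _ _ j
    obtain ⟨t, ht⟩ := GenLocusGG.exists_mem_locus hL hgL (i (genericPoint Z))
    rw [Nat.choose_zero_right]
    exact one_le_seen hL i ht j
  | succ e ih =>
    intro Z i _ _ hd Q hQ hQpos
    obtain ⟨s, hsZ⟩ := GenLocusGG.exists_mem_locus hL hgL (i (genericPoint Z))
    letI : Z.Over (Spec (CommRingCat.of k)) := ⟨i ≫ (X ↘ (Spec (CommRingCat.of k)))⟩
    haveI : IsProper (Z ↘ Spec (CommRingCat.of k)) := isProper_over i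
    haveI : CompactSpace Z := i.isClosedEmbedding.compactSpace
    haveI := CurveCohLib.isNoetherian_of_proper (k := k) (X := Z)
    have hdZ : VarDim.deg (Z ↘ Spec (CommRingCat.of k)) (genericPoint Z) = e + 1 := (deg_closed i _).trans hd
    let iL := (Scheme.Modules.pullback i).obj L
    have hiL : PicF.IsInvertible iL := PicClLib.isInvertible_pullback i hL
    have hiA := AmpleVan.FiniteSurj.isAmple_pullback_of_isAffineHom i hA
    obtain ⟨P, hPd, hP⟩ := exists_hasP (k := k) hiL hiA.1 (F := Coh.structureModule Z)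
      QCoh.isCoh_structureModule' (e + 1 + 1) fun x _ => by have := deg_le_generic (k := k) x; omega
    obtain rfl : Q = line 1 0 P := ParShLib.eq_of_eval_nat fun a => (hQ a).symm.trans (powPoly_line i hP a)
    obtain ⟨-, hPc⟩ := line_coeff 1 0 hPd
    rw [Rat.cast_one, Rat.cast_zero] at hPc
    have hTP : 0 < T (e + 1) P 1 0 := hPc ▸ Rat.cast_pos.2 hQpos
    let σ : Γ(iL, ⊤) := InvX.pullElt i s
    have hlocσ : locus σ = i ⁻¹ᵁ locus s := locus_pullElt hL i s
    obtain ⟨e₁⟩ := cl_eq_iff.1 (show PicF.cl iL = PicF.cl (CohB1.tensorPow iL 1) by rw [cl_tensorPow, pow_one])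
    let s' : Γ(CohB1.tensorPow iL 1, ⊤) := InvX.one (InvX.ofSect σ ≫ e₁.hom)
    have hlocs' : locus s' = locus σ := by
      show CohB1.genLocus _ (InvX.ofSect (InvX.one _)) = _
      rw [AVAmple.ofSect_one, InvX.genLocus_comp_iso]
      rfl
    have hs' : s' ≠ 0 := ne_zero_of_mem_locus (x := genericPoint Z) (by rw [hlocs', hlocσ]; exact hsZ)
    obtain ⟨hQc, hQd, R, hR, hRT⟩ := exists_cut_first (k := k) hiL hiA.1 hdZ hs' hP
    obtain ⟨W, w, hw, hW, hwd, hwS, S, hS, hSne⟩ : ∃ (W : Scheme.{u}) (w : W ⟶ Z) (_ : IsClosedImmersion w)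
        (_ : IsIntegral W), VarDim.deg (Z ↘ Spec (CommRingCat.of k)) (w (genericPoint W)) = e ∧
          Set.range w ⊆ CohB1.support (cokernel (InvX.ofSect s')) ∧
          ∃ S, HasP k iL ((Scheme.Modules.pullback i).obj A) ((Coh.push w).obj (Coh.structureModule W)) S ∧
            T e S 1 0 ≠ 0 := by
      by_contra hno
      push Not at hno
      have h2 := (devissage_on hiL hiA.1 (fun S => -T e S 1 0) (fun S S' => by rw [T_add]; ring) e
        (fun S hS => by rw [T_eq_zero hS]; ring) _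
        (fun W w hw hW hwd hwS S hS => by rw [hno W w hw hW hwd hwS S hS]; simp) hQc subset_rfl hQd hR).1
      rw [hRT] at h2
      have : 0 < ((e + 1 : ℕ) : ℝ) * ((1 : ℕ) : ℝ) * T (e + 1) P 1 0 := by positivity
      linarith
    haveI := hw; haveI := hW
    letI : W.Over (Spec (CommRingCat.of k)) := ⟨w ≫ (Z ↘ (Spec (CommRingCat.of k)))⟩
    haveI : IsProper (W ↘ Spec (CommRingCat.of k)) := isProper_over w
    haveI : CompactSpace W := w.isClosedEmbedding.compactSpace
    haveI := CurveCohLib.isNoetherian_of_proper (k := k) (X := W)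
    have hdW : VarDim.deg (W ↘ Spec (CommRingCat.of k)) (genericPoint W) = e := (deg_closed w _).trans hwd
    have hSW := (hasP_push_iff hiL hiA.1 w S).1 hS
    have hwL : PicF.IsInvertible ((Scheme.Modules.pullback w).obj iL) := PicClLib.isInvertible_pullback w hiL
    obtain ⟨S', hSd, hS'⟩ := exists_hasP (k := k) hwL (PicClLib.isInvertible_pullback w hiA.1)
      (F := Coh.structureModule W) QCoh.isCoh_structureModule' (e + 1)
      fun x _ => by have := deg_le_generic (k := k) x; omega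
    obtain rfl := hasP_unique hSW hS'
    have hSpos : 0 < T e S 1 0 := lt_of_le_of_ne (T_nonneg hdW hwL
      (AmpleVan.FiniteSurj.isAmple_pullback_of_isAffineHom w hiA) ((hnef.pull i hL).pull w hiL) hSW) (Ne.symm hSne)
    obtain ⟨-, hSc⟩ := line_coeff 1 0 hSd
    rw [Rat.cast_one, Rat.cast_zero] at hSc
    have hvQ : PowPoly k L (w ≫ i) (line 1 0 S) := PowPoly.comp i w (powPoly_line w hSW)
    have hvd : VarDim.deg (X ↘ Spec (CommRingCat.of k)) ((w ≫ i) (genericPoint W)) = e :=
      (deg_closed i _).symm.trans hwd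
    have hrec := ih W (w ≫ i) hvd _ hvQ (Rat.cast_pos.1 (hSc.symm ▸ hSpos))
    have hsW : (w ≫ i) (genericPoint W) ∉ locus s := fun h => by
      have h1 : w (genericPoint W) ∈ locus s' := by rw [hlocs', hlocσ]; exact h
      exact CurveAmple.support_cokernel_subset s' (hwS ⟨_, rfl⟩) h1
    have hsp : i (genericPoint Z) ⤳ (w ≫ i) (genericPoint W) := (genericPoint_specializes _).map i.continuous
    intro j
    induction j with
    | zero =>
      rw [Nat.zero_add, Nat.choose_self]
      exact one_le_seen hL i hsZ 0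
    | succ j ihj =>
      have h1 := seen_succ (k := k) hL i (w ≫ i) hsp hsZ hsW j
      have h2 := hrec (j + 1)
      have h3 : (j + 1 + (e + 1)).choose (e + 1) = (j + 1 + e).choose e + (j + (e + 1)).choose (e + 1) := by
        rw [show j + 1 + (e + 1) = (j + 1 + e) + 1 by omega, Nat.choose_succ_succ, show j + (e + 1) = j + 1 + e by omega]
      omega

/-- Generated modules are nonnegative on curves. -/
theorem nefC_of_generated {L : X.Modules} (hL : PicF.IsInvertible L) (hgL : Curv2.IsGloballyGenerated L) :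
    NefC k L := by
  intro Y i _ hY hYd
  haveI := hY
  haveI := CurveCohLib.isNoetherian_of_proper (k := k) (X := X)
  letI : Y.Over (Spec (CommRingCat.of k)) := ⟨i ≫ (X ↘ (Spec (CommRingCat.of k)))⟩
  haveI : IsProper (Y ↘ Spec (CommRingCat.of k)) := isProper_over i
  haveI := CurveCohLib.isNoetherian_of_proper (k := k) (X := Y)
  obtain ⟨t, ht⟩ := GenLocusGG.exists_mem_locus hL hgL (i (genericPoint Y))
  have h := SurfNegDef.deg_nonneg_of_locus (k := k) i hYd.le hL (genericPoint Y) ht
  have hh : ∀ N : Y.Modules, Coh.IsQCoh N → FGA.eulerCharLE k Y N 1 = Curv2.euler k Y N := fun N hN =>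
    (Euler.euler_eq_sum k N 2 fun q hq => by
      obtain ⟨n, rfl⟩ := Nat.exists_eq_add_of_le hq
      rw [add_comm]
      exact CurveVanish.subsingleton_HH_curve k hYd.le hN n).symm
  show 0 ≤ FGA.eulerCharLE k Y ((Scheme.Modules.pullback i).obj L) 1 - FGA.eulerCharLE k Y (Coh.structureModule Y) 1
  rw [hh _ (AmpleVan.isCoh_invertible (PicClLib.isInvertible_pullback i hL)).1, hh _ QCoh.isQCoh_structureModule]
  unfold Curv2.deg at h
  push_cast at h
  linarith

/-- Scaling of the polynomial of the powers. -/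
theorem PowPoly.pow {L : X.Modules} {Z : Scheme.{u}} (i : Z ⟶ X) [IsClosedImmersion i] {Q : ℚ[X]}
    (h : PowPoly k L i Q) (μ : ℕ) :
    PowPoly k (CohB1.tensorPow L μ) i (Q.comp (Polynomial.C (μ : ℚ) * Polynomial.X)) := by
  intro a
  letI : Z.Over (Spec (CommRingCat.of k)) := ⟨i ≫ (X ↘ (Spec (CommRingCat.of k)))⟩
  rw [Polynomial.eval_comp, Polynomial.eval_mul, Polynomial.eval_C, Polynomial.eval_X, ← Nat.cast_mul, ← h (μ * a)]
  refine congrArg Int.cast (CurveCohLib.euler_congr (k := k) (cl_eq_iff.1 ?_).some)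
  rw [cl_tensorPow, cl_tensorPow, cl_eq_iff.2 (AmpleVan.RelVanish.pullback_tensorPow i L μ), cl_tensorPow, ← pow_mul]

/-- A semi-ample module is nef. -/
theorem nefC_of_semiample {L : X.Modules} (hL : PicF.IsInvertible L) {μ : ℕ} (hμ : 0 < μ)
    (hg : Curv2.IsGloballyGenerated (CohB1.tensorPow L μ)) : NefC k L := by
  intro Y i _ hY hYd
  haveI := hY
  haveI := CurveCohLib.isNoetherian_of_proper (k := k) (X := X)
  letI : Y.Over (Spec (CommRingCat.of k)) := ⟨i ≫ (X ↘ (Spec (CommRingCat.of k)))⟩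
  haveI : IsProper (Y ↘ Spec (CommRingCat.of k)) := isProper_over i
  haveI := CurveCohLib.isNoetherian_of_proper (k := k) (X := Y)
  have hd : VarDim.deg (Y ↘ Spec (CommRingCat.of k)) (genericPoint Y) = 1 := by
    have h1 := VarDim.topologicalKrullDim_eq_deg_genericPoint (Y ↘ Spec (CommRingCat.of k))
    rw [hYd] at h1
    exact_mod_cast h1.symm
  have hLμ := InvX.isInvertible_tensorPow hL μ
  have hiL := PicClLib.isInvertible_pullback i hL
  have hiM := PicClLib.isInvertible_pullback i hLμ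
  obtain ⟨R, hRd, hR⟩ := exists_hasP (k := k) hiL hiL (F := Coh.structureModule Y)
    QCoh.isCoh_structureModule' 2 fun x _ => by have := deg_le_generic (k := k) x; omega
  obtain ⟨S, hSd, hS⟩ := exists_hasP (k := k) hiM hiL (F := Coh.structureModule Y)
    QCoh.isCoh_structureModule' 2 fun x _ => by have := deg_le_generic (k := k) x; omega
  have h0 := nefC_of_generated (k := k) hLμ hg Y i inferInstance hYd
  have hSR : line 1 0 S = (line 1 0 R).comp (Polynomial.C (μ : ℚ) * Polynomial.X) :=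
    ParShLib.eq_of_eval_nat fun a => (powPoly_line i hS a).symm.trans ((powPoly_line i hR).pow i μ a)
  obtain ⟨-, hSc⟩ := line_coeff 1 0 (d := 1) hSd
  obtain ⟨-, hRc⟩ := line_coeff 1 0 (d := 1) hRd
  rw [hSR, Polynomial.comp_C_mul_X_coeff, pow_one, Rat.cast_mul, Rat.cast_natCast] at hSc
  rw [hRc] at hSc
  rw [Rat.cast_one, Rat.cast_zero] at hSc
  have eS : ((Pic13.curveDeg k (Y ↘ Spec (CommRingCat.of k)) ((Scheme.Modules.pullback i).obj (CohB1.tensorPow L μ)) : ℤ) : ℝ) =
      cf S 1 0 := curveDeg_eq_cf hYd hiM hS hSd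
  have eR : ((Pic13.curveDeg k (Y ↘ Spec (CommRingCat.of k)) ((Scheme.Modules.pullback i).obj L) : ℤ) : ℝ) =
      cf R 1 0 := curveDeg_eq_cf hYd hiL hR hRd
  have hT : ∀ U : MvPolynomial (Fin 2) ℚ, T 1 U 1 0 = cf U 1 0 := fun U => by simp [T, Finset.sum_range_succ]
  rw [hT, hT] at hSc
  have h1 : (0 : ℝ) ≤ cf S 1 0 := eS ▸ Int.cast_nonneg h0
  show 0 ≤ Pic13.curveDeg k (Y ↘ Spec (CommRingCat.of k)) ((Scheme.Modules.pullback i).obj L)
  have h2 : (0 : ℝ) ≤ cf R 1 0 := by
    have hμ' : (0 : ℝ) < μ := Nat.cast_pos.2 hμ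
    nlinarith
  rw [← eR] at h2
  exact_mod_cast h2

/-- For semi-ample modules a nonzero self intersection on a subvariety gives growth. -/
theorem growth_of_semiample {L A : X.Modules} (hL : PicF.IsInvertible L) (hA : CohB1.IsAmple A) {μ₀ : ℕ} (hμ₀ : 0 < μ₀)
    (hg : Curv2.IsGloballyGenerated (CohB1.tensorPow L μ₀)) {m : ℕ} {V : Scheme.{u}} (i : V ⟶ X)
    [IsClosedImmersion i] [IsIntegral V] (hd : VarDim.deg (X ↘ Spec (CommRingCat.of k)) (i (genericPoint V)) = m)
    {Q : ℚ[X]} (hQ : PowPoly k L i Q) (hne : Q.coeff m ≠ 0) :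
    ∃ ν a : ℕ, 0 < ν ∧ 0 < a ∧ ∀ μ : ℕ, 1 ≤ μ →
        μ ^ m ≤ a * Module.finrank k (Coh.HH X (CohB1.tensorPow L (ν * μ)) 0) := by
  haveI := CurveCohLib.isNoetherian_of_proper (k := k) (X := X)
  have hM := InvX.isInvertible_tensorPow hL μ₀
  have hMnef := nefC_of_generated (k := k) hM hg
  letI : V.Over (Spec (CommRingCat.of k)) := ⟨i ≫ (X ↘ (Spec (CommRingCat.of k)))⟩
  haveI : IsProper (V ↘ Spec (CommRingCat.of k)) := isProper_over i
  haveI : CompactSpace V := i.isClosedEmbedding.compactSpace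
  haveI := CurveCohLib.isNoetherian_of_proper (k := k) (X := V)
  have hdV : VarDim.deg (V ↘ Spec (CommRingCat.of k)) (genericPoint V) = m := (deg_closed i _).trans hd
  have hiA := AmpleVan.FiniteSurj.isAmple_pullback_of_isAffineHom i hA
  obtain ⟨R, hRd, hR⟩ := exists_hasP (k := k) (PicClLib.isInvertible_pullback i hM) hiA.1
    (F := Coh.structureModule V) QCoh.isCoh_structureModule' (m + 1)
    fun x _ => by have := deg_le_generic (k := k) x; omega
  let Q' := Q.comp (Polynomial.C (μ₀ : ℚ) * Polynomial.X)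
  have hQ' : PowPoly k (CohB1.tensorPow L μ₀) i Q' := hQ.pow i μ₀
  have hQR : Q' = line 1 0 R := ParShLib.eq_of_eval_nat fun a => (hQ' a).symm.trans (powPoly_line i hR a)
  have hne' : Q'.coeff m ≠ 0 := by
    show (Q.comp (Polynomial.C (μ₀ : ℚ) * Polynomial.X)).coeff m ≠ 0
    rw [Polynomial.comp_C_mul_X_coeff]
    exact mul_ne_zero hne (pow_ne_zero _ (Nat.cast_ne_zero.2 hμ₀.ne'))
  obtain ⟨-, hRc⟩ := line_coeff 1 0 hRd
  rw [Rat.cast_one, Rat.cast_zero] at hRc
  have hnn : (0 : ℝ) ≤ ((Q'.coeff m : ℚ) : ℝ) := by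
    rw [hQR, hRc]
    exact T_nonneg hdV (PicClLib.isInvertible_pullback i hM) hiA (hMnef.pull i hM) hR
  have hpos : 0 < Q'.coeff m := lt_of_le_of_ne (Rat.cast_nonneg.1 hnn) (Ne.symm hne')
  refine ⟨μ₀, m.factorial, hμ₀, Nat.factorial_pos m, fun μ _ => ?_⟩
  have h1 := (choose_le_seen (k := k) hM hg hMnef hA m V i hd Q' hQ' hpos μ).trans (seen_le hM i μ)
  rw [h0_congr_cl (k := k) (show PicF.cl (CohB1.tensorPow (CohB1.tensorPow L μ₀) μ) = PicF.cl (CohB1.tensorPow L (μ₀ * μ)) by
    rw [cl_tensorPow, cl_tensorPow, cl_tensorPow, ← pow_mul])] at h1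
  refine le_trans ?_ (Nat.mul_le_mul_left _ h1)
  rw [← Nat.descFactorial_eq_factorial_mul_choose]
  refine le_trans (Nat.pow_le_pow_left ?_ m) (Nat.pow_sub_le_descFactorial _ _)
  omega

end Groth.Agent.NefTriv
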