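import Groth.Agent.Snapper.MPoly
import Mathlib.Algebra.MvPolynomial.Monad
import Mathlib.Algebra.MvPolynomial.Funext
import Mathlib.Analysis.Real.Sqrt
import Mathlib.Topology.Algebra.Polynomial
import Mathlib.Topology.Order.Monotone

/-!
# Top homogeneous parts of polynomials in two variables
-/

noncomputable section

open MvPolynomial Finset

namespace Groth.Agent.NefPoly

open Groth.Agent.Snapper (DegLt)

/-- The exponent `(i, j)`. -/
def idx (i j : ℕ) : Fin 2 →₀ ℕ := Finsupp.single 0 i + Finsupp.single 1 j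

@[simp] theorem idx_zero (i j : ℕ) : idx i j 0 = i := by simp [idx]
@[simp] theorem idx_one (i j : ℕ) : idx i j 1 = j := by simp [idx]

theorem eq_idx (α : Fin 2 →₀ ℕ) : α = idx (α 0) (α 1) := by
  ext i
  fin_cases i <;> simp

theorem sum_idx (α : Fin 2 →₀ ℕ) : (α.sum fun _ e => e) = α 0 + α 1 := by
  rw [Finsupp.sum_fintype _ _ (fun _ => rfl), Fin.sum_univ_two]

/-- The coefficient of `a ^ i * b ^ j`. -/
def cf (P : MvPolynomial (Fin 2) ℚ) (i j : ℕ) : ℝ := ((coeff (idx i j) P : ℚ) : ℝ)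

theorem cf_add (P Q : MvPolynomial (Fin 2) ℚ) (i j : ℕ) : cf (P + Q) i j = cf P i j + cf Q i j := by
  simp [cf]

theorem cf_eq_zero {P : MvPolynomial (Fin 2) ℚ} {d : ℕ} (h : DegLt d P) {i j : ℕ} (hij : d ≤ i + j) :
    cf P i j = 0 := by
  rw [cf, Rat.cast_eq_zero]
  by_contra hne
  have := h _ (mem_support_iff.2 hne)
  rw [sum_idx, idx_zero, idx_one] at this
  omega

/-- The value of the homogeneous part of degree `d`. -/
def T (d : ℕ) (P : MvPolynomial (Fin 2) ℚ) (x y : ℝ) : ℝ :=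
  ∑ j ∈ range (d + 1), cf P (d - j) j * x ^ (d - j) * y ^ j

/-- Its derivative in the first variable. -/
def Tx (d : ℕ) (P : MvPolynomial (Fin 2) ℚ) (x y : ℝ) : ℝ :=
  ∑ j ∈ range (d + 1), cf P (d - j) j * ((d - j : ℕ) : ℝ) * x ^ (d - j - 1) * y ^ j

/-- Its derivative in the second variable. -/
def Ty (d : ℕ) (P : MvPolynomial (Fin 2) ℚ) (x y : ℝ) : ℝ :=
  ∑ j ∈ range (d + 1), cf P (d - j) j * (j : ℝ) * x ^ (d - j) * y ^ (j - 1)

theorem euler (d : ℕ) (P : MvPolynomial (Fin 2) ℚ) (x y : ℝ) :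
    (d : ℝ) * T d P x y = x * Tx d P x y + y * Ty d P x y := by
  rw [T, Tx, Ty, mul_sum, mul_sum, mul_sum, ← sum_add_distrib]
  refine sum_congr rfl fun j hj => ?_
  have hjd : j ≤ d := Nat.lt_succ_iff.1 (mem_range.1 hj)
  have h1 : x * x ^ (d - j - 1) * ((d - j : ℕ) : ℝ) = x ^ (d - j) * ((d - j : ℕ) : ℝ) := by
    rcases Nat.eq_zero_or_pos (d - j) with h | h
    · rw [h]; simp
    · rw [← pow_succ', show d - j - 1 + 1 = d - j by omega]
  have h2 : y * y ^ (j - 1) * (j : ℝ) = y ^ j * (j : ℝ) := by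
    rcases Nat.eq_zero_or_pos j with h | h
    · rw [h]; simp
    · rw [← pow_succ', show j - 1 + 1 = j by omega]
  have h3 : (d : ℝ) = ((d - j : ℕ) : ℝ) + (j : ℝ) := by rw [← Nat.cast_add, Nat.sub_add_cancel hjd]
  rw [h3]
  linear_combination (-(cf P (d - j) j * y ^ j)) * h1 - (cf P (d - j) j * x ^ (d - j)) * h2

theorem T_add (d : ℕ) (P Q : MvPolynomial (Fin 2) ℚ) (x y : ℝ) : T d (P + Q) x y = T d P x y + T d Q x y := by
  simp only [T, cf_add, add_mul, sum_add_distrib]

theorem T_eq_zero {d : ℕ} {P : MvPolynomial (Fin 2) ℚ} (h : DegLt d P) (x y : ℝ) : T d P x y = 0 :=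
  sum_eq_zero fun j hj => by rw [cf_eq_zero h (by have := mem_range.1 hj; omega), zero_mul, zero_mul]

theorem T_smul (d : ℕ) (P : MvPolynomial (Fin 2) ℚ) (c x y : ℝ) : T d P (c * x) (c * y) = c ^ d * T d P x y := by
  rw [T, T, mul_sum]
  refine sum_congr rfl fun j hj => ?_
  have hjd : j ≤ d := Nat.lt_succ_iff.1 (mem_range.1 hj)
  rw [mul_pow, mul_pow, show c ^ d = c ^ (d - j) * c ^ j by rw [← pow_add, Nat.sub_add_cancel hjd]]
  ring

theorem Tx_smul (d : ℕ) (P : MvPolynomial (Fin 2) ℚ) (c x y : ℝ) :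
    Tx d P (c * x) (c * y) = c ^ (d - 1) * Tx d P x y := by
  rw [Tx, Tx, mul_sum]
  refine sum_congr rfl fun j hj => ?_
  have hjd : j ≤ d := Nat.lt_succ_iff.1 (mem_range.1 hj)
  rcases Nat.eq_zero_or_pos (d - j) with h | h
  · simp [h]
  rw [mul_pow, mul_pow, show c ^ (d - 1) = c ^ (d - j - 1) * c ^ j by rw [← pow_add]; congr 1; omega]
  ring

theorem T_zero_one (d : ℕ) (P : MvPolynomial (Fin 2) ℚ) : T d P 0 1 = cf P 0 d := by
  rw [T, sum_eq_single d (fun j hj hne => by
    rw [zero_pow (by have := mem_range.1 hj; omega)]; simp) (fun h => absurd (mem_range.2 d.lt_succ_self) h)]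
  simp

theorem continuous_T (d : ℕ) (P : MvPolynomial (Fin 2) ℚ) : Continuous fun t : ℝ => T d P 1 t := by
  unfold T; fun_prop

theorem continuous_Tx (d : ℕ) (P : MvPolynomial (Fin 2) ℚ) : Continuous fun t : ℝ => Tx d P 1 t := by
  unfold Tx; fun_prop

/-- Extensionality on natural points. -/
theorem poly_ext {P Q : MvPolynomial (Fin 2) ℚ}
    (h : ∀ n : Fin 2 → ℕ, eval (fun i => (n i : ℚ)) P = eval (fun i => (n i : ℚ)) Q) : P = Q :=
  MvPolynomial.funext_set (fun _ => Set.range ((↑) : ℕ → ℚ))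
    (fun _ => Set.infinite_range_of_injective Nat.cast_injective) fun x hx => by
      choose n hn using fun i => hx i trivial
      obtain rfl : x = fun i => (n i : ℚ) := funext fun i => (hn i).symm
      exact h n

/-- The shift in the second variable, minus the identity. -/
def shift (m : ℚ) (P : MvPolynomial (Fin 2) ℚ) : MvPolynomial (Fin 2) ℚ :=
  MvPolynomial.aeval ![(X 0 : MvPolynomial (Fin 2) ℚ), X 1 + C m] P - P

theorem eval_shift (m : ℚ) (P : MvPolynomial (Fin 2) ℚ) (a b : ℚ) :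
    eval ![a, b] (shift m P) = eval ![a, b + m] P - eval ![a, b] P := by
  rw [shift, map_sub, Snapper.eval_aeval, show (fun i => eval ![a, b]
    ((![X 0, X 1 + C m] : Fin 2 → MvPolynomial (Fin 2) ℚ) i)) = ![a, b + m] from
    funext fun i => by fin_cases i <;> simp]

theorem shift_add (m : ℚ) (P Q : MvPolynomial (Fin 2) ℚ) : shift m (P + Q) = shift m P + shift m Q := by
  rw [shift, shift, shift, map_add]; ring

theorem coeff_shift_monomial (m : ℚ) (a b i j : ℕ) (c : ℚ) (h : a + b ≤ i + j + 1) :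
    coeff (idx i j) (shift m (monomial (idx a b) c)) =
      if a = i ∧ b = j + 1 then c * m * (j + 1 : ℕ) else 0 := by
  classical
  have hm : monomial (idx a b) c = C c * X 0 ^ a * X 1 ^ b := by
    rw [idx, ← mul_one (C c), X_pow_eq_monomial, X_pow_eq_monomial, mul_one, C_mul_monomial, mul_one, monomial_mul,
      mul_one]
  have hsum : shift m (monomial (idx a b) c) =
      ∑ l ∈ range b, monomial (idx a l) (c * m ^ (b - l) * (b.choose l : ℕ)) := by
    rw [shift, hm, map_mul, map_mul, map_pow, map_pow, aeval_C, aeval_X, aeval_X]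
    simp only [algebraMap_eq, Matrix.cons_val_zero, Matrix.cons_val_one, Matrix.cons_val_fin_one]
    rw [add_pow, sum_range_succ, Nat.choose_self, Nat.sub_self, pow_zero, mul_one, Nat.cast_one, mul_one, mul_add,
      add_sub_cancel_right, mul_sum]
    refine sum_congr rfl fun l _ => ?_
    rw [idx, ← C_pow, ← map_natCast (C : ℚ →+* MvPolynomial (Fin 2) ℚ), X_pow_eq_monomial, X_pow_eq_monomial]
    simp only [C_mul_monomial, monomial_mul, mul_one]
    rw [mul_comm (monomial _ _) (C (m ^ _)), C_mul_monomial, mul_comm (monomial _ _) (C _), C_mul_monomial,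
      monomial_mul]
    congr 1
    ring
  rw [hsum, coeff_sum]
  simp only [coeff_monomial]
  have hiff : ∀ l, (idx a l = idx i j) ↔ (a = i ∧ l = j) := fun l =>
    ⟨fun e => ⟨by simpa using congrArg (fun f : Fin 2 →₀ ℕ => f 0) e,
      by simpa using congrArg (fun f : Fin 2 →₀ ℕ => f 1) e⟩, fun e => by rw [e.1, e.2]⟩
  simp only [hiff]
  by_cases hai : a = i
  · simp only [hai, true_and]
    rw [sum_ite_eq' (range b) j]
    by_cases hbj : b = j + 1
    · subst hbj
      rw [if_pos (mem_range.2 j.lt_succ_self), if_pos rfl, Nat.choose_succ_self_right, Nat.add_sub_cancel_left,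
        pow_one]
    · rw [if_neg hbj, if_neg (fun hj => ?_)]
      have := mem_range.1 hj
      omega
  · simp [hai]

theorem coeff_shift_monomial' (m : ℚ) (α : Fin 2 →₀ ℕ) (i j : ℕ) (c : ℚ) (h : α 0 + α 1 ≤ i + j + 1) :
    coeff (idx i j) (shift m (monomial α c)) = if α = idx i (j + 1) then c * m * (j + 1 : ℕ) else 0 := by
  have h1 := coeff_shift_monomial m (α 0) (α 1) i j c h
  rw [← eq_idx] at h1
  rw [h1]
  exact if_congr ⟨fun e => by rw [eq_idx α, e.1, e.2], fun e => by subst e; simp⟩ rfl rfl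

/-- The shift lowers the degree. -/
theorem cf_shift {d : ℕ} (m : ℚ) {P : MvPolynomial (Fin 2) ℚ} (h : DegLt (d + 2) P) {i j : ℕ} (hij : i + j = d) :
    cf (shift m P) i j = (m : ℝ) * ((j + 1 : ℕ) : ℝ) * cf P i (j + 1) := by
  classical
  have hP : shift m P = ∑ α ∈ P.support, shift m (monomial α (coeff α P)) := by
    simp only [shift, sum_sub_distrib, ← map_sum, ← P.as_sum]
  rw [cf, hP, coeff_sum, sum_congr rfl fun α hα => coeff_shift_monomial' m α i j (coeff α P) (by
    have h1 := h α hα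
    rw [sum_idx] at h1
    omega)]
  rw [sum_ite_eq', cf]
  split_ifs with hne
  · push_cast; ring
  · rw [notMem_support_iff.1 hne]; simp

/-- The shift differentiates the top part. -/
theorem T_shift {d : ℕ} (m : ℚ) {P : MvPolynomial (Fin 2) ℚ} (h : DegLt (d + 2) P) (x y : ℝ) :
    T d (shift m P) x y = (m : ℝ) * Ty (d + 1) P x y := by
  have key : ∀ i j, i + j = d → cf (shift m P) i j = (m : ℝ) * ((j + 1 : ℕ) : ℝ) * cf P i (j + 1) :=
    fun i j hij => cf_shift m h hij
  rw [T, Ty, mul_sum, sum_range_succ' _ (d + 1)]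
  simp only [Nat.cast_zero, mul_zero, zero_mul, add_zero]
  refine sum_congr rfl fun j hj => ?_
  have hjd : j ≤ d := Nat.lt_succ_iff.1 (mem_range.1 hj)
  rw [key _ _ (Nat.sub_add_cancel hjd), show d + 1 - (j + 1) = d - j by omega, Nat.add_sub_cancel]
  ring

/-- The substitution `(a, b) ↦ (a + q b, p b)`. -/
def subst (q p : ℚ) (P : MvPolynomial (Fin 2) ℚ) : MvPolynomial (Fin 2) ℚ :=
  MvPolynomial.aeval ![(X 0 : MvPolynomial (Fin 2) ℚ) + C q * X 1, C p * X 1] P

theorem eval_subst (q p : ℚ) (P : MvPolynomial (Fin 2) ℚ) (a b : ℚ) :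
    eval ![a, b] (subst q p P) = eval ![a + q * b, p * b] P := by
  rw [subst, Snapper.eval_aeval, show (fun i => eval ![a, b]
    ((![X 0 + C q * X 1, C p * X 1] : Fin 2 → MvPolynomial (Fin 2) ℚ) i)) = ![a + q * b, p * b] from
    funext fun i => by fin_cases i <;> simp]

theorem coeff_subst_monomial (q p : ℚ) (a b e : ℕ) (c : ℚ) :
    coeff (idx 1 e) (subst q p (monomial (idx a b) c)) =
      if a + b = e + 1 then c * a * q ^ (a - 1) * p ^ b else 0 := by
  classical
  have hm : monomial (idx a b) c = C c * X 0 ^ a * X 1 ^ b := by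
    rw [idx, ← mul_one (C c), X_pow_eq_monomial, X_pow_eq_monomial, mul_one, C_mul_monomial, mul_one, monomial_mul,
      mul_one]
  have hsum : subst q p (monomial (idx a b) c) =
      ∑ l ∈ range (a + 1), monomial (idx l (a - l + b)) (c * q ^ (a - l) * p ^ b * (a.choose l : ℕ)) := by
    rw [subst, hm, map_mul, map_mul, map_pow, map_pow, aeval_C, aeval_X, aeval_X]
    simp only [algebraMap_eq, Matrix.cons_val_zero, Matrix.cons_val_one, Matrix.cons_val_fin_one]
    rw [add_pow, mul_sum, sum_mul]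
    refine sum_congr rfl fun l _ => ?_
    rw [mul_pow, mul_pow, ← C_pow, ← C_pow, ← map_natCast (C : ℚ →+* MvPolynomial (Fin 2) ℚ)]
    have hxy : monomial (idx l (a - l + b)) (c * q ^ (a - l) * p ^ b * (a.choose l : ℕ)) =
        C (c * q ^ (a - l) * p ^ b * (a.choose l : ℕ)) * X 0 ^ l * X 1 ^ (a - l + b) := by
      rw [idx, X_pow_eq_monomial, X_pow_eq_monomial, C_mul_monomial, mul_one, monomial_mul, mul_one]
    rw [hxy, pow_add]
    simp only [C_mul]
    ring
  rw [hsum, coeff_sum]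
  simp only [coeff_monomial]
  have hiff : ∀ l, (idx l (a - l + b) = idx 1 e) ↔ (l = 1 ∧ a - l + b = e) := fun l =>
    ⟨fun h => ⟨by simpa using congrArg (fun f : Fin 2 →₀ ℕ => f 0) h,
      by simpa using congrArg (fun f : Fin 2 →₀ ℕ => f 1) h⟩, fun h => by rw [← h.1, ← h.2]⟩
  simp only [hiff]
  rcases Nat.eq_zero_or_pos a with rfl | ha
  · rw [sum_eq_zero fun l hl => if_neg fun h => by have := mem_range.1 hl; omega]
    simp
  rw [sum_eq_single 1 (fun l _ hne => if_neg fun h => hne h.1) (fun h => absurd (mem_range.2 (by omega)) h)]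
  by_cases he : a + b = e + 1
  · rw [if_pos he, if_pos ⟨rfl, by omega⟩, Nat.choose_one_right]
    ring
  · rw [if_neg he, if_neg fun h => he (by omega)]

theorem cf_subst {d : ℕ} (q p : ℚ) (P : MvPolynomial (Fin 2) ℚ) :
    cf (subst q p P) 1 d = Tx (d + 1) P (q : ℝ) (p : ℝ) := by
  classical
  have hP : subst q p P = ∑ α ∈ P.support, subst q p (monomial α (coeff α P)) := by
    simp only [subst, ← map_sum, ← P.as_sum]
  have hc : ∀ α : Fin 2 →₀ ℕ, coeff (idx 1 d) (subst q p (monomial α (coeff α P))) =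
      if α 0 + α 1 = d + 1 then coeff α P * (α 0 : ℕ) * q ^ (α 0 - 1) * p ^ (α 1) else 0 := fun α => by
    have h1 := coeff_subst_monomial q p (α 0) (α 1) d (coeff α P)
    rwa [← eq_idx] at h1
  rw [cf, hP, coeff_sum, sum_congr rfl fun α _ => hc α, ← sum_filter]
  have hmap : Tx (d + 1) P (q : ℝ) (p : ℝ) =
      ∑ α ∈ (range (d + 2)).image (fun j => idx (d + 1 - j) j),
        ((coeff α P * (α 0 : ℕ) * q ^ (α 0 - 1) * p ^ (α 1) : ℚ) : ℝ) := by
    rw [sum_image fun j _ j' _ e => by simpa using congrArg (fun f : Fin 2 →₀ ℕ => f 1) e, Tx]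
    refine sum_congr rfl fun j _ => ?_
    rw [idx_zero, idx_one, cf]
    push_cast
    ring
  rw [hmap, Rat.cast_sum]
  refine sum_subset (fun α hα => ?_) fun α hα hne => ?_
  · rw [mem_filter] at hα
    refine mem_image.2 ⟨α 1, mem_range.2 (by omega), ?_⟩
    rw [show d + 1 - α 1 = α 0 by omega, ← eq_idx]
  · obtain ⟨j, hj, rfl⟩ := mem_image.1 hα
    rw [mem_filter, idx_zero, idx_one, not_and_or, notMem_support_iff] at hne
    rcases hne with h | h
    · simp [h]
    · exact absurd (by have := mem_range.1 hj; omega) h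

theorem subst_degLt {d : ℕ} (q p : ℚ) {P : MvPolynomial (Fin 2) ℚ} (h : DegLt d P) : DegLt d (subst q p P) := by
  refine h.aeval _ fun i => ?_
  fin_cases i
  · refine (totalDegree_add _ _).trans (max_le (le_of_eq (totalDegree_X _)) ?_)
    exact (totalDegree_mul _ _).trans (by rw [totalDegree_C, totalDegree_X])
  · exact (totalDegree_mul _ _).trans (by rw [totalDegree_C, totalDegree_X])

/-- The restriction to a line through the origin. -/
def line (q p : ℚ) (P : MvPolynomial (Fin 2) ℚ) : Polynomial ℚ :=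
  MvPolynomial.aeval ![Polynomial.C q * Polynomial.X, Polynomial.C p * Polynomial.X] P

theorem eval_line (q p : ℚ) (P : MvPolynomial (Fin 2) ℚ) (m : ℚ) :
    (line q p P).eval m = eval ![q * m, p * m] P := by
  rw [line, ← Polynomial.coe_evalRingHom]
  induction P using MvPolynomial.induction_on with
  | C a => simp
  | add f g hf hg => simp only [map_add, hf, hg]
  | mul_X f i hf =>
    simp only [map_mul, hf, aeval_X, eval_X]
    fin_cases i <;> simp

theorem line_coeff (q p : ℚ) {d : ℕ} {P : MvPolynomial (Fin 2) ℚ} (h : DegLt (d + 1) P) :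
    (line q p P).natDegree ≤ d ∧ (((line q p P).coeff d : ℚ) : ℝ) = T d P (q : ℝ) (p : ℝ) := by
  classical
  have hP : line q p P = ∑ α ∈ P.support, Polynomial.C (coeff α P * q ^ (α 0) * p ^ (α 1)) * Polynomial.X ^ (α 0 + α 1) := by
    rw [line]
    conv_lhs => rw [P.as_sum, map_sum]
    refine sum_congr rfl fun α _ => ?_
    rw [aeval_monomial, Finsupp.prod_fintype _ _ (fun _ => pow_zero _), Fin.prod_univ_two, Polynomial.algebraMap_eq]
    simp only [Matrix.cons_val_zero, Matrix.cons_val_one, Matrix.cons_val_fin_one, Polynomial.C_mul,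
      Polynomial.C_pow, mul_pow, pow_add]
    ring
  have hdeg : ∀ α ∈ P.support, α 0 + α 1 ≤ d := fun α hα => by
    have h1 := h α hα
    rw [sum_idx] at h1
    omega
  refine ⟨?_, ?_⟩
  · rw [hP]
    exact Polynomial.natDegree_sum_le_of_forall_le _ _ fun α hα =>
      (Polynomial.natDegree_C_mul_X_pow_le _ _).trans (hdeg α hα)
  rw [hP, Polynomial.finsetSum_coeff]
  simp only [Polynomial.coeff_C_mul_X_pow]
  rw [← sum_filter, Rat.cast_sum]
  have hmap : T d P (q : ℝ) (p : ℝ) =
      ∑ α ∈ (range (d + 1)).image (fun j => idx (d - j) j), ((coeff α P * q ^ (α 0) * p ^ (α 1) : ℚ) : ℝ) := by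
    rw [sum_image fun j _ j' _ e => by simpa using congrArg (fun f : Fin 2 →₀ ℕ => f 1) e, T]
    refine sum_congr rfl fun j _ => ?_
    rw [idx_zero, idx_one, cf]
    push_cast
    ring
  rw [hmap]
  refine sum_subset (fun α hα => ?_) fun α hα hne => ?_
  · rw [mem_filter] at hα
    refine mem_image.2 ⟨α 1, mem_range.2 (by omega), ?_⟩
    rw [show d - α 1 = α 0 by omega, ← eq_idx]
  · obtain ⟨j, hj, rfl⟩ := mem_image.1 hα
    rw [mem_filter, idx_zero, idx_one, not_and_or, notMem_support_iff] at hne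
    rcases hne with h | h
    · simp [h]
    · exact absurd (by have := mem_range.1 hj; omega) h

/-- The argument of Kleiman: positivity on the positive axis. -/
theorem T_pos {d : ℕ} (hd : 0 < d) (P : MvPolynomial (Fin 2) ℚ) (h0 : 0 < T d P 0 1)
    (hy : ∀ t : ℝ, 0 < t → 0 < Ty d P 1 t)
    (hx : ∀ q p : ℕ, 0 < q → 0 < p → (∀ t : ℝ, (p : ℝ) / q ≤ t → 0 < T d P 1 t) → 0 ≤ Tx d P (q : ℝ) (p : ℝ)) :
    ∀ t : ℝ, 0 < t → 0 < T d P 1 t := by
  intro t₀ ht₀
  by_contra hneg
  rw [not_lt] at hneg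
  -- the values near infinity are positive
  have hev : ∃ B : ℝ, ∀ t, B ≤ t → 0 < T d P 1 t := by
    have hc : ContinuousAt (fun s : ℝ => T d P s 1) 0 := by
      apply Continuous.continuousAt
      unfold T; fun_prop
    obtain ⟨ε, hε, hball⟩ := Metric.eventually_nhds_iff.1 (hc.eventually (lt_mem_nhds h0))
    refine ⟨2 / ε, fun t ht => ?_⟩
    have htpos : 0 < t := lt_of_lt_of_le (by positivity) ht
    have h1 : 0 < T d P (1 / t) 1 := hball (by
      rw [Real.dist_eq, sub_zero, abs_of_pos (by positivity), div_lt_iff₀ htpos]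
      rw [div_le_iff₀ hε] at ht
      linarith)
    have h2 := T_smul d P t (1 / t) 1
    rw [mul_one_div_cancel htpos.ne', mul_one] at h2
    rw [h2]
    positivity
  obtain ⟨B, hB⟩ := hev
  let S := {t : ℝ | t₀ ≤ t ∧ T d P 1 t ≤ 0}
  have hSb : BddAbove S := ⟨B, fun t ht => le_of_not_gt fun h => absurd ht.2 (not_le.2 (hB t h.le))⟩
  have hSc : IsClosed S := (isClosed_Ici.inter (isClosed_le (continuous_T d P) continuous_const) :
    IsClosed (Set.Ici t₀ ∩ {t : ℝ | T d P 1 t ≤ 0}))
  obtain ⟨hs, hneg'⟩ : sSup S ∈ S := hSc.csSup_mem ⟨t₀, le_rfl, hneg⟩ hSb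
  set s := sSup S
  have hspos : 0 < s := lt_of_lt_of_le ht₀ hs
  have habove : ∀ t, s < t → 0 < T d P 1 t := fun t ht => lt_of_not_ge fun h =>
    absurd (le_csSup hSb ⟨hs.trans ht.le, h⟩) (not_le.2 ht)
  have hxr : ∀ r : ℚ, s < (r : ℝ) → 0 ≤ Tx d P 1 (r : ℝ) := fun r hr => by
    have hr0 : (0 : ℚ) < r := by exact_mod_cast hspos.trans hr
    have hcast : (r : ℝ) = (r.num.toNat : ℝ) / (r.den : ℝ) := by
      rw [Rat.cast_def]
      congr 1
      exact_mod_cast (Int.toNat_of_nonneg (Rat.num_pos.2 hr0).le).symm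
    have h := hx r.den r.num.toNat r.den_pos (by have := Rat.num_pos.2 hr0; omega) fun t ht =>
      habove t (hr.trans_le (hcast.le.trans ht))
    rw [show ((r.den : ℝ)) = (r.den : ℝ) * 1 from (mul_one _).symm, show ((r.num.toNat : ℕ) : ℝ) = (r.den : ℝ) * (r : ℝ) by
      rw [hcast, mul_div_cancel₀]; exact_mod_cast r.den_pos.ne', Tx_smul] at h
    exact nonneg_of_mul_nonneg_right h (pow_pos (by exact_mod_cast r.den_pos) _)
  have hxs : 0 ≤ Tx d P 1 s := by
    by_contra hlt
    obtain ⟨ε, hε, hball⟩ := Metric.eventually_nhds_iff.1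
      ((continuous_Tx d P).continuousAt.eventually (gt_mem_nhds (not_le.1 hlt)))
    obtain ⟨r, hr1, hr2⟩ := exists_rat_btwn (lt_add_of_pos_right s hε)
    exact absurd (hxr r hr1) (not_le.2 (hball (by rw [Real.dist_eq, abs_of_pos] <;> linarith)))
  have he := euler d P 1 s
  have hys := hy s hspos
  have hd' : (0 : ℝ) < d := by exact_mod_cast hd
  nlinarith [mul_pos hspos hys]

end Groth.Agent.NefPoly
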