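import Groth.Agent.Nakai.Coeff
import Groth.Agent.Nakai.NefPoly
import Groth.Agent.QCoh.DevissageP
import Groth.Agent.Snapper.Multi
import Groth.Agent.H23.LocFinCoprod

/-!
Numerically effective modules and ample perturbations, after Kleiman.
-/

set_option autoImplicit false
set_option linter.style.haveILetI false
set_option linter.unusedSectionVars false
set_option backward.isDefEq.respectTransparency false
set_option backward.isDefEq.respectTransparency.types false
set_option maxHeartbeats 1000000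

universe u

open CategoryTheory CategoryTheory.Limits AlgebraicGeometry TopologicalSpace Opposite
open Groth.Agent.H23 Groth.Agent.H23.TrivBasic Groth.Agent.H23.PicMul
open Groth.Agent.NefPoly
open Groth.Agent.Snapper (DegLt)

noncomputable section

namespace Groth.Agent.NefCrit

attribute [local instance] PicMul.clMonoid

variable (k : Type u) [Field k] {X : Scheme.{u}} [X.Over (Spec (CommRingCat.of k))]
  [IsProper (X ↘ Spec (CommRingCat.of k))]

/-- The degree is nonnegative on the integral curves. -/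
def NefC (L : X.Modules) : Prop :=
  ∀ (Y : Scheme.{u}) (i : Y ⟶ X) [IsClosedImmersion i], IsIntegral Y → topologicalKrullDim Y = 1 →
    0 ≤ Pic13.curveDeg k (i ≫ (X ↘ Spec (CommRingCat.of k))) ((Scheme.Modules.pullback i).obj L)

/-- The polynomial of the Euler characteristics of the twists. -/
def HasP (L A F : X.Modules) (P : MvPolynomial (Fin 2) ℚ) : Prop :=
  ∀ n : Fin 2 → ℕ, Snapper.χs k ![L, A] F n = MvPolynomial.eval (fun i => (n i : ℚ)) P

variable {k}

theorem inv_two {L A : X.Modules} (hL : PicF.IsInvertible L) (hA : PicF.IsInvertible A) :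
    ∀ i, PicF.IsInvertible (![L, A] i) := fun i => by
  fin_cases i
  · exact hL
  · exact hA

theorem cl_two (L A F : X.Modules) (n : Fin 2 → ℕ) :
    PicF.cl (Curv2.tensorPows F 2 ![L, A] n) = PicF.cl F * PicF.cl L ^ n 0 * PicF.cl A ^ n 1 := by
  show PicF.cl (CohB1.tensorMod (CohB1.tensorMod F (CohB1.tensorPow L (n 0))) (CohB1.tensorPow A (n 1))) = _
  rw [cl_tensor, cl_tensor, cl_tensorPow, cl_tensorPow]

theorem cast_two (n : Fin 2 → ℕ) : (fun i => (n i : ℚ)) = ![(n 0 : ℚ), (n 1 : ℚ)] :=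
  funext fun i => by fin_cases i <;> rfl

theorem euler_of_cl {L A : X.Modules} {P : MvPolynomial (Fin 2) ℚ}
    (hP : HasP k L A (Coh.structureModule X) P) {N : X.Modules} {a b : ℕ}
    (h : PicF.cl N = PicF.cl L ^ a * PicF.cl A ^ b) :
    (Curv2.euler k X N : ℚ) = MvPolynomial.eval ![(a : ℚ), (b : ℚ)] P := by
  have e := hP ![a, b]
  rw [cast_two] at e
  refine Eq.trans ?_ e
  obtain ⟨φ⟩ := cl_eq_iff.1 (show PicF.cl N = PicF.cl (Curv2.tensorPows (Coh.structureModule X) 2 ![L, A] ![a, b]) by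
    rw [cl_two, h, ← PicMul.one_def, one_mul]
    rfl)
  exact congrArg Int.cast (CurveCohLib.euler_congr (k := k) φ)

theorem hasP_congr {L A F G : X.Modules} (e : F ≅ G) {P : MvPolynomial (Fin 2) ℚ} (h : HasP k L A F P) :
    HasP k L A G P := fun n => (Snapper.χs_congr k e n).symm.trans (h n)

theorem hasP_unique {L A F : X.Modules} {P Q : MvPolynomial (Fin 2) ℚ} (h : HasP k L A F P) (h' : HasP k L A F Q) :
    P = Q := poly_ext fun n => (h n).symm.trans (h' n)

theorem hasP_add {L A : X.Modules} (hL : PicF.IsInvertible L) (hA : PicF.IsInvertible A)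
    {S : ShortComplex X.Modules} (hS : S.ShortExact)
    (h1 : Coh.IsCoh S.X₁) (h2 : Coh.IsCoh S.X₂) (h3 : Coh.IsCoh S.X₃) {P Q : MvPolynomial (Fin 2) ℚ}
    (hP : HasP k L A S.X₁ P) (hQ : HasP k L A S.X₃ Q) : HasP k L A S.X₂ (P + Q) := fun n => by
  rw [map_add, ← hP n, ← hQ n, Snapper.χs_add k (inv_two hL hA) hS h1 h2 h3]
  rfl

/-- The polynomial exists, of degree bounded by the dimension of the support. -/
theorem exists_hasP {L A : X.Modules} (hL : PicF.IsInvertible L) (hA : PicF.IsInvertible A) {F : X.Modules}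
    (hF : Coh.IsCoh F) (d : ℕ)
    (hd : ∀ x ∈ CohB1.support F, VarDim.deg (X ↘ Spec (CommRingCat.of k)) x < d) :
    ∃ P, DegLt d P ∧ HasP k L A F P := by
  haveI := CurveCohLib.isNoetherian_of_proper (k := k) (X := X)
  refine Snapper.isMPolyLt_of_dim_lt k (inv_two hL hA) d ⟨_, QCoh.isClosed_support_of_isFT hF.1 hF.2⟩ ?_ F hF subset_rfl
  show topologicalKrullDim (CohB1.support F) < _
  rw [VarDim.topologicalKrullDim_set_eq_iSup_deg (X ↘ Spec (CommRingCat.of k))
    (QCoh.isClosed_support_of_isFT hF.1 hF.2)]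
  rcases Nat.eq_zero_or_pos d with rfl | hd0
  · haveI : IsEmpty (CohB1.support F) := ⟨fun z => absurd (hd z.1 z.2) (Nat.not_lt_zero _)⟩
    rw [iSup_of_empty]
    exact WithBot.bot_lt_coe _
  obtain ⟨e, rfl⟩ := Nat.exists_eq_add_of_le' hd0
  refine lt_of_le_of_lt (b := ((e : ℕ∞) : WithBot ℕ∞)) (iSup_le fun z => ?_) ?_
  · have := hd z.1 z.2
    exact_mod_cast (show VarDim.deg (X ↘ Spec (CommRingCat.of k)) z.1 ≤ e by omega)
  · exact_mod_cast Nat.lt_succ_self e

/-- The degree of a point of a closed subscheme. -/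
theorem deg_closed {Z : Scheme.{u}} (i : Z ⟶ X) [IsClosedImmersion i] (z : Z) :
    VarDim.deg (i ≫ (X ↘ Spec (CommRingCat.of k))) z = VarDim.deg (X ↘ Spec (CommRingCat.of k)) (i z) := by
  have h3 := VarDim.tdeg_comp i (X ↘ Spec (CommRingCat.of k)) z
  rw [VarDim.rdeg_preimmersion, add_zero, ← VarDim.deg_eq_tdeg, ← VarDim.deg_eq_tdeg] at h3
  exact_mod_cast h3

theorem deg_le_generic [IsIntegral X] (x : X) :
    VarDim.deg (X ↘ Spec (CommRingCat.of k)) x ≤ VarDim.deg (X ↘ Spec (CommRingCat.of k)) (genericPoint X) :=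
  VarDim.deg_le_of_specializes _ (genericPoint_specializes x)

theorem deg_lt_of_mem_closure {ξ x : X} (hx : x ∈ closure {ξ}) (hne : x ≠ ξ) :
    VarDim.deg (X ↘ Spec (CommRingCat.of k)) x < VarDim.deg (X ↘ Spec (CommRingCat.of k)) ξ := by
  have hsp : ξ ⤳ x := specializes_iff_mem_closure.2 hx
  by_contra hle
  exact hne (VarDim.eq_of_specializes_of_deg_le (X ↘ Spec (CommRingCat.of k)) hsp (not_lt.1 hle)).symm

theorem cl_pull_tensor {Z : Scheme.{u}} (i : Z ⟶ X) (L A : X.Modules) (a b : ℕ) :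
    PicF.cl ((Scheme.Modules.pullback i).obj (CohB1.tensorMod (CohB1.tensorPow L a) (CohB1.tensorPow A b))) =
      PicF.cl ((Scheme.Modules.pullback i).obj L) ^ a * PicF.cl ((Scheme.Modules.pullback i).obj A) ^ b := by
  have h1 : ∀ (M : X.Modules) (n : ℕ), PicF.pullCl i (PicF.cl (CohB1.tensorPow M n)) =
      PicF.cl ((Scheme.Modules.pullback i).obj M) ^ n := fun M n => by
    rw [← cl_tensorPow]
    exact cl_eq_iff.2 (AmpleVan.RelVanish.pullback_tensorPow i M n)
  show PicF.pullCl i (PicF.cl _) = _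
  rw [cl_tensor, pullCl_mul, h1, h1]

/-- Twists of a closed subscheme. -/
theorem χs_push {L A : X.Modules} (hL : PicF.IsInvertible L) (hA : PicF.IsInvertible A) {Z : Scheme.{u}}
    (i : Z ⟶ X) [IsClosedImmersion i] (n : Fin 2 → ℕ) :
    letI : Z.Over (Spec (CommRingCat.of k)) := ⟨i ≫ (X ↘ (Spec (CommRingCat.of k)))⟩
    Snapper.χs k ![L, A] ((Coh.push i).obj (Coh.structureModule Z)) n =
      Snapper.χs k ![(Scheme.Modules.pullback i).obj L, (Scheme.Modules.pullback i).obj A] (Coh.structureModule Z) n := by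
  letI : Z.Over (Spec (CommRingCat.of k)) := ⟨i ≫ (X ↘ (Spec (CommRingCat.of k)))⟩
  let G := CohB1.tensorMod (CohB1.tensorPow L (n 0)) (CohB1.tensorPow A (n 1))
  have hG : PicF.IsInvertible G :=
    InvX.isInvertible_tensorMod (InvX.isInvertible_tensorPow hL _) (InvX.isInvertible_tensorPow hA _)
  obtain ⟨e₁⟩ := cl_eq_iff.1 (show PicF.cl (Curv2.tensorPows ((Coh.push i).obj (Coh.structureModule Z)) 2 ![L, A] n) =
      PicF.cl (CohB1.tensorMod ((Coh.push i).obj (Coh.structureModule Z)) G) by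
    rw [cl_two, cl_tensor, cl_tensor, cl_tensorPow, cl_tensorPow, mul_assoc])
  obtain ⟨e₂⟩ := AmpleVan.FiniteSurj.nonempty_push_twist i (Coh.structureModule Z) hG
  obtain ⟨e₃⟩ := cl_eq_iff.1 (show PicF.cl (CohB1.tensorMod (Coh.structureModule Z) ((Scheme.Modules.pullback i).obj G)) =
      PicF.cl (Curv2.tensorPows (Coh.structureModule Z) 2
        ![(Scheme.Modules.pullback i).obj L, (Scheme.Modules.pullback i).obj A] n) by
    rw [cl_two, cl_tensor, cl_pull_tensor, mul_assoc])
  haveI := CurveCohLib.isNoetherian_of_proper (k := k) (X := X)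
  haveI : IsLocallyNoetherian Z := LocallyOfFiniteType.isLocallyNoetherian i
  show ((Curv2.euler k X _ : ℤ) : ℚ) = ((Curv2.euler k Z _ : ℤ) : ℚ)
  rw [Int.cast_inj]
  refine (CurveCohLib.euler_congr (k := k) (e₁ ≪≫ e₂ ≪≫ (Scheme.Modules.pushforward i).mapIso e₃)).trans
    (finsum_congr fun q => ?_)
  obtain ⟨l⟩ := PnCoh.exists_linearEquiv_push k i rfl ((QCoh.isQCoh_iff_iso e₃).1 (AmpleVan.isCoh_tensor
    QCoh.isCoh_structureModule' (AmpleVan.isCoh_invertible (PicClLib.isInvertible_pullback i hG))).1) q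
  rw [l.finrank_eq]

theorem hasP_push_iff {L A : X.Modules} (hL : PicF.IsInvertible L) (hA : PicF.IsInvertible A) {Z : Scheme.{u}}
    (i : Z ⟶ X) [IsClosedImmersion i] (P : MvPolynomial (Fin 2) ℚ) :
    letI : Z.Over (Spec (CommRingCat.of k)) := ⟨i ≫ (X ↘ (Spec (CommRingCat.of k)))⟩
    HasP k L A ((Coh.push i).obj (Coh.structureModule Z)) P ↔
      HasP k ((Scheme.Modules.pullback i).obj L) ((Scheme.Modules.pullback i).obj A) (Coh.structureModule Z) P :=
  ⟨fun h n => (χs_push hL hA i n).symm.trans (h n), fun h n => (χs_push hL hA i n).trans (h n)⟩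

/-- Positivity of an additive function of the top part by dévissage, on a set containing the support. -/
theorem devissage_on {L A : X.Modules} (hL : PicF.IsInvertible L) (hA : PicF.IsInvertible A)
    (φ : MvPolynomial (Fin 2) ℚ → ℝ) (hadd : ∀ P Q, φ (P + Q) = φ P + φ Q) (d : ℕ)
    (hzero : ∀ P, DegLt d P → φ P = 0) (S₀ : Set X)
    (hpt : ∀ (Z : Scheme.{u}) (i : Z ⟶ X) [IsClosedImmersion i] [IsIntegral Z],
      VarDim.deg (X ↘ Spec (CommRingCat.of k)) (i (genericPoint Z)) = d → Set.range i ⊆ S₀ → ∀ P,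
        HasP k L A ((Coh.push i).obj (Coh.structureModule Z)) P → 0 ≤ φ P)
    {F : X.Modules} (hF : Coh.IsCoh F)
    (hS₀ : CohB1.support F ⊆ S₀) (hd : ∀ x ∈ CohB1.support F, VarDim.deg (X ↘ Spec (CommRingCat.of k)) x ≤ d)
    {P : MvPolynomial (Fin 2) ℚ} (hP : HasP k L A F P) :
    0 ≤ φ P ∧ ((∀ (Z : Scheme.{u}) (i : Z ⟶ X) [IsClosedImmersion i] [IsIntegral Z],
      VarDim.deg (X ↘ Spec (CommRingCat.of k)) (i (genericPoint Z)) = d → Set.range i ⊆ S₀ → ∀ P,
        HasP k L A ((Coh.push i).obj (Coh.structureModule Z)) P → 0 < φ P) →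
      (∃ x ∈ CohB1.support F, VarDim.deg (X ↘ Spec (CommRingCat.of k)) x = d) → 0 < φ P) := by
  haveI := CurveCohLib.isNoetherian_of_proper (k := k) (X := X)
  induction QCoh.filt_of_isCoh hF generalizing P with
  | @zero N h =>
    have hs := QCoh.support_eq_empty_of_isZero h hF.1
    refine ⟨le_of_eq (?_ : (0 : ℝ) = φ P), fun _ ⟨x, hx, _⟩ => absurd hx (by rw [hs]; exact fun h => h)⟩
    rw [hasP_unique hP (Q := 0) fun n => by rw [map_zero, Snapper.χs_eq_zero k (inv_two hL hA) hF hs n],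
      hzero 0 (Snapper.degLt_zero d)]
  | @step N M φ' _ _ hNc hMc hex ih =>
    obtain ⟨Z, i, hi, hZ, I, ι, hι, hI, hI0, ⟨e⟩⟩ := hex
    haveI := hi; haveI := hZ; haveI := hι
    have hc := QCoh.isCoh_cokernel hNc.1 hMc φ'
    have hS : (ShortComplex.mk φ' (cokernel.π φ') (cokernel.condition φ')).ShortExact :=
      .mk' (ShortComplex.exact_of_g_is_cokernel _ (cokernelIsCokernel φ')) ‹_› inferInstance
    have hSub : CohB1.support N ⊆ CohB1.support M := QCoh.mem_support_of_mono hNc.1 hMc.1 φ'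
    have hCs : CohB1.support (cokernel φ') ⊆ CohB1.support M := QCoh.support_of_epi hMc.1 hc.1 (cokernel.π φ')
    obtain ⟨PN, -, hPN⟩ := exists_hasP (k := k) hL hA hNc (d + 1) fun x hx => Nat.lt_succ_of_le (hd x (hSub hx))
    obtain ⟨PC, -, hPC⟩ := exists_hasP (k := k) hL hA hc (d + 1) fun x hx => Nat.lt_succ_of_le (hd x (hCs hx))
    obtain rfl := hasP_unique hP (hasP_add hL hA hS hNc hMc hc hPN hPC)
    obtain ⟨h1, h1'⟩ := ih hNc (hSub.trans hS₀) (fun x hx => hd x (hSub hx)) hPN
    let ξ := i (genericPoint Z)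
    have hsuppC : CohB1.support (cokernel φ') = closure {ξ} := by
      rw [QCoh.support_iso e hc.1, QCoh.support_push_ideal i ι hI hI0]
    have hξd : VarDim.deg (X ↘ Spec (CommRingCat.of k)) ξ ≤ d := hd ξ (hCs (hsuppC ▸ subset_closure rfl))
    rw [hadd]
    rcases lt_or_eq_of_le hξd with hlt | heq
    · obtain ⟨P', hP', hP'C⟩ := exists_hasP (k := k) hL hA hc d fun x hx => by
        have := VarDim.deg_le_of_specializes (X ↘ Spec (CommRingCat.of k)) (specializes_iff_mem_closure.2 (hsuppC.le hx))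
        omega
      rw [hasP_unique hPC hP'C, hzero _ hP', add_zero]
      refine ⟨h1, fun hpos ⟨x, hx, hxd⟩ => h1' hpos ⟨x, ?_, hxd⟩⟩
      rcases QCoh.support_subset_union hS hNc.1 hMc.1 hc.1 hx with h | h
      · exact h
      · have := VarDim.deg_le_of_specializes (X ↘ Spec (CommRingCat.of k)) (specializes_iff_mem_closure.2 (hsuppC.le h))
        exfalso
        omega
    · have hO := QCoh.isCoh_push_structure (X := X) i
      have hIc : Coh.IsCoh ((Coh.push i).obj I) :=
        QCoh.isCoh_of_mono e.inv hc (QCoh.isQCoh_pushforward i hI)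
      haveI : Mono ((Coh.push i).map ι) := Functor.map_mono _ ι
      have hR := QCoh.isCoh_cokernel hIc.1 hO ((Coh.push i).map ι)
      have hRs : CohB1.support (cokernel ((Coh.push i).map ι)) ⊆ closure {ξ} :=
        (QCoh.support_of_epi hO.1 hR.1 (cokernel.π _)).trans
          ((QCoh.support_push_subset i QCoh.isQCoh_structureModule).trans (QCoh.range_eq_closure i).le)
      obtain ⟨PR, hPR, hPR'⟩ := exists_hasP (k := k) hL hA hR d fun x hx => by
        have := deg_lt_of_mem_closure (k := k) (hRs hx)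
          (fun h => (QCoh.mem_support_push_ideal i ι hI hI0).2 (by rw [show i (genericPoint Z) = x from h.symm]; exact hx))
        omega
      have hPO := hasP_add hL hA (S := ShortComplex.mk ((Coh.push i).map ι) (cokernel.π _) (cokernel.condition _))
        (.mk' (ShortComplex.exact_of_g_is_cokernel _ (cokernelIsCokernel _)) ‹_› inferInstance)
        hIc hO hR (hasP_congr e hPC) hPR'
      have hr : Set.range i ⊆ S₀ := (QCoh.range_eq_closure i).le.trans (hsuppC.ge.trans (hCs.trans hS₀))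
      have key : φ (PC + PR) = φ PC := by rw [hadd, hzero _ hPR, add_zero]
      have h2 : 0 ≤ φ PC := key ▸ hpt Z i heq hr _ hPO
      exact ⟨add_nonneg h1 h2, fun hpos _ => add_pos_of_nonneg_of_pos h1 (key ▸ hpos Z i heq hr _ hPO)⟩

/-- Positivity of an additive function of the top part by dévissage. -/
theorem devissage_fun {L A : X.Modules} (hL : PicF.IsInvertible L) (hA : PicF.IsInvertible A)
    (φ : MvPolynomial (Fin 2) ℚ → ℝ) (hadd : ∀ P Q, φ (P + Q) = φ P + φ Q) (d : ℕ)
    (hzero : ∀ P, DegLt d P → φ P = 0)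
    (hpt : ∀ (Z : Scheme.{u}) (i : Z ⟶ X) [IsClosedImmersion i] [IsIntegral Z],
      VarDim.deg (X ↘ Spec (CommRingCat.of k)) (i (genericPoint Z)) = d → ∀ P,
        HasP k L A ((Coh.push i).obj (Coh.structureModule Z)) P → 0 ≤ φ P)
    {F : X.Modules} (hF : Coh.IsCoh F)
    (hd : ∀ x ∈ CohB1.support F, VarDim.deg (X ↘ Spec (CommRingCat.of k)) x ≤ d)
    {P : MvPolynomial (Fin 2) ℚ} (hP : HasP k L A F P) :
    0 ≤ φ P ∧ ((∀ (Z : Scheme.{u}) (i : Z ⟶ X) [IsClosedImmersion i] [IsIntegral Z],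
      VarDim.deg (X ↘ Spec (CommRingCat.of k)) (i (genericPoint Z)) = d → ∀ P,
        HasP k L A ((Coh.push i).obj (Coh.structureModule Z)) P → 0 < φ P) →
      (∃ x ∈ CohB1.support F, VarDim.deg (X ↘ Spec (CommRingCat.of k)) x = d) → 0 < φ P) :=
  ⟨(devissage_on hL hA φ hadd d hzero Set.univ (fun Z i _ _ h _ => hpt Z i h) hF (Set.subset_univ _) hd hP).1,
    fun hpos => (devissage_on hL hA φ hadd d hzero Set.univ (fun Z i _ _ h _ => hpt Z i h) hF (Set.subset_univ _) hd hP).2
      fun Z i _ _ h _ => hpos Z i h⟩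

/-- A point outside the locus of a section carries the cokernel. -/
theorem mem_support_cokernel {L : X.Modules} (hL : PicF.IsInvertible L) (s : Γ(L, ⊤)) {x : X}
    (hx : x ∉ locus s) : x ∈ CohB1.support (cokernel (InvX.ofSect s)) := by
  intro hsub
  obtain ⟨U, hxU, e, he⟩ := InvX.exists_frame hL x
  obtain ⟨g, hg⟩ := he.exists_coord le_rfl (AModX.res L (le_top : U ≤ ⊤) s)
  rw [AModX.res_self] at hg
  let f := InvX.ofSect s
  let S := ShortComplex.mk f (cokernel.π f) (cokernel.condition f)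
  have hS : S.Exact := ShortComplex.exact_of_g_is_cokernel _ (cokernelIsCokernel f)
  have hex := (ShortComplex.moduleCat_exact_iff _).1 (hS.map (DerSch.stalkFunctor X x))
  haveI : Subsingleton ((cokernel f).presheaf.stalk x) := hsub
  obtain ⟨b, hb⟩ := hex (L.presheaf.germ U x hxU e)
    (Subsingleton.elim (α := ((cokernel f).presheaf.stalk x)) _ _)
  obtain ⟨W, hxW, r, rfl⟩ := TopCat.Presheaf.exists_germ_eq (Coh.structureModule X).presheaf (x := x) b
  let V := W ⊓ U
  have hxV : x ∈ V := ⟨hxW, hxU⟩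
  have h1 : LocFinCoprod.stk f x ((Coh.structureModule X).presheaf.germ W x hxW r) = L.presheaf.germ U x hxU e := hb
  rw [LocFinCoprod.stk_germ, InvX.app_eq_smul, InvX.one_ofSect, ← InvX.germ_res' (inf_le_left : V ≤ W) hxV,
    AModX.res_smul, AModX.res_res, ← AModX.res_res (le_top : U ≤ ⊤) (inf_le_right : V ≤ U), hg, AModX.res_smul,
    smul_smul, QCoh.germ_smul', InvX.germ_res' (inf_le_right : V ≤ U)] at h1
  have h2 := (he.germ_bijective hxU).1 (h1.trans (one_smul _ _).symm)
  have h3 : IsUnit (X.presheaf.germ V x hxV (AModX.resR (inf_le_right : V ≤ U) g)) :=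
    IsUnit.of_mul_eq_one_right _ (by rw [← map_mul]; exact h2)
  rw [InvX.germ_resR'] at h3
  exact hx ((locus_eq_basicOpen he hg).ge ((Scheme.mem_basicOpen _ _ _ hxU).2 h3)).1

/-- Cutting by a section of a power of the second module. -/
theorem exists_cut [IsIntegral X] {L M : X.Modules} (hL : PicF.IsInvertible L) (hM : CohB1.IsAmple M) {d : ℕ}
    (hd : VarDim.deg (X ↘ Spec (CommRingCat.of k)) (genericPoint X) = d + 1) {P : MvPolynomial (Fin 2) ℚ}
    (hP : HasP k L M (Coh.structureModule X) P) :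
    ∃ (m : ℕ) (Q : X.Modules), 0 < m ∧ Coh.IsCoh Q ∧ HasP k L M Q (shift (m : ℚ) P) ∧
      (∀ x ∈ CohB1.support Q, VarDim.deg (X ↘ Spec (CommRingCat.of k)) x ≤ d) ∧
      ∃ x ∈ CohB1.support Q, VarDim.deg (X ↘ Spec (CommRingCat.of k)) x = d := by
  haveI := CurveCohLib.isNoetherian_of_proper (k := k) (X := X)
  obtain ⟨c, -, hc⟩ := VarDim.exists_closed_specialization (X ↘ Spec (CommRingCat.of k)) (genericPoint X)
  have hne : genericPoint X ≠ c := fun h => by
    have h0 := DiagReg.deg_eq_zero (X ↘ Spec (CommRingCat.of k)) (h ▸ hc)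
    omega
  obtain ⟨m, hm, s, hs, hsc⟩ := CurveAmple.exists_section_vanishing k hM hc hne
  let N := CohB1.tensorPow M m
  have hN : PicF.IsInvertible N := InvX.isInvertible_tensorPow hM.1 m
  let f := InvX.ofSect s
  haveI := CurveAmple.mono_ofSect hN hs
  have hNc := AmpleVan.isCoh_invertible hN
  have hOc : Coh.IsCoh (Coh.structureModule X) := QCoh.isCoh_structureModule'
  have hQ : Coh.IsCoh (cokernel f) := QCoh.isCoh_cokernel hOc.1 hNc f
  have hgen : genericPoint X ∈ locus s := by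
    obtain ⟨z, hz⟩ := (Opens.ne_bot_iff_nonempty _).1 (locus_ne_bot hN hs)
    exact (genericPoint_specializes z).mem_open (locus s).isOpen hz
  have hQd : ∀ x ∈ CohB1.support (cokernel f), VarDim.deg (X ↘ Spec (CommRingCat.of k)) x < d + 1 := fun x hx => by
    have h := deg_lt_of_mem_closure (k := k) (ξ := genericPoint X) (x := x)
      (specializes_iff_mem_closure.1 (genericPoint_specializes x))
      (fun e => CurveAmple.support_cokernel_subset s hx (e ▸ hgen))
    omega
  refine ⟨m, cokernel f, hm, hQ, ?_, fun x hx => Nat.lt_succ_iff.1 (hQd x hx), ?_⟩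
  · intro n
    have hS : (ShortComplex.mk f (cokernel.π f) (cokernel.condition f)).ShortExact :=
      .mk' (ShortComplex.exact_of_g_is_cokernel _ (cokernelIsCokernel f)) inferInstance inferInstance
    have h := congrFun (Snapper.χs_add k (inv_two hL hM.1) hS hOc hNc hQ) n
    rw [Pi.add_apply] at h
    dsimp only at h
    rw [hP n, show Snapper.χs k ![L, M] N n = MvPolynomial.eval ![(n 0 : ℚ), ((n 1 + m : ℕ) : ℚ)] P from
      euler_of_cl hP (by rw [cl_two, cl_tensorPow, pow_add, mul_comm (PicF.cl M ^ m), mul_assoc, mul_comm (PicF.cl M ^ m)]),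
      cast_two] at h
    rw [cast_two, eval_shift]
    push_cast at h
    linarith
  · obtain ⟨η, hη, hηd⟩ := Nakai.exists_divisor_component (X ↘ Spec (CommRingCat.of k)) hN hs ⟨c, hsc⟩
    exact ⟨η, mem_support_cokernel hN s hη, by omega⟩

/-- The degree only depends on the isomorphism class. -/
theorem curveDeg_congr {Y : Scheme.{u}} (p : Y ⟶ Spec (CommRingCat.of k)) {M N : Y.Modules} (e : M ≅ N) :
    Pic13.curveDeg k p M = Pic13.curveDeg k p N := by
  letI : Y.Over (Spec (CommRingCat.of k)) := ⟨p⟩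
  show FGA.eulerCharLE k Y M 1 - _ = FGA.eulerCharLE k Y N 1 - _
  rw [show FGA.eulerCharLE k Y M 1 = FGA.eulerCharLE k Y N 1 from
    Finset.sum_congr rfl fun q _ => by rw [(CurveCohLib.hhEquiv (k := k) e q).finrank_eq]]

/-- Pullbacks of modules with nonnegative degrees on curves. -/
theorem NefC.pull {L : X.Modules} (h : NefC k L) {Z : Scheme.{u}} (i : Z ⟶ X) [IsClosedImmersion i]
    (hL : PicF.IsInvertible L) :
    letI : Z.Over (Spec (CommRingCat.of k)) := ⟨i ≫ (X ↘ (Spec (CommRingCat.of k)))⟩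
    NefC k ((Scheme.Modules.pullback i).obj L) := fun Y j _ hY hYd => by
  have h0 := h Y (j ≫ i) hY hYd
  show 0 ≤ Pic13.curveDeg k (j ≫ i ≫ (X ↘ Spec (CommRingCat.of k))) _
  rw [← Category.assoc]
  have e := (Scheme.Modules.pullbackComp j i).app L
  exact h0.trans_eq (curveDeg_congr (k := k) ((j ≫ i) ≫ (X ↘ Spec (CommRingCat.of k))) e).symm

/-- The degree on a curve is the coefficient of the first variable. -/
theorem curveDeg_eq_cf [IsIntegral X] (hd : topologicalKrullDim X = 1) {L A : X.Modules} (hL : PicF.IsInvertible L)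
    {P : MvPolynomial (Fin 2) ℚ} (hP : HasP k L A (Coh.structureModule X) P) (hdeg : DegLt 2 P) :
    ((Pic13.curveDeg k (X ↘ Spec (CommRingCat.of k)) L : ℤ) : ℝ) = cf P 1 0 := by
  haveI := CurveCohLib.isNoetherian_of_proper (k := k) (X := X)
  have h : ∀ N : X.Modules, Coh.IsQCoh N → FGA.eulerCharLE k X N 1 = Curv2.euler k X N := fun N hN =>
    (Euler.euler_eq_sum k N 2 fun i hi => by
      obtain ⟨n, rfl⟩ := Nat.exists_eq_add_of_le hi
      rw [add_comm]
      exact CurveVanish.subsingleton_HH_curve k hd.le hN n).symm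
  have hdef : Pic13.curveDeg k (X ↘ Spec (CommRingCat.of k)) L =
      Curv2.euler k X L - Curv2.euler k X (Coh.structureModule X) := by
    show FGA.eulerCharLE k X L 1 - FGA.eulerCharLE k X (Coh.structureModule X) 1 = _
    rw [h L (AmpleVan.isCoh_invertible hL).1, h _ QCoh.isQCoh_structureModule]
  obtain ⟨hn, hc⟩ := line_coeff 1 0 (d := 1) hdeg
  have e1 : (Curv2.euler k X L : ℚ) = (line 1 0 P).eval 1 := by
    rw [euler_of_cl hP (a := 1) (b := 0) (by rw [pow_one, pow_zero, mul_one]), eval_line]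
    simp
  have e0 : (Curv2.euler k X (Coh.structureModule X) : ℚ) = (line 1 0 P).eval 0 := by
    rw [euler_of_cl hP (a := 0) (b := 0) (by rw [pow_zero, pow_zero, one_mul, PicMul.one_def]), eval_line]
    simp
  have hlin : (line 1 0 P).eval 1 - (line 1 0 P).eval 0 = (line 1 0 P).coeff 1 := by
    conv_lhs => rw [Polynomial.eq_X_add_C_of_natDegree_le_one hn]
    simp
  have hT : T 1 P 1 0 = cf P 1 0 := by simp [T, Finset.sum_range_succ]
  rw [Rat.cast_one, Rat.cast_zero, hT] at hc
  rw [hdef, ← hc, ← hlin, ← e1, ← e0]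
  push_cast
  ring

variable (k) in
/-- The top intersection with one nef class is nonnegative. -/
theorem cf_one_nonneg : ∀ (d : ℕ) (X : Scheme.{u}) [X.Over (Spec (CommRingCat.of k))]
    [IsProper (X ↘ Spec (CommRingCat.of k))] [IsIntegral X],
    VarDim.deg (X ↘ Spec (CommRingCat.of k)) (genericPoint X) = d + 1 → ∀ {L M : X.Modules},
      PicF.IsInvertible L → CohB1.IsAmple M → NefC k L → ∀ P,
        HasP k L M (Coh.structureModule X) P → 0 ≤ cf P 1 d := by
  intro d
  induction d with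
  | zero =>
    intro X _ _ _ hd L M hL hM hnef P hP
    haveI := CurveCohLib.isNoetherian_of_proper (k := k) (X := X)
    have hdim : topologicalKrullDim X = 1 := by
      rw [VarDim.topologicalKrullDim_eq_deg_genericPoint (X ↘ Spec (CommRingCat.of k)), hd]; rfl
    obtain ⟨P', hdeg, hP'⟩ := exists_hasP (k := k) hL hM.1 (F := Coh.structureModule X) QCoh.isCoh_structureModule' 2
      fun x _ => by have := deg_le_generic (k := k) x; omega
    obtain rfl := hasP_unique hP hP'
    rw [← curveDeg_eq_cf hdim hL hP hdeg]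
    have h0 := hnef X (𝟙 X) inferInstance hdim
    rw [Category.id_comp] at h0
    rw [curveDeg_congr (k := k) (X ↘ Spec (CommRingCat.of k)) ((Scheme.Modules.pullbackId X).app L)] at h0
    exact_mod_cast h0
  | succ d ih =>
    intro X _ _ _ hd L M hL hM hnef P hP
    haveI := CurveCohLib.isNoetherian_of_proper (k := k) (X := X)
    obtain ⟨P', hdeg, hP'⟩ := exists_hasP (k := k) hL hM.1 (F := Coh.structureModule X) QCoh.isCoh_structureModule'
      (d + 1 + 2) fun x _ => by have := deg_le_generic (k := k) x; omega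
    obtain rfl := hasP_unique hP hP'
    obtain ⟨m, Q, hm, hQ, hPQ, hQd, -⟩ := exists_cut hL hM hd hP
    have h := (devissage_fun hL hM.1 (fun R => cf R 1 d) (fun R R' => cf_add R R' 1 d) (d + 1)
      (fun R hR => cf_eq_zero hR (by omega)) (fun Z i _ _ hi R hR => by
        letI : Z.Over (Spec (CommRingCat.of k)) := ⟨i ≫ (X ↘ (Spec (CommRingCat.of k)))⟩
        haveI : IsProper (Z ↘ Spec (CommRingCat.of k)) :=
          inferInstanceAs (IsProper (i ≫ (X ↘ Spec (CommRingCat.of k))))
        haveI : CompactSpace Z := i.isClosedEmbedding.compactSpace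
        exact ih Z ((deg_closed i _).trans hi) (PicClLib.isInvertible_pullback i hL)
          (AmpleVan.FiniteSurj.isAmple_pullback_of_isAffineHom i hM) (hnef.pull i hL) R
          ((hasP_push_iff hL hM.1 i R).1 hR)) hQ hQd hPQ).1
    rw [cf_shift (m : ℚ) hdeg (i := 1) (j := d) (by omega)] at h
    exact nonneg_of_mul_nonneg_right h (by positivity)

/-- Positivity of the powers of an ample module, in the two variables. -/
theorem T_zero_one_pos [IsIntegral X] {L A : X.Modules} (hA : CohB1.IsAmple A) {d : ℕ}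
    (hd : VarDim.deg (X ↘ Spec (CommRingCat.of k)) (genericPoint X) = d) {P : MvPolynomial (Fin 2) ℚ}
    (hdeg : DegLt (d + 1) P) (hP : HasP k L A (Coh.structureModule X) P) : 0 < T d P 0 1 := by
  obtain ⟨-, hc⟩ := line_coeff 0 1 hdeg
  have h := (Nakai.coeff_pos_of_ample k d X hd hA (line 0 1 P) fun m => by
    rw [euler_of_cl hP (a := 0) (b := m) (by rw [cl_tensorPow, pow_zero, one_mul]), eval_line]
    simp).2
  rw [Rat.cast_zero, Rat.cast_one] at hc
  rw [← hc]
  exact_mod_cast h

/-- The criterion of Nakai and Moishezon along a ray. -/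
theorem isAmple_of_T_pos {L A : X.Modules} (hL : PicF.IsInvertible L) (hA : PicF.IsInvertible A) (q p : ℕ)
    (h : ∀ (Z : Scheme.{u}) (i : Z ⟶ X) [IsClosedImmersion i] [IsIntegral Z] (d : ℕ), 0 < d →
      VarDim.deg (X ↘ Spec (CommRingCat.of k)) (i (genericPoint Z)) = d → ∀ P, DegLt (d + 1) P →
        HasP k L A ((Coh.push i).obj (Coh.structureModule Z)) P → 0 < T d P (q : ℝ) (p : ℝ)) :
    CohB1.IsAmple (CohB1.tensorMod (CohB1.tensorPow L q) (CohB1.tensorPow A p)) := by
  have hM : PicF.IsInvertible (CohB1.tensorMod (CohB1.tensorPow L q) (CohB1.tensorPow A p)) :=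
    InvX.isInvertible_tensorMod (InvX.isInvertible_tensorPow hL q) (InvX.isInvertible_tensorPow hA p)
  refine Nakai.isAmple_of_pos k hM fun Z hZ d hd hZd => ?_
  haveI := hZ
  haveI := CurveCohLib.isNoetherian_of_proper (k := k) (X := X)
  let i := Z.subschemeι
  letI : Z.subscheme.Over (Spec (CommRingCat.of k)) := ⟨i ≫ (X ↘ (Spec (CommRingCat.of k)))⟩
  haveI : IsProper (Z.subscheme ↘ Spec (CommRingCat.of k)) :=
    inferInstanceAs (IsProper (i ≫ (X ↘ Spec (CommRingCat.of k))))
  haveI : CompactSpace Z.subscheme := i.isClosedEmbedding.compactSpace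
  haveI := CurveCohLib.isNoetherian_of_proper (k := k) (X := Z.subscheme)
  have hZdeg : VarDim.deg (Z.subscheme ↘ Spec (CommRingCat.of k)) (genericPoint Z.subscheme) = d := by
    have h1 := VarDim.topologicalKrullDim_eq_deg_genericPoint (Z.subscheme ↘ Spec (CommRingCat.of k))
    rw [IsHomeomorph.topologicalKrullDim_eq _
      ((i.isEmbedding.toHomeomorph).trans (Homeomorph.setCongr Z.range_subschemeι)).isHomeomorph, hZd] at h1
    exact_mod_cast h1.symm
  have hiL := PicClLib.isInvertible_pullback i hL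
  have hiA := PicClLib.isInvertible_pullback i hA
  obtain ⟨P, hdeg, hP⟩ := exists_hasP (k := k) hiL hiA (F := Coh.structureModule Z.subscheme)
    QCoh.isCoh_structureModule' (d + 1) fun x _ => by have := deg_le_generic (k := k) x; omega
  obtain ⟨hn, hc⟩ := line_coeff (q : ℚ) (p : ℚ) hdeg
  refine ⟨line (q : ℚ) (p : ℚ) P, hn, ?_, fun m => ?_⟩
  · have h2 := h Z.subscheme i d hd ((deg_closed i _).symm.trans hZdeg) P hdeg ((hasP_push_iff hL hA i P).2 hP)
    rw [Rat.cast_natCast, Rat.cast_natCast] at hc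
    rw [← hc] at h2
    exact_mod_cast h2
  · rw [Nakai.chi_eq k hM Z m, euler_of_cl hP (a := q * m) (b := p * m)
      (by rw [cl_tensorPow, cl_pull_tensor, mul_pow, ← pow_mul, ← pow_mul]), eval_line]
    push_cast
    rfl

variable (k) in
/-- The argument of Kleiman. -/
theorem T_pos_of_nef : ∀ (d : ℕ) (X : Scheme.{u}) [X.Over (Spec (CommRingCat.of k))]
    [IsProper (X ↘ Spec (CommRingCat.of k))] [IsIntegral X],
    VarDim.deg (X ↘ Spec (CommRingCat.of k)) (genericPoint X) = d → ∀ {L A : X.Modules},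
      PicF.IsInvertible L → CohB1.IsAmple A → NefC k L → ∀ P,
        HasP k L A (Coh.structureModule X) P → ∀ t : ℝ, 0 < t → 0 < T d P 1 t := by
  intro d
  induction d using Nat.strong_induction_on with
  | _ d ih =>
  intro X _ _ _ hd L A hL hA hnef P hP
  haveI := CurveCohLib.isNoetherian_of_proper (k := k) (X := X)
  obtain ⟨P', hdeg, hP'⟩ := exists_hasP (k := k) hL hA.1 (F := Coh.structureModule X) QCoh.isCoh_structureModule'
    (d + 1) fun x _ => by have := deg_le_generic (k := k) x; omega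
  obtain rfl := hasP_unique hP hP'
  have h0 := T_zero_one_pos hA hd hdeg hP
  have hsub : ∀ (Z : Scheme.{u}) (i : Z ⟶ X) [IsClosedImmersion i] [IsIntegral Z] (e : ℕ), e < d →
      VarDim.deg (X ↘ Spec (CommRingCat.of k)) (i (genericPoint Z)) = e → ∀ R, HasP k L A ((Coh.push i).obj (Coh.structureModule Z)) R →
        ∀ t : ℝ, 0 < t → 0 < T e R 1 t := fun Z i _ _ e he hi R hR => by
    letI : Z.Over (Spec (CommRingCat.of k)) := ⟨i ≫ (X ↘ Spec (CommRingCat.of k))⟩
    haveI : IsProper (Z ↘ Spec (CommRingCat.of k)) := inferInstanceAs (IsProper (i ≫ (X ↘ Spec (CommRingCat.of k))))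
    haveI : CompactSpace Z := i.isClosedEmbedding.compactSpace
    exact ih e he Z ((deg_closed i _).trans hi) (PicClLib.isInvertible_pullback i hL)
      (AmpleVan.FiniteSurj.isAmple_pullback_of_isAffineHom i hA) (hnef.pull i hL) R
      ((hasP_push_iff hL hA.1 i R).1 hR)
  rcases Nat.eq_zero_or_pos d with rfl | hd0
  · intro t _
    have : T 0 P 1 t = T 0 P 0 1 := by simp [T]
    rw [this]; exact h0
  obtain ⟨e, rfl⟩ := Nat.exists_eq_add_of_le' hd0
  have hy : ∀ t : ℝ, 0 < t → 0 < Ty (e + 1) P 1 t := fun t ht => by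
    obtain ⟨m, Q, hm, hQ, hPQ, hQd, hQx⟩ := exists_cut hL hA hd hP
    have h := (devissage_fun hL hA.1 (fun R => T e R 1 t) (fun R R' => T_add e R R' 1 t) e
      (fun R hR => T_eq_zero hR 1 t) (fun Z i _ _ hi R hR => (hsub Z i e (by omega) hi R hR t ht).le) hQ hQd hPQ).2
      (fun Z i _ _ hi R hR => hsub Z i e (by omega) hi R hR t ht) hQx
    rw [T_shift (m : ℚ) hdeg] at h
    exact pos_of_mul_pos_right h (by positivity)
  refine T_pos (Nat.succ_pos e) P h0 hy fun q p hq hp hpos => ?_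
  have hM : CohB1.IsAmple (CohB1.tensorMod (CohB1.tensorPow L q) (CohB1.tensorPow A p)) := by
    refine isAmple_of_T_pos (k := k) hL hA.1 q p fun Z i _ _ e' he' hi R _ hR => ?_
    have hq' : (0 : ℝ) < q := Nat.cast_pos.2 hq
    have hp' : (0 : ℝ) < p := Nat.cast_pos.2 hp
    have hle : e' ≤ e + 1 := hi.symm.le.trans ((deg_le_generic (k := k) _).trans hd.le)
    have hsc : T e' R (q : ℝ) (p : ℝ) = (q : ℝ) ^ e' * T e' R 1 ((p : ℝ) / q) := by
      rw [← T_smul, mul_one, mul_div_cancel₀ _ hq'.ne']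
    rw [hsc]
    refine mul_pos (pow_pos hq' _) ?_
    rcases lt_or_eq_of_le hle with hlt | rfl
    · exact hsub Z i e' hlt hi R hR _ (div_pos hp' hq')
    have hgen : i (genericPoint Z) = genericPoint X :=
      (VarDim.eq_of_specializes_of_deg_le (X ↘ Spec (CommRingCat.of k)) (genericPoint_specializes _) (by omega)).symm
    have hr : Set.range i = Set.range (𝟙 X : X ⟶ X) := by
      rw [QCoh.range_eq_closure i, hgen, genericPoint_closure]
      exact (Set.range_eq_univ.2 fun x => ⟨x, rfl⟩).symm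
    obtain ⟨φ⟩ := QCoh.push_structure_iso (𝟙 X) i hr
    rw [hasP_unique (hasP_congr (φ ≪≫ (Scheme.Modules.pushforwardId X).app _) hR) hP]
    exact hpos _ le_rfl
  obtain ⟨P'', -, hP''⟩ := exists_hasP (k := k) hL hM.1 (F := Coh.structureModule X) QCoh.isCoh_structureModule'
    (e + 1 + 1) fun x _ => by have := deg_le_generic (k := k) x; omega
  have hsubst : P'' = subst (q : ℚ) (p : ℚ) P := poly_ext fun n => by
    rw [← hP'' n, cast_two, eval_subst]
    show ((Curv2.euler k X _ : ℤ) : ℚ) = _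
    rw [euler_of_cl hP (a := n 0 + q * n 1) (b := p * n 1) (by
      rw [cl_two, cl_tensor, cl_tensorPow, cl_tensorPow, ← PicMul.one_def, one_mul, mul_pow, ← pow_mul, ← pow_mul, pow_add,
        mul_assoc])]
    push_cast
    rfl
  have h1 := cf_one_nonneg k e X hd hL hM hnef P'' hP''
  rw [hsubst, cf_subst] at h1
  simpa using h1

variable (k) in
/-- An ample perturbation of a nef module is ample. -/
theorem isAmple_of_nef {L A : X.Modules} (hL : PicF.IsInvertible L) (hA : CohB1.IsAmple A) (hnef : NefC k L)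
    {ν : ℕ} (hν : 0 < ν) : CohB1.IsAmple (CohB1.tensorMod (CohB1.tensorPow L ν) A) := by
  haveI := CurveCohLib.isNoetherian_of_proper (k := k) (X := X)
  have h : CohB1.IsAmple (CohB1.tensorMod (CohB1.tensorPow L ν) (CohB1.tensorPow A 1)) := by
    refine isAmple_of_T_pos (k := k) hL hA.1 ν 1 fun Z i _ _ d hd hi R hdeg hR => ?_
    letI : Z.Over (Spec (CommRingCat.of k)) := ⟨i ≫ (X ↘ (Spec (CommRingCat.of k)))⟩
    haveI : IsProper (Z ↘ Spec (CommRingCat.of k)) :=
      inferInstanceAs (IsProper (i ≫ (X ↘ Spec (CommRingCat.of k))))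
    haveI : CompactSpace Z := i.isClosedEmbedding.compactSpace
    have hν' : (0 : ℝ) < ν := Nat.cast_pos.2 hν
    rw [show ((1 : ℕ) : ℝ) = (ν : ℝ) * (1 / ν) by rw [Nat.cast_one, mul_one_div_cancel hν'.ne'],
      show T d R (ν : ℝ) ((ν : ℝ) * (1 / ν)) = (ν : ℝ) ^ d * T d R 1 (1 / ν) by rw [← T_smul, mul_one]]
    exact mul_pos (pow_pos hν' _) (T_pos_of_nef k d Z ((deg_closed i _).trans hi)
      (PicClLib.isInvertible_pullback i hL) (AmpleVan.FiniteSurj.isAmple_pullback_of_isAffineHom i hA)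
      (hnef.pull i hL) R ((hasP_push_iff hL hA.1 i R).1 hR) _ (one_div_pos.2 hν'))
  obtain ⟨e⟩ := cl_eq_iff.1 (show PicF.cl (CohB1.tensorMod (CohB1.tensorPow L ν) (CohB1.tensorPow A 1)) =
      PicF.cl (CohB1.tensorMod (CohB1.tensorPow L ν) A) by
    rw [cl_tensor, cl_tensor, cl_tensorPow, cl_tensorPow, pow_one])
  exact AmpleX.isAmple_of_iso e h

variable (k) in
/-- Ample perturbations bound the degrees on curves. -/
theorem nef_of_isAmple {L A : X.Modules} (hL : PicF.IsInvertible L) (hA : CohB1.IsAmple A)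
    (h : ∀ ν : ℕ, 0 < ν → CohB1.IsAmple (CohB1.tensorMod (CohB1.tensorPow L ν) A)) : NefC k L := by
  intro Y i _ hY hYd
  haveI := hY
  haveI := CurveCohLib.isNoetherian_of_proper (k := k) (X := X)
  letI : Y.Over (Spec (CommRingCat.of k)) := ⟨i ≫ (X ↘ (Spec (CommRingCat.of k)))⟩
  haveI : IsProper (Y ↘ Spec (CommRingCat.of k)) :=
    inferInstanceAs (IsProper (i ≫ (X ↘ Spec (CommRingCat.of k))))
  haveI : CompactSpace Y := i.isClosedEmbedding.compactSpace
  haveI := CurveCohLib.isNoetherian_of_proper (k := k) (X := Y)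
  have hYdeg : VarDim.deg (Y ↘ Spec (CommRingCat.of k)) (genericPoint Y) = 1 := by
    have h1 := VarDim.topologicalKrullDim_eq_deg_genericPoint (Y ↘ Spec (CommRingCat.of k))
    rw [hYd] at h1
    exact_mod_cast h1.symm
  obtain ⟨P, hdeg, hP⟩ := exists_hasP (k := k) (PicClLib.isInvertible_pullback i hL)
    (PicClLib.isInvertible_pullback i hA.1) (F := Coh.structureModule Y) QCoh.isCoh_structureModule' 2
    fun x _ => by have := deg_le_generic (k := k) x; omega
  have hdegY := curveDeg_eq_cf hYd (PicClLib.isInvertible_pullback i hL) hP hdeg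
  have hall : ∀ ν : ℕ, 0 < ν → 0 < (ν : ℝ) * cf P 1 0 + cf P 0 1 := fun ν hν => by
    obtain ⟨-, hc⟩ := line_coeff (ν : ℚ) 1 (d := 1) hdeg
    have h2 := (Nakai.coeff_pos_of_ample k 1 Y hYdeg
      (AmpleVan.FiniteSurj.isAmple_pullback_of_isAffineHom i (h ν hν)) (line (ν : ℚ) 1 P) fun m => by
        rw [euler_of_cl hP (a := ν * m) (b := m) (by
          rw [cl_tensorPow]
          show PicF.pullCl i (PicF.cl _) ^ m = _
          rw [cl_tensor, pullCl_mul, show PicF.pullCl i (PicF.cl (CohB1.tensorPow L ν)) =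
            PicF.cl ((Scheme.Modules.pullback i).obj L) ^ ν by
              rw [← cl_tensorPow]; exact cl_eq_iff.2 (AmpleVan.RelVanish.pullback_tensorPow i L ν),
            mul_pow, ← pow_mul]
          rfl), eval_line]
        push_cast
        rw [one_mul]).2
    have h3 : T 1 P (ν : ℝ) 1 = (ν : ℝ) * cf P 1 0 + cf P 0 1 := by
      simp [T, Finset.sum_range_succ]; ring
    rw [Rat.cast_natCast, Rat.cast_one, h3] at hc
    rw [← hc]
    exact_mod_cast h2
  show 0 ≤ Pic13.curveDeg k (Y ↘ Spec (CommRingCat.of k)) _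
  by_contra hlt
  have hα : cf P 1 0 ≤ -1 := by
    rw [← hdegY]
    exact_mod_cast (show Pic13.curveDeg k (Y ↘ Spec (CommRingCat.of k)) _ ≤ -1 by omega)
  obtain ⟨ν, hν⟩ := exists_nat_gt (max (cf P 0 1) 0)
  have hν0 : 0 < ν := by exact_mod_cast (le_max_right _ _).trans_lt hν
  have := hall ν hν0
  nlinarith [(le_max_left (cf P 0 1) 0).trans_lt hν, mul_le_mul_of_nonneg_left hα (Nat.cast_nonneg ν : (0 : ℝ) ≤ ν)]

end Groth.Agent.NefCrit
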