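import Groth.Agent.Nakai.Vanish
import Groth.Agent.Lib.CurveAmple
import Groth.Agent.Lib.GenLocusGG
import Groth.Agent.AmpleX.Generated
import Groth.Agent.PPSheaf.Gr
import Groth.Agent.QCoh.ClosedPush
import Groth.Agent.Snapper.Main

/-!
Sections of powers of a module which is ample on all proper closed subsets.
-/

set_option autoImplicit false
set_option linter.style.haveILetI false
set_option linter.unusedSectionVars false
set_option backward.isDefEq.respectTransparency false
set_option backward.isDefEq.respectTransparency.types false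
set_option maxHeartbeats 1000000

universe u

open CategoryTheory CategoryTheory.Limits AlgebraicGeometry TopologicalSpace Opposite
open Groth.Agent.PnCoh.Finite (mapLin deltaLin)
open Groth.Agent.H23 Groth.Agent.H23.TrivBasic

noncomputable section

namespace Groth.Agent.Nakai

/-- `L` is ample on every closed proper subset. -/
def AmpleBelow {X : Scheme.{u}} (L : X.Modules) : Prop :=
  ∀ D : Closeds X, (D : Set X) ≠ Set.univ →
    CohB1.IsAmple ((Scheme.Modules.pullback (Scheme.IdealSheafData.vanishingIdeal D).subschemeι).obj L)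

theorem AmpleBelow.pow {X : Scheme.{u}} {L : X.Modules} (h : AmpleBelow L) {n : ℕ} (hn : 0 < n) :
    AmpleBelow (CohB1.tensorPow L n) := fun D hD => by
  obtain ⟨e⟩ := AmpleVan.RelVanish.pullback_tensorPow (Scheme.IdealSheafData.vanishingIdeal D).subschemeι L n
  exact AmpleX.isAmple_of_iso e.symm (AmpleX.isAmple_tensorPow (h D hD) hn)

/-- A section of which the image under a morphism is a frame at a point is a frame there. -/
theorem mem_locus_of_map {X Y : Scheme.{u}} (u : Y ⟶ X) {M : X.Modules} (hM : PicF.IsInvertible M)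
    {N : Y.Modules} (hN : PicF.IsInvertible N) (ψ : (Scheme.Modules.pullback u).obj M ⟶ N) (t : Γ(M, ⊤)) {c : Y}
    (hc : c ∈ locus (show Γ(N, ⊤) from ψ.app (u ⁻¹ᵁ ⊤) (InvX.pullElt u t))) : u c ∈ locus t := by
  obtain ⟨U, hU, ε, hε⟩ := InvX.exists_frame hM (u c)
  obtain ⟨g, hg⟩ := hε.exists_coord le_rfl (AModX.res M (le_top : U ≤ ⊤) t)
  rw [AModX.res_self] at hg
  obtain ⟨V, hV, ε', hε'⟩ := InvX.exists_frame hN c
  let W := V ⊓ u ⁻¹ᵁ U
  have hcW : c ∈ W := ⟨hV, hU⟩
  have hW := hε'.res (inf_le_left : W ≤ V)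
  obtain ⟨r, hr⟩ := hW.exists_coord le_rfl
    (AModX.res N (inf_le_right : W ≤ u ⁻¹ᵁ U) (ψ.app (u ⁻¹ᵁ U) (InvX.pullElt u ε)))
  rw [AModX.res_self] at hr
  have hs : AModX.res N (le_top : W ≤ ⊤) (show Γ(N, ⊤) from ψ.app (u ⁻¹ᵁ ⊤) (InvX.pullElt u t)) =
      (AModX.resR (inf_le_right : W ≤ u ⁻¹ᵁ U) (u.app U g) * r) • AModX.res N (inf_le_left : W ≤ V) ε' := by
    have h1 : AModX.res N (u.preimage_mono (le_top : U ≤ ⊤)) (ψ.app (u ⁻¹ᵁ ⊤) (InvX.pullElt u t)) =
        u.app U g • ψ.app (u ⁻¹ᵁ U) (InvX.pullElt u ε) := by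
      rw [← AModX.app_res, InvX.res_pullElt u (le_top : U ≤ ⊤) t, hg, InvX.pullElt_smul, Scheme.Modules.Hom.app_smul]
    rw [mul_smul, ← hr, ← AModX.res_smul, ← h1, AModX.res_res]
    rfl
  have h2 := (locus_eq_basicOpen hW hs).le ⟨hc, hcW⟩
  rw [Scheme.basicOpen_mul] at h2
  have h3 : c ∈ Y.basicOpen (u.app U g) :=
    (Y.basicOpen_res (u.app U g) (homOfLE (inf_le_right : W ≤ u ⁻¹ᵁ U)).op).le h2.1 |>.2
  rw [← Scheme.preimage_basicOpen] at h3
  exact ((locus_eq_basicOpen hε hg).ge h3).1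

/-- The unit of a closed immersion is an epimorphism. -/
theorem epi_unit {X Y : Scheme.{u}} (i : Y ⟶ X) [IsClosedImmersion i] {G : X.Modules} (hG : Coh.IsQCoh G) :
    Epi ((Scheme.Modules.pullbackPushforwardAdjunction i).unit.app G) :=
  PPSheaf.epi_of_surjective_cover (QCoh.isQCoh_pushforward i (QCoh.isQCoh_pullback i hG)) _ fun x => by
    obtain ⟨_, ⟨V, hV, rfl⟩, hxV, -⟩ := X.isBasis_affineOpens.exists_subset_of_mem_open (Set.mem_univ x) isOpen_univ
    exact ⟨V, hV, hxV, (QCoh.unit_app_closed i hG hV).1⟩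

/-- A section dies on a reduced subscheme on which it is nowhere a frame. -/
theorem comp_unit_eq_zero {X Y : Scheme.{u}} (i : Y ⟶ X) [IsReduced Y] {A : X.Modules} (hA : PicF.IsInvertible A)
    (s : Γ(A, ⊤)) (h : ∀ y, i y ∉ locus s) :
    InvX.ofSect s ≫ (Scheme.Modules.pullbackPushforwardAdjunction i).unit.app A = 0 := by
  let f := InvX.ofSect s
  obtain ⟨e₀⟩ := PicClLib.nonempty_pullback_structureModule i
  have hz : InvX.one (e₀.inv ≫ (Scheme.Modules.pullback i).map f) = 0 := by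
    by_contra hne
    obtain ⟨z, hz⟩ := (Opens.ne_bot_iff_nonempty _).1 (locus_ne_bot (PicClLib.isInvertible_pullback i hA) hne)
    have hz' : z ∈ CohB1.genLocus _ (InvX.ofSect (InvX.one (e₀.inv ≫ (Scheme.Modules.pullback i).map f))) := hz
    rw [AVAmple.ofSect_one, show e₀.inv = e₀.symm.hom from rfl, InvX.genLocus_pullback i hA f e₀.symm] at hz'
    exact h z hz'
  have h0 : (Scheme.Modules.pullback i).map f = 0 :=
    (cancel_epi e₀.inv).1 ((AmpleX.eq_zero_of_one_eq_zero _ hz).trans comp_zero.symm)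
  refine ((Scheme.Modules.pullbackPushforwardAdjunction i).unit.naturality f).trans ?_
  show _ ≫ (Scheme.Modules.pushforward i).map ((Scheme.Modules.pullback i).map f) = _
  rw [h0, Functor.map_zero]
  exact comp_zero

variable {k : Type u} [Field k] {X : Scheme.{u}} [X.Over (Spec (CommRingCat.of k))]

/-- Sections lift when the next map on first cohomology is injective. -/
theorem app_top_surjective_of_injective {S : ShortComplex X.Modules} (hS : S.ShortExact)
    (h : Function.Injective (mapLin k S.f 1)) : Function.Surjective (S.g.app ⊤) := fun y => by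
  let E₂ := Sheaf.H.equiv₀ (Coh.toAb S.X₂) isTerminalTop
  let E₃ := Sheaf.H.equiv₀ (Coh.toAb S.X₃) isTerminalTop
  have hy : E₃.symm y ∈ LinearMap.ker (deltaLin k hS 0) := by
    refine LinearMap.mem_ker.2 (h ?_)
    rw [map_zero]
    exact LinearMap.mem_ker.1 ((Euler.range_deltaLin k hS 0).le ⟨_, rfl⟩)
  rw [← Euler.range_mapLin_g k hS 0] at hy
  obtain ⟨z, hz⟩ := hy
  refine ⟨E₂ z, ?_⟩
  refine (Sheaf.H.equiv₀_naturality isTerminalTop ((QCoh.toAbFunctor X).map S.g) z).trans ?_
  exact (congrArg E₃ hz).trans (E₃.apply_symm_apply y)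

variable [IsProper (X ↘ Spec (CommRingCat.of k))]

variable (k) in
include k in
theorem exists_cohSeq {A B : X.Modules} (hA : Coh.IsCoh A) (hB : Coh.IsCoh B) (φ : A ⟶ B) {U : X.Opens}
    (hφ : Snapper.IsoOn U φ) :
    ∃ (K I C : X.Modules) (S₁ S₂ : ShortComplex X.Modules), S₁.ShortExact ∧ S₂.ShortExact ∧
      S₁.X₁ = K ∧ S₁.X₂ = A ∧ S₁.X₃ = I ∧ S₂.X₁ = I ∧ S₂.X₂ = B ∧ S₂.X₃ = C ∧
      Coh.IsCoh K ∧ Coh.IsCoh C ∧ CohB1.support K ⊆ (U : Set X)ᶜ ∧ CohB1.support C ⊆ (U : Set X)ᶜ := by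
  haveI := CurveCohLib.isNoetherian_of_proper (k := k) (X := X)
  refine ⟨kernel φ, Abelian.image φ, cokernel φ,
    ShortComplex.mk (kernel.ι φ) (Abelian.factorThruImage φ)
      ((cancel_mono (Abelian.image.ι φ)).1 (by rw [Category.assoc, Abelian.image.fac, kernel.condition, zero_comp])),
    ShortComplex.mk (Abelian.image.ι φ) (cokernel.π φ) (kernel.condition _),
    { exact := ShortComplex.exact_of_f_is_kernel _ (KernelFork.IsLimit.ofι' _ _ fun {T} t ht =>
        ⟨kernel.lift φ t (by rw [← Abelian.image.fac φ, reassoc_of% ht, zero_comp]), kernel.lift_ι _ _ _⟩)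
      mono_f := inferInstance
      epi_g := inferInstance },
    { exact := ShortComplex.exact_of_f_is_kernel _ (kernelIsKernel (cokernel.π φ))
      mono_f := inferInstance
      epi_g := inferInstance },
    rfl, rfl, rfl, rfl, rfl, rfl, QCoh.isCoh_kernel hA hB φ, QCoh.isCoh_cokernel hA.1 hB φ,
    (Snapper.support_subset_compl hφ).1, (Snapper.support_subset_compl hφ).2⟩

/-- Higher cohomology of the twists agrees for modules isomorphic on an open set, in large twists. -/
theorem eventually_finrank_eq {L : X.Modules} (hL : PicF.IsInvertible L) (hb : AmpleBelow L) {A B : X.Modules}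
    (hA : Coh.IsCoh A) (hB : Coh.IsCoh B) (φ : A ⟶ B) {U : X.Opens} (hne : U ≠ ⊥) (hφ : Snapper.IsoOn U φ) :
    ∃ d₀, ∀ m, d₀ ≤ m → ∀ q,
      Module.finrank k (Coh.HH X (CohB1.tensorMod A (CohB1.tensorPow L m)) (q + 2)) =
        Module.finrank k (Coh.HH X (CohB1.tensorMod B (CohB1.tensorPow L m)) (q + 2)) := by
  obtain ⟨K, I, C, S₁, S₂, h₁, h₂, rfl, rfl, rfl, e21, rfl, rfl, hK, hC, hsK, hsC⟩ := exists_cohSeq k hA hB φ hφ
  let D : Closeds X := ⟨(U : Set X)ᶜ, U.isOpen.isClosed_compl⟩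
  have hD : (D : Set X) ≠ Set.univ := fun h => hne (by
    ext x
    exact iff_of_false (h.ge (Set.mem_univ x)) id)
  obtain ⟨a, ha⟩ := nvan_of_support k hL D (hb D hD) hK hsK
  obtain ⟨b, hb'⟩ := nvan_of_support k hL D (hb D hD) hC hsC
  refine ⟨max a b, fun m hm q => ?_⟩
  haveI := AmpleVan.isEquivalence_tw (InvX.isInvertible_tensorPow hL m)
  haveI : (AmpleVan.tw (CohB1.tensorPow L m)).Additive := Functor.additive_of_preserves_binary_products _
  have hT₁ := h₁.map_of_exact (AmpleVan.tw (CohB1.tensorPow L m))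
  have hT₂ := h₂.map_of_exact (AmpleVan.tw (CohB1.tensorPow L m))
  have f₁ := (LinearEquiv.ofBijective (mapLin k _ (q + 2))
    ⟨injective_g k hT₁ (q + 2) (ha m ((le_max_left _ _).trans hm) (q + 1)),
      surjective_g k hT₁ (q + 2) (ha m ((le_max_left _ _).trans hm) (q + 2))⟩).finrank_eq
  have f₂ := (LinearEquiv.ofBijective (mapLin k _ (q + 2))
    ⟨injective_f k hT₂ (q + 1) (hb' m ((le_max_right _ _).trans hm) q),
      surjective_f k hT₂ (q + 2) (hb' m ((le_max_right _ _).trans hm) (q + 1))⟩).finrank_eq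
  rw [ShortComplex.map_X₁, ShortComplex.map_X₂, e21] at f₂
  exact f₁.trans f₂

variable [IsIntegral X]

/-- Arbitrarily large Euler characteristics give a nonzero section of some power. -/
theorem exists_pow_section {L : X.Modules} (hL : PicF.IsInvertible L) (hb : AmpleBelow L)
    (hgrow : ∀ (C : ℤ) (N : ℕ), ∃ m, N ≤ m ∧ C < Curv2.euler k X (CohB1.tensorPow L m)) :
    ∃ m, 0 < m ∧ ∃ s : Γ(CohB1.tensorPow L m, ⊤), s ≠ 0 := by
  haveI := CurveCohLib.isNoetherian_of_proper (k := k) (X := X)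
  obtain ⟨x₀⟩ : Nonempty X := inferInstance
  obtain ⟨U, hxU, e, he⟩ := InvX.exists_frame hL x₀
  have hU : U ≠ ⊥ := fun h => by rw [h] at hxU; exact hxU
  obtain ⟨K, I, a, b, c, hK, hI, ha, hb', hc⟩ := Snapper.exists_link_frame hL he
  have hLc := AmpleVan.isCoh_invertible hL
  obtain ⟨d₁, h₁⟩ := eventually_finrank_eq (k := k) hL hb hK QCoh.isCoh_structureModule' a hU ha
  obtain ⟨d₂, h₂⟩ := eventually_finrank_eq (k := k) hL hb hK hI b hU hb'
  obtain ⟨d₃, h₃⟩ := eventually_finrank_eq (k := k) hL hb hLc hI c hU hc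
  let N := d₁ + d₂ + d₃
  let h : ℕ → ℕ → ℕ := fun m q => Module.finrank k (Coh.HH X (CohB1.tensorPow L m) (q + 2))
  have hstep : ∀ m, N ≤ m → ∀ q, h (m + 1) q = h m q := fun m hm q => by
    have e1 := h₁ m (by omega) q
    have e2 := h₂ m (by omega) q
    have e3 := h₃ m (by omega) q
    have u₁ : CohB1.tensorMod (Coh.structureModule X) (CohB1.tensorPow L m) ≅ CohB1.tensorPow L m :=
      CurveTensor.structureTensorIso (CohB1.tensorPow L m)
    have u₃ : CohB1.tensorMod L (CohB1.tensorPow L m) ≅ CohB1.tensorPow L (m + 1) :=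
      CurveTensor.commIso L (CohB1.tensorPow L m)
    rw [(CurveCohLib.hhEquiv (k := k) u₁ (q + 2)).finrank_eq] at e1
    rw [(CurveCohLib.hhEquiv (k := k) u₃ (q + 2)).finrank_eq] at e3
    exact e3.trans (e2.symm.trans e1)
  have hconst : ∀ m, N ≤ m → ∀ q, h m q = h N q := fun m hm q => by
    induction m, hm using Nat.le_induction with
    | base => rfl
    | succ m hm ih => rw [hstep m hm q, ih]
  obtain ⟨d, hd⟩ := Euler.exists_bound (X := X) k
  let C : ℤ := ∑ q ∈ Finset.range d, (h N q : ℤ)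
  obtain ⟨m, hm, hχ⟩ := hgrow C (N + 1)
  refine ⟨m, by omega, CurveAmple.exists_section_ne_zero (Module.nontrivial_of_finrank_pos (R := k) ?_)⟩
  have hP : PicF.IsInvertible (CohB1.tensorPow L m) := InvX.isInvertible_tensorPow hL m
  rw [Euler.euler_eq_sum k _ (d + 2) (fun i hi => hd _ (AmpleVan.isCoh_invertible hP).1 i (by omega)),
    Finset.sum_range_succ', Finset.sum_range_succ'] at hχ
  have hle : ∑ q ∈ Finset.range d, (-1 : ℤ) ^ (q + 1 + 1) * (h m q : ℤ) ≤ C :=
    Finset.sum_le_sum fun q _ => by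
      rw [hconst m (by omega) q]
      rcases neg_one_pow_eq_or ℤ (q + 1 + 1) with h | h <;> rw [h] <;> simp
  simp only [h] at hle
  push_cast at hχ
  simp only [pow_zero, one_mul, zero_add, pow_one, neg_mul] at hχ
  have h1 : (0 : ℤ) ≤ Module.finrank k (Coh.HH X (CohB1.tensorPow L m) 1) := Int.natCast_nonneg _
  have h0 : (0 : ℤ) < Module.finrank k (Coh.HH X (CohB1.tensorPow L m) 0) := by linarith
  exact_mod_cast h0

variable (k) in
include k in
/-- With a nonzero section, a module ample below is generated in a suitable power. -/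
theorem exists_generated_pow {A : X.Modules} (hA : PicF.IsInvertible A) (hb : AmpleBelow A)
    {s : Γ(A, ⊤)} (hs : s ≠ 0) :
    ∃ j : ℕ, ∀ x : X, ∃ t : Γ(CohB1.tensorPow A (j + 1), ⊤), x ∈ locus t := by
  haveI := CurveCohLib.isNoetherian_of_proper (k := k) (X := X)
  let D : Closeds X := ⟨(locus s : Set X)ᶜ, (locus s).isOpen.isClosed_compl⟩
  have hD : (D : Set X) ≠ Set.univ := fun h => by
    obtain ⟨z, hz⟩ := (Opens.ne_bot_iff_nonempty _).1 (locus_ne_bot hA hs)
    exact (h.ge (Set.mem_univ z)) hz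
  let J := Scheme.IdealSheafData.vanishingIdeal D
  let i := J.subschemeι
  haveI := H23.RedSub.isReduced_vanishingIdeal D
  let π := X ↘ Spec (CommRingCat.of k)
  letI : J.subscheme.Over (Spec (CommRingCat.of k)) := ⟨i ≫ π⟩
  haveI : IsProper (J.subscheme ↘ Spec (CommRingCat.of k)) := inferInstanceAs (IsProper (i ≫ π))
  haveI : CompactSpace J.subscheme := QuasiCompact.compactSpace_of_compactSpace (J.subscheme ↘ Spec (CommRingCat.of k))
  haveI : J.subscheme.IsSeparated := AmpleVan.isSeparated_of_proper (A := k)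
  let iA := (Scheme.Modules.pullback i).obj A
  have hiA : PicF.IsInvertible iA := PicClLib.isInvertible_pullback i hA
  have hAc := AmpleVan.isCoh_invertible hA
  haveI := CurveAmple.mono_ofSect hA hs
  let f := InvX.ofSect s
  let S := ShortComplex.mk f (cokernel.π f) (cokernel.condition f)
  have hS : S.ShortExact := .mk' (ShortComplex.exact_of_g_is_cokernel _ (cokernelIsCokernel f)) inferInstance inferInstance
  let v := (Scheme.Modules.pullbackPushforwardAdjunction i).unit.app A
  haveI : Epi v := epi_unit i hAc.1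
  have hfv : f ≫ v = 0 := comp_unit_eq_zero i hA s fun z =>
    (AmpleVan.FiniteSurj.range_vanishingIdeal D).le ⟨z, rfl⟩
  let g := cokernel.desc f v hfv
  haveI : Epi g := epi_of_epi_fac (cokernel.π_desc f v hfv)
  let T := ShortComplex.mk (kernel.ι g) g (kernel.condition g)
  have hT : T.ShortExact := .mk' (ShortComplex.exact_of_f_is_kernel _ (kernelIsKernel g)) inferInstance inferInstance
  have hQ : Coh.IsCoh (cokernel f) := QCoh.isCoh_cokernel QCoh.isCoh_structureModule'.1 hAc f
  have hp : Coh.IsQCoh ((Scheme.Modules.pushforward i).obj iA) := QCoh.isQCoh_pushforward i (QCoh.isQCoh_pullback i hAc.1)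
  have hsQ : CohB1.support (cokernel f) ⊆ D := CurveAmple.support_cokernel_subset s
  have hR : Coh.IsCoh (kernel g) := QCoh.isCoh_of_mono (kernel.ι g) hQ (QCoh.isQCoh_kernel hQ.1 hp g)
  have hsR : CohB1.support (kernel g) ⊆ D :=
    (QCoh.mem_support_of_mono hR.1 hQ.1 (kernel.ι g)).trans hsQ
  obtain ⟨a, ha⟩ := nvan_of_support k hA D (hb D hD) hQ hsQ
  obtain ⟨b, hb'⟩ := nvan_of_support k hA D (hb D hD) hR hsR
  obtain ⟨c, hc'⟩ := AmpleX.eventually_isGloballyGenerated (hb D hD) (F := iA)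
    (ProjUPX.isQCoh_of_isInvertible hiA)
    (QCoh.isFT_of_isFP (QCoh.isFP_of_isFinLocFree (H23.PullPush.isFinLocFree_of_isInvertible hiA)))
  let h : ℕ → ℕ := fun j => Module.finrank k (Coh.HH X (CohB1.tensorPow A (a + b + c + j)) 1)
  obtain ⟨j₀, hj₀⟩ : ∃ j, ∀ i, h j ≤ h i := ⟨Function.argmin h, fun i => Function.argmin_le h i⟩
  let j := a + b + c + j₀
  refine ⟨j, fun x => ?_⟩
  by_cases hx : x ∈ locus s
  · refine ⟨InvX.one (InvX.powHom (InvX.ofSect s) (j + 1)), ?_⟩
    show x ∈ CohB1.genLocus _ (InvX.ofSect (InvX.one _))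
    rw [AVAmple.ofSect_one, InvX.genLocus_powHom hA]
    exact hx
  let P := CohB1.tensorPow A j
  have hP : PicF.IsInvertible P := InvX.isInvertible_tensorPow hA j
  haveI := AmpleVan.isEquivalence_tw hP
  haveI : (AmpleVan.tw P).Additive := Functor.additive_of_preserves_binary_products _
  have hTS := hS.map_of_exact (AmpleVan.tw P)
  have hTT := hT.map_of_exact (AmpleVan.tw P)
  let B := CohB1.tensorMod A P
  have hB : PicF.IsInvertible B := InvX.isInvertible_tensorMod hA hP
  have hinj : Function.Injective (mapLin k ((AmpleVan.tw P).map f) 1) := by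
    haveI := CurveCohLib.finite_HH (k := k) (AmpleVan.isCoh_invertible hB) 1
    have hsur : Function.Surjective (mapLin k ((AmpleVan.tw P).map f) 1) :=
      surjective_f k hTS 1 (ha j (by omega) 0)
    have h1 : Module.finrank k (Coh.HH X (CohB1.tensorMod (Coh.structureModule X) P) 1) ≤
        Module.finrank k (Coh.HH X B 1) := by
      have u₁ : CohB1.tensorMod (Coh.structureModule X) P ≅ P := CurveTensor.structureTensorIso P
      have u₂ : B ≅ CohB1.tensorPow A (j + 1) := CurveTensor.commIso A P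
      rw [(CurveCohLib.hhEquiv (k := k) u₁ 1).finrank_eq, (CurveCohLib.hhEquiv (k := k) u₂ 1).finrank_eq]
      exact hj₀ (j₀ + 1)
    haveI : Module.Finite k (Coh.HH X (CohB1.tensorMod (Coh.structureModule X) P) 1) :=
      CurveCohLib.finite_HH (k := k) (AmpleVan.isCoh_invertible (InvX.isInvertible_tensorMod InvX.isInvertible_structureModule hP)) 1
    exact (LinearMap.injective_iff_surjective_of_finrank_eq_finrank
      (le_antisymm h1 (LinearMap.finrank_le_finrank_of_surjective hsur))).2 hsur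
  let φ := (AmpleVan.tw P).map v
  have hφ : Function.Surjective (φ.app ⊤) := fun y => by
    obtain ⟨z, rfl⟩ := QCoh.app_top_surjective_of_HH_one hTT (hb' j (by omega) 0) y
    obtain ⟨w, rfl⟩ := app_top_surjective_of_injective (k := k) hTS hinj z
    exact ⟨w, congrArg (fun q => Scheme.Modules.Hom.app q ⊤ w)
      (((AmpleVan.tw P).congr_map (cokernel.π_desc f v hfv)).symm.trans ((AmpleVan.tw P).map_comp _ _))⟩
  obtain ⟨e⟩ := AmpleVan.FiniteSurj.nonempty_push_twist i iA hP
  let K := CohB1.tensorMod iA ((Scheme.Modules.pullback i).obj P)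
  have hK : PicF.IsInvertible K := InvX.isInvertible_tensorMod hiA (PicClLib.isInvertible_pullback i hP)
  let ψ := ((Scheme.Modules.pullbackPushforwardAdjunction i).homEquiv B K).symm (φ ≫ e.hom)
  have hψ : φ ≫ e.hom = (Scheme.Modules.pullbackPushforwardAdjunction i).unit.app B ≫
      (Scheme.Modules.pushforward i).map ψ :=
    (((Scheme.Modules.pullbackPushforwardAdjunction i).homEquiv B K).apply_symm_apply (φ ≫ e.hom)).symm.trans
      (Adjunction.homEquiv_unit _ _ _ _)
  obtain ⟨z, hz⟩ : ∃ z, i z = x := by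
    have : x ∈ (D : Set X) := hx
    rwa [← AmpleVan.FiniteSurj.range_vanishingIdeal D] at this
  have hKg : Curv2.IsGloballyGenerated K := by
    obtain ⟨e'⟩ := AmpleVan.RelVanish.pullback_tensorPow i A j
    exact AmpleX.isGloballyGenerated_of_iso (AmpleVan.RelVanish.tensor_congr (Iso.refl iA) e').some.symm (hc' j (by omega))
  obtain ⟨σ, hσ⟩ := GenLocusGG.exists_mem_locus hK hKg z
  obtain ⟨t, ht⟩ := hφ (e.inv.app ⊤ (show Γ((Scheme.Modules.pushforward i).obj K, ⊤) from σ))
  have hσ' : σ = (show Γ(K, ⊤) from ψ.app (i ⁻¹ᵁ ⊤) (InvX.pullElt i (U := ⊤) t)) := by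
    have h1 := congrArg (fun q => Scheme.Modules.Hom.app q ⊤ t) hψ
    refine Eq.trans ?_ h1
    show σ = e.hom.app ⊤ (φ.app ⊤ t)
    rw [ht]
    exact (congrArg (fun q => Scheme.Modules.Hom.app q ⊤
      (show Γ((Scheme.Modules.pushforward i).obj K, ⊤) from σ)) e.inv_hom_id).symm
  rw [hσ'] at hσ
  have hxt : x ∈ locus t := hz ▸ mem_locus_of_map i hB hK ψ t hσ
  let c₀ : B ≅ CohB1.tensorPow A (j + 1) := CurveTensor.commIso A P
  refine ⟨c₀.hom.app ⊤ t, ?_⟩
  obtain ⟨W, hxW, hW⟩ := mem_locus_iff.1 hxt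
  refine mem_locus_iff.2 ⟨W, hxW, ?_⟩
  exact (AModX.app_res c₀.hom (le_top : W ≤ ⊤) t) ▸ hW.map_iso c₀

end Groth.Agent.Nakai
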