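import Groth.Agent.Nakai.BigInt
import Groth.Agent.AmpleX.Sect

/-!
Numerically trivial powers of nef modules and the growth of sections.
-/

set_option autoImplicit false
set_option linter.style.haveILetI false
set_option linter.unusedSectionVars false
set_option backward.isDefEq.respectTransparency false
set_option backward.isDefEq.respectTransparency.types false
set_option maxHeartbeats 1000000

universe u

open CategoryTheory CategoryTheory.Limits AlgebraicGeometry TopologicalSpace Opposite
open Groth.Agent.H23 Groth.Agent.H23.TrivBasic Groth.Agent.H23.PicMul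
open Groth.Agent.NefPoly Groth.Agent.NefCrit Groth.Agent.NefBig
open Groth.Agent.Snapper (DegLt)
open Groth.Agent.PnCoh.Finite (mapLin)
open scoped Polynomial

noncomputable section

namespace Groth.Agent.NefTriv

attribute [local instance] PicMul.clMonoid

/-- The coefficient next to the top one of a difference. -/
theorem coeff_comp_sub_eq {Q : ℚ[X]} {e : ℕ} (h : Q.natDegree ≤ e + 1) (a : ℚ) :
    (Q.comp (Polynomial.X + Polynomial.C a) - Q).coeff e = ((e + 1 : ℕ) : ℚ) * a * Q.coeff (e + 1) := by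
  rw [Polynomial.coeff_sub, ← Polynomial.taylor_apply, Polynomial.taylor_coeff]
  have hd : (Polynomial.hasseDeriv e Q).natDegree ≤ 1 := (Polynomial.natDegree_hasseDeriv_le Q e).trans (by omega)
  rw [Polynomial.eq_X_add_C_of_natDegree_le_one hd]
  simp only [Polynomial.eval_add, Polynomial.eval_mul, Polynomial.eval_C, Polynomial.eval_X, Polynomial.hasseDeriv_coeff,
    Nat.zero_add, Nat.choose_self, Nat.cast_one, one_mul, add_comm 1 e, Nat.choose_succ_self_right]
  push_cast
  ring

variable (k : Type u) [Field k] {X : Scheme.{u}} [X.Over (Spec (CommRingCat.of k))]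
  [IsProper (X ↘ Spec (CommRingCat.of k))]

/-- The polynomial of the powers on a closed subscheme. -/
def PowPoly (L : X.Modules) {Z : Scheme.{u}} (i : Z ⟶ X) (Q : ℚ[X]) : Prop :=
  letI : Z.Over (Spec (CommRingCat.of k)) := ⟨i ≫ (X ↘ (Spec (CommRingCat.of k)))⟩
  ∀ a : ℕ, (Curv2.euler k Z (CohB1.tensorPow ((Scheme.Modules.pullback i).obj L) a) : ℚ) = Q.eval (a : ℚ)

/-- The top self intersections on the subvarieties of dimension `m` vanish. -/
def NumTriv (L : X.Modules) (m : ℕ) : Prop :=
  ∀ (Z : Scheme.{u}) (i : Z ⟶ X) [IsClosedImmersion i] [IsIntegral Z],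
    VarDim.deg (X ↘ Spec (CommRingCat.of k)) (i (genericPoint Z)) = m → ∀ Q, PowPoly k L i Q → Q.coeff m = 0

variable {k}

theorem euler_over_congr {Y : Scheme.{u}} {p p' : Y ⟶ Spec (CommRingCat.of k)} (h : p = p') (N : Y.Modules) :
    @Curv2.euler k _ Y ⟨p⟩ N = @Curv2.euler k _ Y ⟨p'⟩ N := by subst h; rfl

theorem isProper_over {Z : Scheme.{u}} (i : Z ⟶ X) [IsClosedImmersion i] :
    letI : Z.Over (Spec (CommRingCat.of k)) := ⟨i ≫ (X ↘ (Spec (CommRingCat.of k)))⟩
    IsProper (Z ↘ Spec (CommRingCat.of k)) :=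
  inferInstanceAs (IsProper (i ≫ (X ↘ Spec (CommRingCat.of k))))

theorem powPoly_line {L : X.Modules} {Z : Scheme.{u}} {A' : Z.Modules} (i : Z ⟶ X) [IsClosedImmersion i]
    {R : MvPolynomial (Fin 2) ℚ} :
    letI : Z.Over (Spec (CommRingCat.of k)) := ⟨i ≫ (X ↘ (Spec (CommRingCat.of k)))⟩
    HasP k ((Scheme.Modules.pullback i).obj L) A' (Coh.structureModule Z) R → PowPoly k L i (line 1 0 R) := by
  letI : Z.Over (Spec (CommRingCat.of k)) := ⟨i ≫ (X ↘ (Spec (CommRingCat.of k)))⟩
  haveI : IsProper (Z ↘ Spec (CommRingCat.of k)) := isProper_over i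
  intro h a
  rw [euler_of_cl h (a := a) (b := 0) (by rw [cl_tensorPow, pow_zero, mul_one]), eval_line]
  simp

/-- The polynomial of the powers on the whole scheme. -/
theorem powPoly_id {L A : X.Modules} {P : MvPolynomial (Fin 2) ℚ} (h : HasP k L A (Coh.structureModule X) P) :
    PowPoly k L (𝟙 X) (line 1 0 P) := by
  letI hov : X.Over (Spec (CommRingCat.of k)) := inferInstance
  intro a
  have e : PicF.cl (CohB1.tensorPow L a) = PicF.cl (CohB1.tensorPow ((Scheme.Modules.pullback (𝟙 X)).obj L) a) := by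
    rw [cl_tensorPow, cl_tensorPow, cl_eq_iff.2 ⟨(Scheme.Modules.pullbackId X).app L⟩]
    rfl
  rw [euler_over_congr (Category.id_comp (X ↘ Spec (CommRingCat.of k)))]
  rw [← show Curv2.euler k X (CohB1.tensorPow L a) = _ from CurveCohLib.euler_congr (k := k) (cl_eq_iff.1 e).some,
    euler_of_cl h (a := a) (b := 0) (by rw [cl_tensorPow, pow_zero, mul_one]), eval_line]
  simp

theorem PowPoly.comp {L : X.Modules} {Z W : Scheme.{u}} (i : Z ⟶ X) [IsClosedImmersion i] (j : W ⟶ Z) {Q : ℚ[X]} :
    letI : Z.Over (Spec (CommRingCat.of k)) := ⟨i ≫ (X ↘ (Spec (CommRingCat.of k)))⟩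
    PowPoly k ((Scheme.Modules.pullback i).obj L) j Q → PowPoly k L (j ≫ i) Q := by
  intro h a
  letI : W.Over (Spec (CommRingCat.of k)) := ⟨j ≫ i ≫ (X ↘ (Spec (CommRingCat.of k)))⟩
  rw [euler_over_congr (Category.assoc j i (X ↘ Spec (CommRingCat.of k))), ← h a]
  refine congrArg Int.cast (CurveCohLib.euler_congr (k := k) (cl_eq_iff.1 ?_).some)
  rw [cl_tensorPow, cl_tensorPow]
  exact congrArg (· ^ a) (cl_eq_iff.2 ⟨((Scheme.Modules.pullbackComp j i).app L).symm⟩)

theorem NumTriv.pull {L : X.Modules} {m : ℕ} (h : NumTriv k L m) {Z : Scheme.{u}} (i : Z ⟶ X) [IsClosedImmersion i] :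
    letI : Z.Over (Spec (CommRingCat.of k)) := ⟨i ≫ (X ↘ (Spec (CommRingCat.of k)))⟩
    NumTriv k ((Scheme.Modules.pullback i).obj L) m := by
  letI : Z.Over (Spec (CommRingCat.of k)) := ⟨i ≫ (X ↘ (Spec (CommRingCat.of k)))⟩
  haveI : IsProper (Z ↘ Spec (CommRingCat.of k)) := isProper_over i
  intro W j _ _ hd Q hQ
  exact h W (j ≫ i) (((deg_closed i _).symm.trans hd)) Q (PowPoly.comp i j hQ)

section Integral

variable [IsIntegral X]

/-- The top self intersection of a nef module is nonnegative. -/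
theorem T_nonneg {n : ℕ} (hn : VarDim.deg (X ↘ Spec (CommRingCat.of k)) (genericPoint X) = n)
    {L A : X.Modules} (hL : PicF.IsInvertible L) (hA : CohB1.IsAmple A) (hnef : NefC k L)
    {P : MvPolynomial (Fin 2) ℚ} (hP : HasP k L A (Coh.structureModule X) P) : 0 ≤ T n P 1 0 := by
  have h := T_pos_of_nef k n X hn hL hA hnef P hP
  by_contra hlt
  obtain ⟨ε, hε, hball⟩ := Metric.eventually_nhds_iff.1
    ((continuous_T n P).continuousAt.eventually (gt_mem_nhds (not_le.1 hlt)))
  exact absurd (h (ε / 2) (half_pos hε)) (not_lt.2 (hball (by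
    rw [Real.dist_eq, sub_zero, abs_of_pos (half_pos hε)]; linarith)).le)

/-- Cutting by a section of a power of the first module. -/
theorem exists_cut_first {L A : X.Modules} (hL : PicF.IsInvertible L) (hA : PicF.IsInvertible A) {e ν : ℕ}
    (hd : VarDim.deg (X ↘ Spec (CommRingCat.of k)) (genericPoint X) = e + 1)
    {s : Γ(CohB1.tensorPow L ν, ⊤)} (hs : s ≠ 0) {P : MvPolynomial (Fin 2) ℚ}
    (hP : HasP k L A (Coh.structureModule X) P) :
    Coh.IsCoh (cokernel (InvX.ofSect s)) ∧
      (∀ x ∈ CohB1.support (cokernel (InvX.ofSect s)), VarDim.deg (X ↘ Spec (CommRingCat.of k)) x ≤ e) ∧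
      ∃ R, HasP k L A (cokernel (InvX.ofSect s)) R ∧ T e R 1 0 = ((e + 1 : ℕ) : ℝ) * ν * T (e + 1) P 1 0 := by
  haveI := CurveCohLib.isNoetherian_of_proper (k := k) (X := X)
  let f := InvX.ofSect s
  have hN : PicF.IsInvertible (CohB1.tensorPow L ν) := InvX.isInvertible_tensorPow hL ν
  haveI := CurveAmple.mono_ofSect hN hs
  have hNc := AmpleVan.isCoh_invertible hN
  have hOc : Coh.IsCoh (Coh.structureModule X) := QCoh.isCoh_structureModule'
  have hQ : Coh.IsCoh (cokernel f) := QCoh.isCoh_cokernel hOc.1 hNc f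
  have hQd : ∀ x ∈ CohB1.support (cokernel f), VarDim.deg (X ↘ Spec (CommRingCat.of k)) x ≤ e := fun x hx => by
    have := deg_support_cokernel (k := k) hN hs hx
    omega
  refine ⟨hQ, hQd, ?_⟩
  obtain ⟨R, hRd, hR⟩ := exists_hasP (k := k) hL hA hQ (e + 1) fun x hx => Nat.lt_succ_of_le (hQd x hx)
  refine ⟨R, hR, ?_⟩
  obtain ⟨P', hdeg, hP'⟩ := exists_hasP (k := k) hL hA (F := Coh.structureModule X) hOc
    (e + 2) fun x _ => by have := deg_le_generic (k := k) x; omega
  obtain rfl := hasP_unique hP hP'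
  obtain ⟨hRn, hRc⟩ := line_coeff 1 0 hRd
  obtain ⟨hPn, hPc⟩ := line_coeff 1 0 hdeg
  rw [Rat.cast_one, Rat.cast_zero] at hRc hPc
  have hS : (ShortComplex.mk f (cokernel.π f) (cokernel.condition f)).ShortExact :=
    .mk' (ShortComplex.exact_of_g_is_cokernel _ (cokernelIsCokernel f)) inferInstance inferInstance
  have hline : line 1 0 R = (line 1 0 P).comp (Polynomial.X + Polynomial.C (ν : ℚ)) - line 1 0 P :=
    ParShLib.eq_of_eval_nat fun a => by
      have h := congrFun (Snapper.χs_add k (inv_two hL hA) hS hOc hNc hQ) ![a, 0]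
      rw [Pi.add_apply] at h
      dsimp only at h
      rw [hP ![a, 0], hR ![a, 0],
        show Snapper.χs k ![L, A] (CohB1.tensorPow L ν) ![a, 0] = MvPolynomial.eval ![((a + ν : ℕ) : ℚ), ((0 : ℕ) : ℚ)] P from
          euler_of_cl hP (by
            rw [cl_two, cl_tensorPow, ← pow_add, Nat.add_comm ν]
            rfl), cast_two] at h
      simp only [Polynomial.eval_sub, Polynomial.eval_comp, Polynomial.eval_add, Polynomial.eval_X, Polynomial.eval_C,
        eval_line, one_mul, zero_mul]
      simp only [Matrix.cons_val_zero, Matrix.cons_val_one, Matrix.cons_val_fin_one, Nat.cast_zero, Nat.cast_add] at h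
      linarith
  rw [← hRc, ← hPc, hline, coeff_comp_sub_eq hPn]
  push_cast
  ring

end Integral

variable (k) in
/-- Numerical triviality propagates to higher dimensions. -/
theorem NumTriv.top {m : ℕ} : ∀ (d : ℕ), m ≤ d → ∀ (X : Scheme.{u}) [X.Over (Spec (CommRingCat.of k))]
    [IsProper (X ↘ Spec (CommRingCat.of k))] [IsIntegral X],
    VarDim.deg (X ↘ Spec (CommRingCat.of k)) (genericPoint X) = d → ∀ {L A : X.Modules},
      PicF.IsInvertible L → CohB1.IsAmple A → NefC k L → NumTriv k L m → ∀ P,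
        HasP k L A (Coh.structureModule X) P → T d P 1 0 = 0 := by
  intro d hmd
  induction d, hmd using Nat.le_induction with
  | base =>
    intro X _ _ _ hd L A hL hA hnef htriv P hP
    haveI := CurveCohLib.isNoetherian_of_proper (k := k) (X := X)
    obtain ⟨P', hdeg, hP'⟩ := exists_hasP (k := k) hL hA.1 (F := Coh.structureModule X) QCoh.isCoh_structureModule'
      (m + 1) fun x _ => by have := deg_le_generic (k := k) x; omega
    obtain rfl := hasP_unique hP hP'
    obtain ⟨-, hc⟩ := line_coeff 1 0 hdeg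
    rw [Rat.cast_one, Rat.cast_zero] at hc
    rw [← hc, htriv X (𝟙 X) hd _ (powPoly_id hP), Rat.cast_zero]
  | succ e hme ih =>
    intro X _ _ _ hd L A hL hA hnef htriv P hP
    haveI := CurveCohLib.isNoetherian_of_proper (k := k) (X := X)
    by_contra hne
    have hpos : 0 < T (e + 1) P 1 0 := lt_of_le_of_ne (T_nonneg hd hL hA hnef hP) (Ne.symm hne)
    obtain ⟨a, ha, hgen⟩ := exists_generated k hA
    have hA' := AmpleX.isAmple_tensorPow hA ha
    obtain ⟨P', -, hP'⟩ := exists_hasP (k := k) hL hA'.1 (F := Coh.structureModule X) QCoh.isCoh_structureModule'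
      (e + 2) fun x _ => by have := deg_le_generic (k := k) x; omega
    obtain ⟨hn1, -⟩ : T (e + 1) P' 1 0 = T (e + 1) P 1 0 ∧ True := by
      refine ⟨?_, trivial⟩
      obtain ⟨P'', hdeg, hP''⟩ := exists_hasP (k := k) hL hA.1 (F := Coh.structureModule X) QCoh.isCoh_structureModule'
        (e + 2) fun x _ => by have := deg_le_generic (k := k) x; omega
      obtain rfl := hasP_unique hP hP''
      obtain ⟨P₃, hdeg', hP₃⟩ := exists_hasP (k := k) hL hA'.1 (F := Coh.structureModule X) QCoh.isCoh_structureModule'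
        (e + 2) fun x _ => by have := deg_le_generic (k := k) x; omega
      obtain rfl := hasP_unique hP' hP₃
      obtain ⟨-, h1⟩ := line_coeff 1 0 hdeg
      obtain ⟨-, h2⟩ := line_coeff 1 0 hdeg'
      rw [Rat.cast_one, Rat.cast_zero] at h1 h2
      rw [← h1, ← h2, ParShLib.eq_of_eval_nat (P := line 1 0 P') (Q := line 1 0 P)
        fun b => (powPoly_id hP' b).symm.trans (powPoly_id hP b)]
    obtain ⟨m', φ, hm', hφ⟩ := exists_mono_of_grows hd hL
      (grows_of_T_pos hd hL hA' (hgen a le_rfl) hnef hP' (hn1 ▸ hpos)) hA'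
    obtain ⟨t, ht⟩ := exists_section_of_generated hA'.1 (hgen a le_rfl)
    haveI := hφ
    haveI := CurveAmple.mono_ofSect hA'.1 ht
    have hs : InvX.one (InvX.ofSect t ≫ φ) ≠ 0 := haveI : Mono (InvX.ofSect t ≫ φ) := mono_comp _ _
      one_ne_zero_of_mono _
    obtain ⟨hQ, hQd, R, hR, hRT⟩ := exists_cut_first (k := k) hL hA.1 hd hs hP
    have hzero : ∀ (Z : Scheme.{u}) (i : Z ⟶ X) [IsClosedImmersion i] [IsIntegral Z],
        VarDim.deg (X ↘ Spec (CommRingCat.of k)) (i (genericPoint Z)) = e → ∀ S,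
          HasP k L A ((Coh.push i).obj (Coh.structureModule Z)) S → T e S 1 0 = 0 := fun Z i _ _ hi S hS => by
      letI : Z.Over (Spec (CommRingCat.of k)) := ⟨i ≫ (X ↘ (Spec (CommRingCat.of k)))⟩
      haveI : IsProper (Z ↘ Spec (CommRingCat.of k)) := isProper_over i
      haveI : CompactSpace Z := i.isClosedEmbedding.compactSpace
      exact ih Z ((deg_closed i _).trans hi) (PicClLib.isInvertible_pullback i hL)
        (AmpleVan.FiniteSurj.isAmple_pullback_of_isAffineHom i hA) (hnef.pull i hL) (htriv.pull i) S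
        ((hasP_push_iff hL hA.1 i S).1 hS)
    have h1 := (devissage_fun hL hA.1 (fun S => T e S 1 0) (fun S S' => T_add e S S' 1 0) e
      (fun S hS => T_eq_zero hS 1 0) (fun Z i _ _ hi S hS => (hzero Z i hi S hS).ge) hQ hQd hR).1
    have h2 := (devissage_fun hL hA.1 (fun S => -T e S 1 0) (fun S S' => by rw [T_add]; ring) e
      (fun S hS => by rw [T_eq_zero hS]; ring) (fun Z i _ _ hi S hS => by rw [hzero Z i hi S hS]; simp) hQ hQd hR).1
    rw [hRT] at h1 h2
    have : 0 < ((e + 1 : ℕ) : ℝ) * m' * T (e + 1) P 1 0 := by positivity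
    linarith

variable (k) in
/-- The sections of the powers are `o(μ ^ m)`. -/
def Small (L : X.Modules) (m : ℕ) (F : X.Modules) : Prop :=
  ∀ ε : ℝ, 0 < ε → ∀ᶠ q : ℕ in Filter.atTop, ∀ᶠ μ : ℕ in Filter.atTop,
    (h0 k (CohB1.tensorMod F (CohB1.tensorPow L (q * μ))) : ℝ) ≤ ε * ((q * μ : ℕ) : ℝ) ^ m

theorem small_of_le {L F : X.Modules} {m : ℕ}
    (h : ∀ ε : ℝ, 0 < ε → ∀ᶠ q : ℕ in Filter.atTop, ∃ R : ℚ[X], R.natDegree ≤ m ∧
      ((R.coeff m : ℚ) : ℝ) < ε * (q : ℝ) ^ m ∧ ∀ᶠ μ : ℕ in Filter.atTop,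
        (h0 k (CohB1.tensorMod F (CohB1.tensorPow L (q * μ))) : ℚ) ≤ R.eval (μ : ℚ)) : Small k L m F := by
  intro ε hε
  refine (h ε hε).mono fun q ⟨R, hR, hRc, hRm⟩ => ?_
  obtain ⟨r, hr1, hr2⟩ := exists_rat_btwn hRc
  have hd : (Polynomial.C r * Polynomial.X ^ m - R).natDegree ≤ m :=
    (Polynomial.natDegree_sub_le _ _).trans (max_le (Polynomial.natDegree_C_mul_X_pow_le _ _) hR)
  obtain ⟨c, hc, hcm⟩ := eventually_ge hd (by
    rw [Polynomial.coeff_sub, Polynomial.coeff_C_mul_X_pow, if_pos rfl, sub_pos]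
    exact Rat.cast_lt.1 hr1)
  filter_upwards [hRm, hcm] with μ h1 h2
  simp only [Polynomial.eval_sub, Polynomial.eval_mul, Polynomial.eval_C, Polynomial.eval_pow, Polynomial.eval_X] at h2
  have h3 : (h0 k (CohB1.tensorMod F (CohB1.tensorPow L (q * μ))) : ℚ) ≤ r * (μ : ℚ) ^ m := by
    have : 0 ≤ c * (μ : ℚ) ^ m := by positivity
    linarith
  have h4 : (h0 k (CohB1.tensorMod F (CohB1.tensorPow L (q * μ))) : ℝ) ≤ (r : ℝ) * (μ : ℝ) ^ m := by
    exact_mod_cast h3
  refine h4.trans ?_
  rw [Nat.cast_mul, mul_pow, ← mul_assoc]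
  exact mul_le_mul_of_nonneg_right hr2.le (by positivity)

variable (k) in
/-- Dévissage of smallness. -/
theorem small_of_numTriv (m : ℕ) : ∀ (d : ℕ) (X : Scheme.{u}) [X.Over (Spec (CommRingCat.of k))]
    [IsProper (X ↘ Spec (CommRingCat.of k))] {L A : X.Modules}, PicF.IsInvertible L → CohB1.IsAmple A →
      NefC k L → NumTriv k L m → ∀ {F : X.Modules}, Coh.IsCoh F →
        (∀ x ∈ CohB1.support F, VarDim.deg (X ↘ Spec (CommRingCat.of k)) x ≤ d) → Small k L m F := by
  intro d
  induction d using Nat.strong_induction_on with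
  | _ d IH =>
  -- integral schemes of dimension at most `d`
  have key : ∀ (Z : Scheme.{u}) [Z.Over (Spec (CommRingCat.of k))] [IsProper (Z ↘ Spec (CommRingCat.of k))]
      [IsIntegral Z], VarDim.deg (Z ↘ Spec (CommRingCat.of k)) (genericPoint Z) ≤ d → ∀ {L A : Z.Modules},
        PicF.IsInvertible L → CohB1.IsAmple A → NefC k L → NumTriv k L m → Small k L m (Coh.structureModule Z) := by
    intro Z _ _ _ hle L A hL hA hnef htriv
    haveI := CurveCohLib.isNoetherian_of_proper (k := k) (X := Z)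
    obtain ⟨a, ha, hgen⟩ := exists_generated k hA
    have hA' := AmpleX.isAmple_tensorPow hA ha
    obtain ⟨e, he⟩ : ∃ e, VarDim.deg (Z ↘ Spec (CommRingCat.of k)) (genericPoint Z) = e := ⟨_, rfl⟩
    obtain ⟨P, hPd, hP⟩ := exists_hasP (k := k) hL hA'.1 (F := Coh.structureModule Z) QCoh.isCoh_structureModule'
      (e + 1) fun x _ => by have := deg_le_generic (k := k) x; omega
    rcases Nat.lt_or_ge m e with hme | hem
    · -- above the critical dimension
      obtain ⟨e', rfl⟩ : ∃ e', e = e' + 1 := ⟨e - 1, by omega⟩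
      have hT := NumTriv.top k (e' + 1) hme.le Z he hL hA' hnef htriv P hP
      obtain ⟨B', hB', ⟨eB⟩⟩ := PicInv.exists_inverse hA'.1
      have hBB : PicF.cl (CohB1.tensorPow A a) * PicF.cl B' = 1 := by
        rw [← cl_tensor, PicMul.one_def]; exact cl_eq_iff.2 ⟨eB⟩
      obtain ⟨s, hs⟩ := exists_section_of_generated hA'.1 (hgen a le_rfl)
      let f := InvX.ofSect s
      haveI := CurveAmple.mono_ofSect hA'.1 hs
      have hBc := AmpleVan.isCoh_invertible hA'.1
      have hOc : Coh.IsCoh (Coh.structureModule Z) := QCoh.isCoh_structureModule'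
      have hQ : Coh.IsCoh (cokernel f) := QCoh.isCoh_cokernel hOc.1 hBc f
      have hF : Coh.IsCoh (CohB1.tensorMod B' (cokernel f)) := AmpleVan.isCoh_tensor (AmpleVan.isCoh_invertible hB') hQ
      have hsm := IH e' (by omega) Z hL hA' hnef htriv hF fun x hx => by
        have := deg_support_cokernel (k := k) hA'.1 hs (CurveTensor.support_tensor_subset hx)
        omega
      intro ε hε
      filter_upwards [hsm ε hε, Filter.eventually_gt_atTop 0] with q hq hq0
      filter_upwards [hq, Filter.eventually_gt_atTop 0] with μ hμ hμ0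
      refine le_trans ?_ hμ
      let N := CohB1.tensorMod B' (CohB1.tensorPow L (q * μ))
      have hN : PicF.IsInvertible N := InvX.isInvertible_tensorMod hB' (InvX.isInvertible_tensorPow hL _)
      have hS : (ShortComplex.mk f (cokernel.π f) (cokernel.condition f)).ShortExact :=
        .mk' (ShortComplex.exact_of_g_is_cokernel _ (cokernelIsCokernel f)) inferInstance inferInstance
      obtain ⟨f₁, g₁, w₁, hS₁⟩ := ses_twist hS hN
      have hNc := AmpleVan.isCoh_invertible hN
      have h3 := h0_le_add (k := k) hS₁ (AmpleVan.isCoh_tensor hOc hNc) (AmpleVan.isCoh_tensor hBc hNc)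
        (AmpleVan.isCoh_tensor hQ hNc)
      have e1 : h0 k (CohB1.tensorMod (CohB1.tensorPow A a) N) =
          h0 k (CohB1.tensorMod (Coh.structureModule Z) (CohB1.tensorPow L (q * μ))) := h0_congr_cl (by
        rw [cl_tensor, cl_tensor, cl_tensor, ← mul_assoc, hBB, ← PicMul.one_def])
      have e2 : h0 k (CohB1.tensorMod (Coh.structureModule Z) N) = 0 := by
        rw [show h0 k (CohB1.tensorMod (Coh.structureModule Z) N) = h0 k N from h0_congr (CurveTensor.structureTensorIso N)]
        by_contra h0'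
        obtain ⟨σ, hσ⟩ := CurveAmple.exists_section_ne_zero
          (Module.nontrivial_of_finrank_pos (R := k) (Nat.pos_of_ne_zero h0'))
        haveI := CurveAmple.mono_ofSect hN hσ
        obtain ⟨g, hg⟩ := mono_of_mono_unit (InvX.ofSect σ) hA'.1 (Q := CohB1.tensorPow L (q * μ)) (by
          rw [cl_tensor, mul_right_comm, mul_comm (PicF.cl B'), hBB, one_mul])
        have := hg
        exact absurd hT (T_pos_of_grows he hL hA' (hgen a le_rfl) hnef
          (grows_of_mono he hL (Nat.mul_pos hq0 hμ0) hA' g) hP).ne'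
      have e3 : h0 k (CohB1.tensorMod (cokernel f) N) =
          h0 k (CohB1.tensorMod (CohB1.tensorMod B' (cokernel f)) (CohB1.tensorPow L (q * μ))) := h0_congr_cl (by
        rw [cl_tensor, cl_tensor, cl_tensor, cl_tensor, ← mul_assoc, mul_comm (PicF.cl (cokernel f))])
      replace h3 : h0 k (CohB1.tensorMod (CohB1.tensorPow A a) N) ≤ h0 k (CohB1.tensorMod (Coh.structureModule Z) N) +
        h0 k (CohB1.tensorMod (cokernel f) N) := h3
      rw [e1, e2, zero_add, e3] at h3
      exact_mod_cast h3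
    · -- at most the critical dimension
      refine small_of_le fun ε hε => ?_
      rcases lt_or_eq_of_le hem with hlt | rfl
      · haveI : Z.IsSeparated := AmpleVan.isSeparated_of_proper (A := k)
        have hM : CohB1.IsAmple (G2 L (CohB1.tensorPow A a) 1 1) := by
          refine AmpleX.isAmple_of_iso (cl_eq_iff.1 ?_).some (isAmple_of_nef k hL hA' hnef one_pos)
          rw [cl_G2, cl_tensor, cl_tensorPow, pow_one, pow_one]
        obtain ⟨R, hR, -, hRm⟩ := exists_h0_le (k := k) hL hA'.1 (hgen a le_rfl) 1 1 hM e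
          (F := Coh.structureModule Z) QCoh.isCoh_structureModule'
          (fun x _ => (deg_le_generic (k := k) x).trans he.le) hP
        obtain ⟨m₀, hm₀⟩ := Filter.eventually_atTop.1 hRm
        filter_upwards [Filter.eventually_gt_atTop 0] with q hq
        refine ⟨R.comp (Polynomial.C (q : ℚ) * Polynomial.X), ?_, ?_, ?_⟩
        · refine Polynomial.natDegree_comp_le.trans ?_
          rw [Polynomial.natDegree_C_mul_X _ (Nat.cast_ne_zero.2 hq.ne'), mul_one]
          omega
        · rw [Polynomial.comp_C_mul_X_coeff, Polynomial.coeff_eq_zero_of_natDegree_lt (by omega), zero_mul,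
            Rat.cast_zero]
          positivity
        · filter_upwards [Filter.eventually_ge_atTop m₀] with μ hμ
          rw [Polynomial.eval_comp, Polynomial.eval_mul, Polynomial.eval_C, Polynomial.eval_X, ← Nat.cast_mul]
          refine le_trans (le_of_eq ?_) (hm₀ (q * μ) (hμ.trans (Nat.le_mul_of_pos_left _ hq)) 0 (Nat.zero_le _))
          rw [h0_congr_cl (k := k) (show PicF.cl (CohB1.tensorMod (Coh.structureModule Z) (CohB1.tensorPow L (q * μ))) =
            PicF.cl (CohB1.tensorMod (Coh.structureModule Z) (G2 L (CohB1.tensorPow A a) (1 * (q * μ)) 0)) by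
              rw [cl_tensor, cl_tensor, cl_G2, cl_tensorPow, one_mul (q * μ), pow_zero, mul_one])]
      · have hT := NumTriv.top k e le_rfl Z he hL hA' hnef htriv P hP
        obtain ⟨δ, hδ, hball⟩ := Metric.eventually_nhds_iff.1
          ((continuous_T e P).continuousAt.eventually (gt_mem_nhds (hT.trans_lt hε)))
        obtain ⟨q₀, hq₀⟩ := exists_nat_gt (1 / δ)
        filter_upwards [Filter.eventually_ge_atTop q₀, Filter.eventually_gt_atTop 0] with q hq hq0
        have hM : CohB1.IsAmple (G2 L (CohB1.tensorPow A a) q 1) := by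
          refine AmpleX.isAmple_of_iso (cl_eq_iff.1 ?_).some (isAmple_of_nef k hL hA' hnef hq0)
          rw [cl_G2, cl_tensor, cl_tensorPow, pow_one]
        obtain ⟨R, hR, hRc, hRm⟩ := exists_h0_le (k := k) hL hA'.1 (hgen a le_rfl) q 1 hM e
          (F := Coh.structureModule Z) QCoh.isCoh_structureModule'
          (fun x _ => (deg_le_generic (k := k) x).trans he.le) hP
        have hq' : (0 : ℝ) < q := Nat.cast_pos.2 hq0
        refine ⟨R, hR, hRc.trans_lt ?_, hRm.mono fun μ hμ => ?_⟩
        · rw [Nat.cast_one, show T e P (q : ℝ) 1 = (q : ℝ) ^ e * T e P 1 (1 / q) by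
            rw [← T_smul, mul_one, mul_one_div_cancel hq'.ne'], mul_comm ε]
          refine mul_lt_mul_of_pos_left (hball ?_) (pow_pos hq' e)
          rw [Real.dist_eq, sub_zero, abs_of_pos (one_div_pos.2 hq'), div_lt_iff₀ hq']
          rw [div_lt_iff₀ hδ] at hq₀
          have : (q₀ : ℝ) ≤ q := Nat.cast_le.2 hq
          nlinarith
        · refine le_trans (le_of_eq ?_) (hμ 0 (Nat.zero_le _))
          rw [h0_congr_cl (k := k) (show PicF.cl (CohB1.tensorMod (Coh.structureModule Z) (CohB1.tensorPow L (q * μ))) =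
            PicF.cl (CohB1.tensorMod (Coh.structureModule Z) (G2 L (CohB1.tensorPow A a) (q * μ) 0)) by
              rw [cl_tensor, cl_tensor, cl_G2, cl_tensorPow, pow_zero, mul_one])]
  intro X _ _ L A hL hA hnef htriv F hF hd
  haveI := CurveCohLib.isNoetherian_of_proper (k := k) (X := X)
  induction QCoh.filt_of_isCoh hF with
  | @zero N h =>
    intro ε hε
    refine Filter.Eventually.of_forall fun q => Filter.Eventually.of_forall fun μ => ?_
    haveI := AmpleVan.isEquivalence_tw (InvX.isInvertible_tensorPow hL (q * μ))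
    rw [h0_isZero (show IsZero (CohB1.tensorMod N (CohB1.tensorPow L (q * μ))) from
      (AmpleVan.tw (CohB1.tensorPow L (q * μ))).map_isZero h), Nat.cast_zero]
    positivity
  | @step N M φ' _ _ hNc hMc hex ih =>
    obtain ⟨Z, i, hi, hZ, I, ι, hι, hI, hI0, ⟨e⟩⟩ := hex
    haveI := hi; haveI := hZ; haveI := hι
    have hc := QCoh.isCoh_cokernel hNc.1 hMc φ'
    have hS : (ShortComplex.mk φ' (cokernel.π φ') (cokernel.condition φ')).ShortExact :=
      .mk' (ShortComplex.exact_of_g_is_cokernel _ (cokernelIsCokernel φ')) ‹_› inferInstance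
    have hSub : CohB1.support N ⊆ CohB1.support M := QCoh.mem_support_of_mono hNc.1 hMc.1 φ'
    have hCs : CohB1.support (cokernel φ') ⊆ CohB1.support M := QCoh.support_of_epi hMc.1 hc.1 (cokernel.π φ')
    have hξ : i (genericPoint Z) ∈ CohB1.support M := hCs (by
      rw [QCoh.support_iso e hc.1, QCoh.support_push_ideal i ι hI hI0]
      exact subset_closure rfl)
    letI : Z.Over (Spec (CommRingCat.of k)) := ⟨i ≫ (X ↘ (Spec (CommRingCat.of k)))⟩
    haveI : IsProper (Z ↘ Spec (CommRingCat.of k)) := isProper_over i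
    haveI : CompactSpace Z := i.isClosedEmbedding.compactSpace
    haveI := CurveCohLib.isNoetherian_of_proper (k := k) (X := Z)
    have hZs := key Z ((deg_closed i _).trans_le (hd _ hξ)) (PicClLib.isInvertible_pullback i hL)
      (AmpleVan.FiniteSurj.isAmple_pullback_of_isAffineHom i hA) (hnef.pull i hL) (htriv.pull i)
    intro ε hε
    filter_upwards [ih hNc (fun x hx => hd x (hSub hx)) (ε / 2) (half_pos hε), hZs (ε / 2) (half_pos hε)] with q h1 h2
    filter_upwards [h1, h2] with μ g1 g2
    let G := CohB1.tensorPow L (q * μ)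
    have hG : PicF.IsInvertible G := InvX.isInvertible_tensorPow hL _
    obtain ⟨f₁, g₁, w₁, hS₁⟩ := ses_twist hS hG
    have hGc := AmpleVan.isCoh_invertible hG
    have h3 := h0_le_add (k := k) hS₁ (AmpleVan.isCoh_tensor hNc hGc) (AmpleVan.isCoh_tensor hMc hGc)
      (AmpleVan.isCoh_tensor hc hGc)
    replace h3 : h0 k (CohB1.tensorMod M G) ≤ h0 k (CohB1.tensorMod N G) + h0 k (CohB1.tensorMod (cokernel φ') G) := h3
    haveI : Mono ((Coh.push i).map ι) := Functor.map_mono _ ι
    obtain ⟨g₂, hg₂⟩ := mono_twist (e.hom ≫ (Coh.push i).map ι) hG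
    have hO := QCoh.isCoh_push_structure (X := X) i
    have h4 : h0 k (CohB1.tensorMod (cokernel φ') G) ≤
        h0 k (CohB1.tensorMod ((Coh.push i).obj (Coh.structureModule Z)) G) :=
      haveI := hg₂; h0_le_of_mono g₂ (AmpleVan.isCoh_tensor hO hGc)
    obtain ⟨e₂⟩ := AmpleVan.FiniteSurj.nonempty_push_twist i (Coh.structureModule Z) hG
    obtain ⟨e₃⟩ := AmpleVan.RelVanish.pullback_tensorPow i L (q * μ)
    obtain ⟨e₄⟩ := AmpleVan.RelVanish.tensor_congr (Iso.refl (Coh.structureModule Z)) e₃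
    have h5 : h0 k (CohB1.tensorMod ((Coh.push i).obj (Coh.structureModule Z)) G) =
        h0 k (CohB1.tensorMod (Coh.structureModule Z) (CohB1.tensorPow ((Scheme.Modules.pullback i).obj L) (q * μ))) := by
      refine (h0_congr (e₂ ≪≫ (Scheme.Modules.pushforward i).mapIso e₄)).trans ?_
      obtain ⟨l⟩ := PnCoh.exists_linearEquiv_push k i rfl (AmpleVan.isCoh_tensor QCoh.isCoh_structureModule'
        (AmpleVan.isCoh_invertible (InvX.isInvertible_tensorPow (PicClLib.isInvertible_pullback i hL) _))).1 0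
      exact l.finrank_eq.symm
    have h6 : (h0 k (CohB1.tensorMod M G) : ℝ) ≤ (h0 k (CohB1.tensorMod N G) : ℝ) +
        (h0 k (CohB1.tensorMod (Coh.structureModule Z)
          (CohB1.tensorPow ((Scheme.Modules.pullback i).obj L) (q * μ))) : ℝ) := by
      exact_mod_cast h3.trans (Nat.add_le_add_left (h4.trans h5.le) _)
    refine h6.trans ((add_le_add g1 g2).trans ?_)
    rw [← add_mul, add_halves]

end Groth.Agent.NefTriv
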