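import Groth.Agent.Nakai.Big
import Groth.Agent.Lib.IntAlt

/-!
The top self intersection number and the leading coefficient.
-/

set_option autoImplicit false
set_option linter.style.haveILetI false
set_option linter.unusedSectionVars false
set_option backward.isDefEq.respectTransparency false
set_option backward.isDefEq.respectTransparency.types false
set_option maxHeartbeats 1000000

universe u

open CategoryTheory CategoryTheory.Limits AlgebraicGeometry TopologicalSpace Opposite
open Groth.Agent.H23 Groth.Agent.H23.TrivBasic Groth.Agent.H23.PicMul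
open Groth.Agent.NefPoly Groth.Agent.NefCrit
open Groth.Agent.Snapper (DegLt)
open scoped Polynomial

noncomputable section

namespace Groth.Agent.NefBig

attribute [local instance] PicMul.clMonoid

theorem inverse_facts {X : Scheme.{u}} {L Linv : X.Modules} (hL : PicF.IsInvertible L)
    (h : ClSub.IsInverseOf Linv L) : PicF.IsInvertible Linv ∧ PicF.cl L * PicF.cl Linv = 1 := by
  obtain ⟨D, hD, ⟨eD⟩⟩ := PicInv.exists_inverse hL
  obtain ⟨e⟩ := h
  have h1 : PicF.cl L * PicF.cl D = 1 := by rw [← cl_tensor, PicMul.one_def]; exact cl_eq_iff.2 ⟨eD⟩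
  have h2 : PicF.cl Linv * PicF.cl L = 1 := by rw [← cl_tensor, PicMul.one_def]; exact cl_eq_iff.2 ⟨e⟩
  refine ⟨?_, by rw [mul_comm]; exact h2⟩
  have h3 : PicF.cl Linv = PicF.cl D := by
    rw [← mul_one (PicF.cl Linv), ← h1, ← mul_assoc, h2, one_mul]
  exact PicMul.isInvertible_of_iso (cl_eq_iff.1 h3.symm).some hD

variable {k : Type u} [Field k] {X : Scheme.{u}} [X.Over (Spec (CommRingCat.of k))]
  [IsProper (X ↘ Spec (CommRingCat.of k))] [IsIntegral X] {n : ℕ}

/-- The self intersection number is a positive multiple of the leading coefficient. -/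
theorem intNum_pos_iff (hdim : topologicalKrullDim X = n) {L A Linv : X.Modules} (hL : PicF.IsInvertible L)
    (hA : PicF.IsInvertible A) (hLinv : ClSub.IsInverseOf Linv L) {P : MvPolynomial (Fin 2) ℚ}
    (hP : HasP k L A (Coh.structureModule X) P) :
    0 < FGA.intNum k X n (fun _ : Fin n => Linv) (Coh.structureModule X) ↔ 0 < T n P 1 0 := by
  haveI := CurveCohLib.isNoetherian_of_proper (k := k) (X := X)
  obtain ⟨hLi, hone⟩ := inverse_facts hL hLinv
  have hn := deg_genericPoint_of_dim (k := k) hdim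
  obtain ⟨P', hdeg, hP'⟩ := exists_hasP (k := k) hL hA (F := Coh.structureModule X) QCoh.isCoh_structureModule'
    (n + 1) fun x _ => by have := deg_le_generic (k := k) x; omega
  obtain rfl := hasP_unique hP hP'
  obtain ⟨R, hRdeg, hR⟩ := exists_hasP (k := k) hL hLi (F := Coh.structureModule X) QCoh.isCoh_structureModule'
    (n + 1) fun x _ => by have := deg_le_generic (k := k) x; omega
  let Q := line 1 0 P
  let Qi := line 0 1 R
  obtain ⟨hQd, hQc⟩ := line_coeff 1 0 hdeg
  rw [Rat.cast_one, Rat.cast_zero] at hQc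
  have hQ : ∀ (N : X.Modules) (a : ℕ), PicF.cl N = PicF.cl L ^ a → (Curv2.euler k X N : ℚ) = Q.eval (a : ℚ) :=
    fun N a h => by
      rw [euler_of_cl hP (a := a) (b := 0) (by rw [h, pow_zero, mul_one]), eval_line]
      simp
  have hQi : ∀ (N : X.Modules) (a : ℕ), PicF.cl N = PicF.cl Linv ^ a → (Curv2.euler k X N : ℚ) = Qi.eval (a : ℚ) :=
    fun N a h => by
      rw [euler_of_cl hR (a := 0) (b := a) (by rw [h, pow_zero, one_mul]), eval_line]
      simp
  have hid : MvPolynomial.aeval ![(MvPolynomial.X 0 : MvPolynomial (Fin 2) ℚ) + MvPolynomial.X 1, MvPolynomial.X 1] R =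
      Polynomial.aeval (MvPolynomial.X 0 : MvPolynomial (Fin 2) ℚ) Q := poly_ext fun v => by
    have h1 : MvPolynomial.eval (fun i => (v i : ℚ)) (Polynomial.aeval (MvPolynomial.X 0 : MvPolynomial (Fin 2) ℚ) Q) =
        Q.eval (v 0 : ℚ) := by
      show MvPolynomial.aeval (fun i => (v i : ℚ)) _ = _
      rw [← Polynomial.aeval_algHom_apply, MvPolynomial.aeval_X, Polynomial.coe_aeval_eq_eval]
    rw [h1, Snapper.eval_aeval, show (fun i => MvPolynomial.eval (fun i => (v i : ℚ))
      ((![MvPolynomial.X 0 + MvPolynomial.X 1, MvPolynomial.X 1] : Fin 2 → MvPolynomial (Fin 2) ℚ) i)) =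
      ![((v 0 + v 1 : ℕ) : ℚ), (v 1 : ℚ)] from funext fun i => by fin_cases i <;> simp]
    rw [← euler_of_cl hR (N := CohB1.tensorPow L (v 0)) (a := v 0 + v 1) (b := v 1) (by
      rw [cl_tensorPow, pow_add, mul_assoc, ← mul_pow, hone, one_pow, mul_one])]
    exact hQ _ _ (cl_tensorPow _ _)
  have hneg : Qi = Q.comp (Polynomial.C (-1) * Polynomial.X) := ParShLib.eq_of_eval_nat fun m => by
    have h := congrArg (MvPolynomial.eval ![-(m : ℚ), (m : ℚ)]) hid
    rw [Snapper.eval_aeval] at h
    have h1 : MvPolynomial.eval ![-(m : ℚ), (m : ℚ)] (Polynomial.aeval (MvPolynomial.X 0 : MvPolynomial (Fin 2) ℚ) Q) =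
        Q.eval (-(m : ℚ)) := by
      show MvPolynomial.aeval ![-(m : ℚ), (m : ℚ)] _ = _
      rw [← Polynomial.aeval_algHom_apply, MvPolynomial.aeval_X, Polynomial.coe_aeval_eq_eval]
      rfl
    rw [h1, show (fun i => MvPolynomial.eval ![-(m : ℚ), (m : ℚ)]
      ((![MvPolynomial.X 0 + MvPolynomial.X 1, MvPolynomial.X 1] : Fin 2 → MvPolynomial (Fin 2) ℚ) i)) =
      ![0, (m : ℚ)] from funext fun i => by fin_cases i <;> simp] at h
    rw [Polynomial.eval_comp, Polynomial.eval_mul, Polynomial.eval_C, Polynomial.eval_X, neg_one_mul, eval_line,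
      zero_mul, one_mul, h]
  obtain ⟨c, hc, hcoeff⟩ := Nakai.coeff_sumSubst n Qi
  have hcoh : Cyc.CohLe (SnapLead.δ k) n (Coh.structureModule X) :=
    SnapLead.cohLe_of_dim k QCoh.isCoh_structureModule'
      ((Topology.IsInducing.subtypeVal).topologicalKrullDim_le.trans hdim.le)
  have halt := IntAlt.coeff_eq_alt k hcoh (L := fun _ : Fin n => Linv) (fun _ => hLi) (Nakai.sumSubst n Qi) fun v => by
    rw [Nakai.eval_sumSubst]
    exact hQi _ _ (by rw [Nakai.cl_tensorPows, ← PicMul.one_def, one_mul])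
  rw [IntAlt.intNum_eq_alt k hdim.le (fun _ => hLi) QCoh.isCoh_structureModule']
  rw [show (Nakai.sumSubst n Qi).coeff (IntCoeff.ones n) = c * Qi.coeff n from hcoeff, hneg,
    Polynomial.comp_C_mul_X_coeff] at halt
  push_cast at halt
  have h2 : ((IntNumCycle.alt k n (fun _ : Fin n => Linv) (Coh.structureModule X) : ℤ) : ℚ) = c * Q.coeff n := by
    refine mul_left_cancel₀ (pow_ne_zero n (show (-1 : ℚ) ≠ 0 by norm_num)) ?_
    rw [← halt]
    ring
  rw [← hQc]
  constructor
  · intro h
    have h3 : (0 : ℚ) < ((IntNumCycle.alt k n (fun _ : Fin n => Linv) (Coh.structureModule X) : ℤ) : ℚ) := Int.cast_pos.2 h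
    rw [h2] at h3
    exact Rat.cast_pos.2 (pos_of_mul_pos_right h3 hc.le)
  · intro h
    have h3 : (0 : ℚ) < ((IntNumCycle.alt k n (fun _ : Fin n => Linv) (Coh.structureModule X) : ℤ) : ℚ) := by
      rw [h2]
      exact mul_pos hc (Rat.cast_pos.1 h)
    exact Int.cast_pos.1 h3

/-- For nef modules growth of sections is positivity of the self intersection. -/
theorem grows_iff_intNum_pos (hdim : topologicalKrullDim X = n) {H L Linv : X.Modules} (hH : CohB1.IsAmple H)
    (hL : PicF.IsInvertible L) (hLinv : ClSub.IsInverseOf Linv L) (hnef : NefC k L) :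
    Grows k L n ↔ 0 < FGA.intNum k X n (fun _ : Fin n => Linv) (Coh.structureModule X) := by
  haveI := CurveCohLib.isNoetherian_of_proper (k := k) (X := X)
  have hn := deg_genericPoint_of_dim (k := k) hdim
  obtain ⟨a, ha, hgen⟩ := exists_generated k hH
  have hA := AmpleX.isAmple_tensorPow hH ha
  obtain ⟨P, -, hP⟩ := exists_hasP (k := k) hL hA.1 (F := Coh.structureModule X) QCoh.isCoh_structureModule'
    (n + 1) fun x _ => by have := deg_le_generic (k := k) x; omega
  rw [intNum_pos_iff hdim hL hA.1 hLinv hP]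
  exact ⟨fun h => T_pos_of_grows hn hL hA (hgen a le_rfl) hnef h hP,
    fun h => grows_of_T_pos hn hL hA (hgen a le_rfl) hnef hP h⟩

end Groth.Agent.NefBig
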