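import Groth.Agent.Nakai.NumTriv

/-!
Intersection numbers on subvarieties and numerical triviality.
-/

set_option autoImplicit false
set_option linter.style.haveILetI false
set_option linter.unusedSectionVars false
set_option backward.isDefEq.respectTransparency false
set_option backward.isDefEq.respectTransparency.types false
set_option maxHeartbeats 1000000

universe u

open CategoryTheory CategoryTheory.Limits AlgebraicGeometry TopologicalSpace Opposite
open Groth.Agent.H23 Groth.Agent.H23.TrivBasic Groth.Agent.H23.PicMul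
open Groth.Agent.NefPoly Groth.Agent.NefCrit Groth.Agent.NefBig
open Groth.Agent.Snapper (DegLt)
open scoped Polynomial

noncomputable section

namespace Groth.Agent.NefTriv

attribute [local instance] PicMul.clMonoid

variable {k : Type u} [Field k]

/-- The powers of an inverse have the reflected polynomial. -/
theorem line_inverse {V : Scheme.{u}} [V.Over (Spec (CommRingCat.of k))] [IsProper (V ↘ Spec (CommRingCat.of k))]
    {M M' : V.Modules} (hone : PicF.cl M * PicF.cl M' = 1) {R : MvPolynomial (Fin 2) ℚ}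
    (hR : HasP k M M' (Coh.structureModule V) R) :
    line 0 1 R = (line 1 0 R).comp (Polynomial.C (-1) * Polynomial.X) := by
  have hid : MvPolynomial.aeval ![(MvPolynomial.X 0 : MvPolynomial (Fin 2) ℚ) + MvPolynomial.X 1, MvPolynomial.X 1] R =
      MvPolynomial.aeval ![(MvPolynomial.X 0 : MvPolynomial (Fin 2) ℚ), 0] R := poly_ext fun v => by
    rw [Snapper.eval_aeval, Snapper.eval_aeval, show (fun i => MvPolynomial.eval (fun i => (v i : ℚ))
      ((![MvPolynomial.X 0 + MvPolynomial.X 1, MvPolynomial.X 1] : Fin 2 → MvPolynomial (Fin 2) ℚ) i)) =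
      ![((v 0 + v 1 : ℕ) : ℚ), (v 1 : ℚ)] from funext fun i => by fin_cases i <;> simp,
      show (fun i => MvPolynomial.eval (fun i => (v i : ℚ))
      ((![MvPolynomial.X 0, 0] : Fin 2 → MvPolynomial (Fin 2) ℚ) i)) =
      ![(v 0 : ℚ), ((0 : ℕ) : ℚ)] from funext fun i => by fin_cases i <;> simp]
    rw [← euler_of_cl hR (N := CohB1.tensorPow M (v 0)) (a := v 0 + v 1) (b := v 1) (by
        rw [cl_tensorPow, pow_add, mul_assoc, ← mul_pow, hone, one_pow, mul_one]),
      ← euler_of_cl hR (N := CohB1.tensorPow M (v 0)) (a := v 0) (b := 0) (by rw [cl_tensorPow, pow_zero, mul_one])]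
  refine ParShLib.eq_of_eval_nat fun m => ?_
  have h := congrArg (MvPolynomial.eval ![-(m : ℚ), (m : ℚ)]) hid
  rw [Snapper.eval_aeval, Snapper.eval_aeval,
    show (fun i => MvPolynomial.eval ![-(m : ℚ), (m : ℚ)]
      ((![MvPolynomial.X 0 + MvPolynomial.X 1, MvPolynomial.X 1] : Fin 2 → MvPolynomial (Fin 2) ℚ) i)) =
      ![0, (m : ℚ)] from funext fun i => by fin_cases i <;> simp,
    show (fun i => MvPolynomial.eval ![-(m : ℚ), (m : ℚ)]
      ((![MvPolynomial.X 0, 0] : Fin 2 → MvPolynomial (Fin 2) ℚ) i)) =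
      ![-(m : ℚ), 0] from funext fun i => by fin_cases i <;> simp] at h
  rw [Polynomial.eval_comp, Polynomial.eval_mul, Polynomial.eval_C, Polynomial.eval_X, neg_one_mul, eval_line,
    eval_line, zero_mul, one_mul, one_mul, zero_mul]
  exact h

variable {X : Scheme.{u}} [X.Over (Spec (CommRingCat.of k))] [IsProper (X ↘ Spec (CommRingCat.of k))]

/-- Self intersection numbers on subvarieties are multiples of leading coefficients. -/
theorem intNum_push {n m : ℕ} (hdim : topologicalKrullDim X = n) {L Linv : X.Modules} (hL : PicF.IsInvertible L)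
    (hLinv : ClSub.IsInverseOf Linv L) {V : Scheme.{u}} (i : V ⟶ X) [IsClosedImmersion i] [IsIntegral V]
    (hm : VarDim.deg (X ↘ Spec (CommRingCat.of k)) (i (genericPoint V)) = m) {Q : ℚ[X]} (hQ : PowPoly k L i Q) :
    ∃ c : ℚ, 0 < c ∧ (FGA.intNum k X n (fun _ : Fin m => Linv)
      ((Scheme.Modules.pushforward i).obj (Coh.structureModule V)) : ℚ) = c * Q.coeff m := by
  haveI := CurveCohLib.isNoetherian_of_proper (k := k) (X := X)
  obtain ⟨hLi, hone⟩ := inverse_facts hL hLinv
  letI : V.Over (Spec (CommRingCat.of k)) := ⟨i ≫ (X ↘ (Spec (CommRingCat.of k)))⟩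
  haveI : IsProper (V ↘ Spec (CommRingCat.of k)) := isProper_over i
  haveI := CurveCohLib.isNoetherian_of_proper (k := k) (X := V)
  have hone' : PicF.cl ((Scheme.Modules.pullback i).obj L) * PicF.cl ((Scheme.Modules.pullback i).obj Linv) = 1 := by
    have h1 := cl_pull_tensor i L Linv 1 1
    rw [pow_one, pow_one] at h1
    rw [← h1, PicMul.one_def]
    obtain ⟨e⟩ := cl_eq_iff.1 (show PicF.cl (CohB1.tensorMod (CohB1.tensorPow L 1) (CohB1.tensorPow Linv 1)) =
        PicF.cl (Coh.structureModule X) by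
      rw [cl_tensor, cl_tensorPow, cl_tensorPow, pow_one, pow_one, hone, PicMul.one_def])
    exact cl_eq_iff.2 ⟨(Scheme.Modules.pullback i).mapIso e ≪≫ (PicClLib.nonempty_pullback_structureModule i).some⟩
  obtain ⟨R, hRd, hR⟩ := exists_hasP (k := k) (PicClLib.isInvertible_pullback i hL)
    (PicClLib.isInvertible_pullback i hLi) (F := Coh.structureModule V) QCoh.isCoh_structureModule' (m + 1)
    fun x _ => by
      have h1 := deg_le_generic (k := k) x
      have h2 : VarDim.deg (V ↘ Spec (CommRingCat.of k)) (genericPoint V) = m := (deg_closed i _).trans hm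
      omega
  have hQR : Q = line 1 0 R := ParShLib.eq_of_eval_nat fun a => (hQ a).symm.trans (powPoly_line i hR a)
  obtain ⟨c, hc, hcoeff⟩ := Nakai.coeff_sumSubst m (line 0 1 R)
  refine ⟨c, hc, ?_⟩
  have hpush : Coh.IsCoh ((Coh.push i).obj (Coh.structureModule V)) := QCoh.isCoh_push_structure i
  have hsupp : topologicalKrullDim ↥(CohB1.support ((Coh.push i).obj (Coh.structureModule V))) ≤ (m : ℕ) := by
    refine (H23.TopDim.dim_le_dim_of_subset ((QCoh.support_push_subset i QCoh.isQCoh_structureModule).trans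
      (QCoh.range_eq_closure i).le)).trans ?_
    rw [VarDim.topologicalKrullDim_closure_singleton (X ↘ Spec (CommRingCat.of k)), hm]
    rfl
  have hcoh : Cyc.CohLe (SnapLead.δ k) m ((Coh.push i).obj (Coh.structureModule V)) :=
    SnapLead.cohLe_of_dim k hpush hsupp
  have halt := IntAlt.coeff_eq_alt k hcoh (L := fun _ : Fin m => Linv) (fun _ => hLi)
    (Nakai.sumSubst m (line 0 1 R)) fun v => by
      have h1 := (hasP_push_iff hL hLi i R).2 hR ![0, ∑ j, v j]
      rw [cast_two] at h1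
      rw [Nakai.eval_sumSubst, eval_line, zero_mul, one_mul]
      refine Eq.trans ?_ (h1.trans ?_)
      · refine congrArg Int.cast (CurveCohLib.euler_congr (k := k) (cl_eq_iff.1 ?_).some)
        rw [Nakai.cl_tensorPows, cl_two]
        simp
      · simp
  rw [IntAlt.intNum_eq_alt k hdim.le (fun _ => hLi) hpush]
  rw [show (Nakai.sumSubst m (line 0 1 R)).coeff (IntCoeff.ones m) = c * (line 0 1 R).coeff m from hcoeff,
    line_inverse hone' hR, Polynomial.comp_C_mul_X_coeff, ← hQR] at halt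
  push_cast at halt
  refine mul_left_cancel₀ (pow_ne_zero m (show (-1 : ℚ) ≠ 0 by norm_num)) ?_
  rw [← halt]
  ring

/-- Vanishing intersection numbers on all subvarieties give numerical triviality. -/
theorem numTriv_of_intNum {n m : ℕ} (hdim : topologicalKrullDim X = n) {L Linv : X.Modules} (hL : PicF.IsInvertible L)
    (hLinv : ClSub.IsInverseOf Linv L)
    (h : ∀ (V : Scheme.{u}) (i : V ⟶ X) [IsClosedImmersion i], IsIntegral V → topologicalKrullDim V = (m : ℕ) →
      FGA.intNum k X n (fun _ : Fin m => Linv) ((Scheme.Modules.pushforward i).obj (Coh.structureModule V)) = 0) :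
    NumTriv k L m := by
  intro V i _ _ hm Q hQ
  letI : V.Over (Spec (CommRingCat.of k)) := ⟨i ≫ (X ↘ (Spec (CommRingCat.of k)))⟩
  haveI : IsProper (V ↘ Spec (CommRingCat.of k)) := isProper_over i
  have hV : topologicalKrullDim V = (m : ℕ) := by
    rw [VarDim.topologicalKrullDim_eq_deg_genericPoint (V ↘ Spec (CommRingCat.of k)),
      show VarDim.deg (V ↘ Spec (CommRingCat.of k)) (genericPoint V) = m from (deg_closed i _).trans hm]
    rfl
  obtain ⟨c, hc, e⟩ := intNum_push hdim hL hLinv i hm hQ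
  rw [h V i inferInstance hV, Int.cast_zero] at e
  exact (mul_eq_zero.1 e.symm).resolve_left hc.ne'

/-- Growth of order `m` is impossible for a nef module trivial on the subvarieties of dimension `m`. -/
theorem not_growth {m : ℕ} {A L : X.Modules} (hA : CohB1.IsAmple A) (hL : PicF.IsInvertible L) (hnef : NefC k L)
    (htriv : NumTriv k L m) :
    ¬ (∃ ν a : ℕ, 0 < ν ∧ 0 < a ∧ ∀ μ : ℕ, 1 ≤ μ →
        μ ^ m ≤ a * Module.finrank k (Coh.HH X (CohB1.tensorPow L (ν * μ)) 0)) := by
  rintro ⟨ν, a, hν, ha, h⟩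
  haveI := CurveCohLib.isNoetherian_of_proper (k := k) (X := X)
  obtain ⟨d, hd⟩ : ∃ d : ℕ, ∀ x ∈ CohB1.support (Coh.structureModule X),
      VarDim.deg (X ↘ Spec (CommRingCat.of k)) x ≤ d := by
    rcases isEmpty_or_nonempty X with hX | hX
    · exact ⟨0, fun x => (hX.false x).elim⟩
    · obtain ⟨x₀, -, hx₀, -⟩ := VarDim.exists_deg_eq_topologicalKrullDim (X ↘ Spec (CommRingCat.of k))
      exact ⟨VarDim.deg (X ↘ Spec (CommRingCat.of k)) x₀, fun x _ => hx₀ x⟩
  have hs := small_of_numTriv k m d X hL hA hnef htriv (F := Coh.structureModule X) QCoh.isCoh_structureModule' hd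
    (1 / (2 * (a : ℝ) * (ν : ℝ) ^ m)) (by positivity)
  obtain ⟨q₀, hq₀⟩ := Filter.eventually_atTop.1 hs
  obtain ⟨μ₀, hμ₀⟩ := Filter.eventually_atTop.1 (hq₀ (ν * (q₀ + 1))
    ((Nat.le_succ q₀).trans (Nat.le_mul_of_pos_left _ hν)))
  have h1 := hμ₀ (μ₀ + 1) (Nat.le_succ _)
  have h2 := h ((q₀ + 1) * (μ₀ + 1)) (Nat.one_le_iff_ne_zero.2 (Nat.mul_ne_zero (by omega) (by omega)))
  rw [h0_congr (k := k) (F := CohB1.tensorMod (Coh.structureModule X) (CohB1.tensorPow L (ν * (q₀ + 1) * (μ₀ + 1))))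
    (CurveTensor.structureTensorIso _)] at h1
  rw [show ν * ((q₀ + 1) * (μ₀ + 1)) = ν * (q₀ + 1) * (μ₀ + 1) by ring] at h2
  have h3 : ((((q₀ + 1) * (μ₀ + 1) : ℕ) : ℝ)) ^ m ≤
      (a : ℝ) * (h0 k (CohB1.tensorPow L (ν * (q₀ + 1) * (μ₀ + 1))) : ℝ) := by exact_mod_cast h2
  have hw : (0 : ℝ) < (((q₀ + 1) * (μ₀ + 1) : ℕ) : ℝ) ^ m := by positivity
  have h4 : (a : ℝ) * (1 / (2 * (a : ℝ) * (ν : ℝ) ^ m) * (((ν * (q₀ + 1) * (μ₀ + 1) : ℕ)) : ℝ) ^ m) =
      (((q₀ + 1) * (μ₀ + 1) : ℕ) : ℝ) ^ m / 2 := by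
    rw [show ν * (q₀ + 1) * (μ₀ + 1) = ν * ((q₀ + 1) * (μ₀ + 1)) by ring, Nat.cast_mul, mul_pow]
    have ha' : (a : ℝ) ≠ 0 := by positivity
    have hν' : (ν : ℝ) ^ m ≠ 0 := by positivity
    field_simp
  nlinarith [mul_le_mul_of_nonneg_left h1 (Nat.cast_nonneg a : (0 : ℝ) ≤ a)]

end Groth.Agent.NefTriv
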