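import Groth.Agent.Nakai.Main
import Groth.Agent.Lib.SurfAmple

/-!
The Nakai-Moishezon criterion on a surface.
-/

set_option autoImplicit false
set_option linter.style.haveILetI false
set_option linter.unusedSectionVars false
set_option backward.isDefEq.respectTransparency false
set_option backward.isDefEq.respectTransparency.types false
set_option maxHeartbeats 1000000

universe u

open CategoryTheory CategoryTheory.Limits AlgebraicGeometry TopologicalSpace Opposite
open Groth.Agent.H23 Groth.Agent.H23.PicMul
open scoped Polynomial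

noncomputable section

namespace Groth.Agent.Nakai

attribute [local instance] PicMul.clMonoid

variable {k : Type u} [Field k] {X : Scheme.{u}} [X.Over (Spec (CommRingCat.of k))]
  [IsProper (X ↘ Spec (CommRingCat.of k))]

/-- The Euler characteristics of powers on a surface. -/
theorem euler_pow_surface (hdim : topologicalKrullDim X ≤ 2) {L : X.Modules} (hL : PicF.IsInvertible L) :
    ∀ m : ℕ, 2 * Curv2.euler k X (CohB1.tensorPow L m) =
      SurfPairing.pair k (PicF.cl L) (PicF.cl L) * m ^ 2 +
        (2 * (Curv2.euler k X L - Curv2.euler k X (Coh.structureModule X)) -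
          SurfPairing.pair k (PicF.cl L) (PicF.cl L)) * m + 2 * Curv2.euler k X (Coh.structureModule X)
  | 0 => by
    show 2 * Curv2.euler k X (Coh.structureModule X) = _
    push_cast
    ring
  | m + 1 => by
    have h1 := SurfAmple.pair_pow (k := k) hdim hL hL m
    have h2 : Curv2.euler k X (CohB1.tensorPow L (m + 1)) =
        SurfPairing.χ k (PicF.cl L * PicF.cl (CohB1.tensorPow L m)) := by
      rw [← SurfPairing.χ_cl k, cl_tensorPow, cl_tensorPow, pow_succ']
    rw [h2]
    rw [SurfPairing.pair, SurfPairing.χ_one, SurfPairing.χ_cl, SurfPairing.χ_cl] at h1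
    have h3 := euler_pow_surface hdim hL m
    push_cast
    linear_combination h3 + 2 * h1

variable [IsIntegral X]

variable (k) in
/-- An integral closed subscheme of full dimension is everything. -/
theorem eq_bot_of_dim {d : ℕ} (hdim : topologicalKrullDim X = d) {Z : X.IdealSheafData} [IsIntegral Z.subscheme]
    (hZ : topologicalKrullDim (Z.support : Set X) = d) : Z = ⊥ := by
  have hsup : (Z.support : Set X) = Set.univ := by
    by_contra hne
    have h := H23.TopDim.dim_lt_of_ssubset (X := X) (fun h => by
      rw [hdim] at h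
      exact ENat.natCast_ne_top d (WithBot.coe_inj.1 h)) Z.support.isClosed hne
    rw [hZ, hdim] at h
    exact lt_irrefl _ h
  have h1 : Scheme.IdealSheafData.vanishingIdeal Z.support = Z := by
    rw [Scheme.IdealSheafData.vanishingIdeal_support]
    ext U : 2
    exact (H23.RedSub.isRadical_of_isReduced_subscheme U).radical
  rw [← h1, show Z.support = ⊤ from SetLike.coe_injective hsup]
  rw [← Scheme.IdealSheafData.support_bot, Scheme.IdealSheafData.vanishingIdeal_support,
    Scheme.IdealSheafData.radical_bot]
  exact Scheme.nilradical_eq_bot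

variable (k) in
include k in
/-- Nakai-Moishezon on an integral surface: positive square and positive degree on every curve. -/
theorem isAmple_of_surface (hdim : topologicalKrullDim X = 2) {L : X.Modules} (hL : PicF.IsInvertible L)
    (hpos : 0 < SurfPairing.pair k (PicF.cl L) (PicF.cl L))
    (hcurve : ∀ Z : X.IdealSheafData, IsIntegral Z.subscheme → topologicalKrullDim (Z.support : Set X) = 1 →
      letI : Z.subscheme.Over (Spec (CommRingCat.of k)) := ⟨Z.subschemeι ≫ (X ↘ (Spec (CommRingCat.of k)))⟩
      0 < Curv2.deg k Z.subscheme ((Scheme.Modules.pullback Z.subschemeι).obj L) 1) :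
    CohB1.IsAmple L := by
  haveI := CurveCohLib.isNoetherian_of_proper (k := k) (X := X)
  refine isAmple_of_pos k hL fun Z hZ d hd hZd => ?_
  haveI := hZ
  have hd2 : d ≤ 2 := by
    have h := (topologicalKrullDim_subspace_le X (Z.support : Set X)).trans hdim.le
    rw [hZd] at h
    exact_mod_cast h
  let i := Z.subschemeι
  letI : Z.subscheme.Over (Spec (CommRingCat.of k)) := ⟨i ≫ (X ↘ (Spec (CommRingCat.of k)))⟩
  haveI : IsProper (Z.subscheme ↘ Spec (CommRingCat.of k)) :=
    inferInstanceAs (IsProper (i ≫ (X ↘ Spec (CommRingCat.of k))))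
  have hdZ : topologicalKrullDim Z.subscheme = d := by
    rw [IsHomeomorph.topologicalKrullDim_eq _
      ((i.isEmbedding.toHomeomorph).trans (Homeomorph.setCongr Z.range_subschemeι)).isHomeomorph, hZd]
  have hiL : PicF.IsInvertible ((Scheme.Modules.pullback i).obj L) := PicClLib.isInvertible_pullback i hL
  interval_cases d
  · let δ := Curv2.deg k Z.subscheme ((Scheme.Modules.pullback i).obj L) 1
    refine ⟨Polynomial.C (δ : ℚ) * Polynomial.X + Polynomial.C (Curv2.euler k Z.subscheme (Coh.structureModule Z.subscheme) : ℚ),
      Polynomial.natDegree_linear_le, ?_, fun m => ?_⟩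
    · simp only [Polynomial.coeff_add, Polynomial.coeff_C_mul, Polynomial.coeff_X_one, mul_one, Polynomial.coeff_C]
      simp only [one_ne_zero, if_false, add_zero]
      exact_mod_cast hcurve Z hZ (by exact_mod_cast hZd)
    · rw [chi_eq k hL Z m]
      have h := CurveAmple.deg_tensorPow (k := k) (by exact_mod_cast hdZ) hiL m
      unfold Curv2.deg at h
      simp only [δ, Curv2.deg, Polynomial.eval_add, Polynomial.eval_mul, Polynomial.eval_C, Polynomial.eval_X]
      push_cast at h ⊢
      have h' := congrArg (Int.cast : ℤ → ℚ) h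
      push_cast at h'
      linarith
  · have hbot : Z = ⊥ := eq_bot_of_dim (d := 2) (by exact_mod_cast hdim) hZd
    let p : ℚ := (SurfPairing.pair k (PicF.cl L) (PicF.cl L) : ℚ)
    let c : ℚ := 2 * ((Curv2.euler k X L : ℚ) - Curv2.euler k X (Coh.structureModule X)) - p
    refine ⟨Polynomial.C (p / 2) * Polynomial.X ^ 2 + Polynomial.C (c / 2) * Polynomial.X +
        Polynomial.C (Curv2.euler k X (Coh.structureModule X) : ℚ), Polynomial.natDegree_quadratic_le, ?_, fun m => ?_⟩
    · simp only [Polynomial.coeff_add, Polynomial.coeff_C_mul, Polynomial.coeff_X_pow, Polynomial.coeff_X,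
        Polynomial.coeff_C]
      norm_num
      show 0 < (SurfPairing.pair k (PicF.cl L) (PicF.cl L) : ℚ)
      exact_mod_cast hpos
    · subst hbot
      rw [chi_eq k hL ⊥ m]
      haveI : IsIso ((⊥ : X.IdealSheafData).subschemeι) := inferInstance
      have he : Curv2.euler k (⊥ : X.IdealSheafData).subscheme
          (CohB1.tensorPow ((Scheme.Modules.pullback (⊥ : X.IdealSheafData).subschemeι).obj L) m) =
          Curv2.euler k X (CohB1.tensorPow L m) := by
        obtain ⟨e₁⟩ := DivisorExt.nonempty_quotMod_iso (𝟙 X)
        have h1 := chi_eq k hL (⊥ : X.IdealSheafData) m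
        unfold chi at h1
        have hk : (𝟙 X : X ⟶ X).ker = ⊥ := Scheme.Hom.ker_eq_bot_of_isIso _
        rw [hk] at e₁
        let e₂ : ClSub.quotMod (⊥ : X.IdealSheafData) ≅ Coh.structureModule X := e₁ ≪≫ (Scheme.Modules.pushforwardId X).app _
        obtain ⟨e₃⟩ := AmpleVan.RelVanish.tensor_congr e₂ (Iso.refl (CohB1.tensorPow L m))
        let e₄ : CohB1.tensorMod (Coh.structureModule X) (CohB1.tensorPow L m) ≅ CohB1.tensorPow L m :=
          CurveTensor.structureTensorIso _
        rw [CurveCohLib.euler_congr (k := k) (e₃ ≪≫ e₄)] at h1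
        exact_mod_cast h1.symm
      rw [he]
      have h := congrArg (Int.cast : ℤ → ℚ) (euler_pow_surface (k := k) hdim.le hL m)
      push_cast at h
      simp only [p, c, Polynomial.eval_add, Polynomial.eval_mul, Polynomial.eval_C, Polynomial.eval_X, Polynomial.eval_pow]
      linarith

end Groth.Agent.Nakai
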