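import Groth.Agent.Lib.Euler
import Groth.Agent.AmpleVan.Components
import Groth.Agent.AmpleVan.Uniform
import Groth.Agent.QCoh.DevissageTheta
import Groth.Agent.H23.RedSub
import Groth.Agent.Snapper.IsoOn
import Groth.Agent.CurveCohLib.Rank

/-!
Vanishing of twists of modules supported where an invertible module is ample.
-/

set_option autoImplicit false
set_option linter.style.haveILetI false
set_option linter.unusedSectionVars false
set_option backward.isDefEq.respectTransparency false
set_option backward.isDefEq.respectTransparency.types false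

universe u

open CategoryTheory CategoryTheory.Limits AlgebraicGeometry TopologicalSpace Opposite
open Groth.Agent.PnCoh.Finite (mapLin deltaLin)

noncomputable section

namespace Groth.Agent.Nakai

open Groth.Agent

section Seq

variable (k : Type u) [Field k] {X : Scheme.{u}} [X.Over (Spec (CommRingCat.of k))] {S : ShortComplex X.Modules}

theorem surjective_f (hS : S.ShortExact) (n : ℕ) (h : Subsingleton (Coh.HH X S.X₃ n)) :
    Function.Surjective (mapLin k S.f n) := fun y => by
  have hy : y ∈ LinearMap.ker (mapLin k S.g n) := LinearMap.mem_ker.2 (Subsingleton.elim _ _)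
  rwa [← Euler.range_mapLin_f k hS n] at hy

theorem injective_f (hS : S.ShortExact) (n : ℕ) (h : Subsingleton (Coh.HH X S.X₃ n)) :
    Function.Injective (mapLin k S.f (n + 1)) := by
  rw [← LinearMap.ker_eq_bot, ← Euler.range_deltaLin k hS n, LinearMap.range_eq_bot]
  exact LinearMap.ext fun x => by rw [Subsingleton.elim x 0, map_zero, map_zero]

theorem surjective_g (hS : S.ShortExact) (n : ℕ) (h : Subsingleton (Coh.HH X S.X₁ (n + 1))) :
    Function.Surjective (mapLin k S.g n) := fun y => by
  have hy : y ∈ LinearMap.ker (deltaLin k hS n) := LinearMap.mem_ker.2 (Subsingleton.elim _ _)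
  rwa [← Euler.range_mapLin_g k hS n] at hy

theorem injective_g (hS : S.ShortExact) (n : ℕ) (h : Subsingleton (Coh.HH X S.X₁ n)) :
    Function.Injective (mapLin k S.g n) := by
  rw [← LinearMap.ker_eq_bot, ← Euler.range_mapLin_f k hS n, LinearMap.range_eq_bot]
  exact LinearMap.ext fun x => by rw [Subsingleton.elim x 0, map_zero, map_zero]

end Seq

/-- Eventual vanishing of all higher cohomology of the twists. -/
def NVan {X : Scheme.{u}} (L M : X.Modules) : Prop :=
  ∃ d₀ : ℕ, ∀ d, d₀ ≤ d → ∀ q, Subsingleton (Coh.HH X (CohB1.tensorMod M (CohB1.tensorPow L d)) (q + 1))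

variable {X : Scheme.{u}} {L : X.Modules}

theorem nvan_of_iso {M N : X.Modules} (e : M ≅ N) (h : NVan L M) : NVan L N := by
  obtain ⟨n₀, hn⟩ := h
  exact ⟨n₀, fun n h' q => QCoh.subsingleton_HH_of_iso (AmpleVan.RelVanish.tensor_congr e (Iso.refl _)).some (q + 1) (hn n h' q)⟩

theorem nvan_of_isZero (hL : PicF.IsInvertible L) {M : X.Modules} (h : IsZero M) : NVan L M := by
  refine ⟨0, fun n _ q => ?_⟩
  haveI := AmpleVan.isEquivalence_tw (InvX.isInvertible_tensorPow hL n)
  haveI : (AmpleVan.tw (CohB1.tensorPow L n)).Additive := Functor.additive_of_preserves_binary_products _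
  exact Euler.subsingleton_HH_of_isZero ((AmpleVan.tw (CohB1.tensorPow L n)).map_isZero h) (q + 1)

theorem nvan_ext (hL : PicF.IsInvertible L) {S : ShortComplex X.Modules} (hS : S.ShortExact)
    (h₁ : NVan L S.X₁) (h₃ : NVan L S.X₃) : NVan L S.X₂ := by
  obtain ⟨a, ha⟩ := h₁
  obtain ⟨b, hb⟩ := h₃
  refine ⟨max a b, fun n hn q => ?_⟩
  haveI := AmpleVan.isEquivalence_tw (InvX.isInvertible_tensorPow hL n)
  haveI : (AmpleVan.tw (CohB1.tensorPow L n)).Additive := Functor.additive_of_preserves_binary_products _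
  exact QCoh.subsingleton_HH_X₂ (hS.map_of_exact (AmpleVan.tw (CohB1.tensorPow L n))) (q + 1)
    (ha n ((le_max_left _ _).trans hn) q) (hb n ((le_max_right _ _).trans hn) q)

variable (k : Type u) [Field k] [X.Over (Spec (CommRingCat.of k))] [IsProper (X ↘ Spec (CommRingCat.of k))]

include k in
/-- Modules supported on a closed set on which `L` is ample have eventually acyclic twists. -/
theorem nvan_of_support (hL : PicF.IsInvertible L) (D : Closeds X)
    (hD : CohB1.IsAmple ((Scheme.Modules.pullback (Scheme.IdealSheafData.vanishingIdeal D).subschemeι).obj L))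
    {M : X.Modules} (hM : Coh.IsCoh M) (hs : CohB1.support M ⊆ D) : NVan L M := by
  haveI := CurveCohLib.isNoetherian_of_proper (k := k) (X := X)
  refine QCoh.devissage_ideals (NVan L) (fun _ _ ⟨e⟩ h => nvan_of_iso e h) (fun _ h => nvan_of_isZero hL h)
    (D : Set X) (fun S hS _ _ _ h₁ h₃ => nvan_ext hL hS h₁ h₃) ?_ hM hs
  intro ξ hξ _ Z i _ _ hr I ι hι hI _
  haveI := hι
  let π := X ↘ Spec (CommRingCat.of k)
  haveI : IsNoetherian Z :=
    { __ := LocallyOfFiniteType.isLocallyNoetherian i
      __ := QuasiCompact.compactSpace_of_compactSpace i }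
  let w := (Scheme.IdealSheafData.vanishingIdeal D).subschemeι
  obtain ⟨a, ha⟩ := H23.RedSub.exists_lift_closed i w
    (by rw [AmpleVan.FiniteSurj.range_vanishingIdeal, hr]; exact hξ)
  haveI : IsClosedImmersion (a ≫ w) := by rw [ha]; infer_instance
  haveI : IsClosedImmersion a := IsClosedImmersion.of_comp a w
  letI : Z.Over (Spec (CommRingCat.of k)) := ⟨i ≫ π⟩
  haveI : IsProper (Z ↘ Spec (CommRingCat.of k)) := inferInstanceAs (IsProper (i ≫ π))
  have hamp : CohB1.IsAmple ((Scheme.Modules.pullback i).obj L) :=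
    AmpleX.isAmple_of_iso ((Scheme.Modules.pullbackComp a w).app L ≪≫ (Scheme.Modules.pullbackCongr ha).app L)
      (AmpleVan.FiniteSurj.isAmple_pullback_of_isAffineHom a hD)
  obtain ⟨d₀, hd⟩ := AmpleVan.exists_vanishing (A := k) hamp
    (QCoh.isCoh_of_mono ι QCoh.isCoh_structureModule' hI)
  refine ⟨d₀, fun n hn q => ?_⟩
  have hP := InvX.isInvertible_tensorPow hL n
  obtain ⟨e⟩ := AmpleVan.FiniteSurj.nonempty_push_twist i I hP
  obtain ⟨e'⟩ := AmpleVan.RelVanish.pullback_tensorPow i L n
  have h1 := QCoh.subsingleton_HH_of_iso (AmpleVan.RelVanish.tensor_congr (Iso.refl I) e').some.symm (q + 1) (hd n hn q)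
  obtain ⟨E⟩ := QCoh.HH_push_of_isAffineHom i
    (KFlatLib.isQCoh_tensor hI (QCoh.isQCoh_pullback i (ProjUPX.isQCoh_of_isInvertible hP))) (q + 1)
  exact QCoh.subsingleton_HH_of_iso e.symm (q + 1) (@Equiv.subsingleton _ _ E.symm.toEquiv h1)

end Groth.Agent.Nakai
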